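import Mathlib
import Cfsg.Agent.Lib.Core.Subnormal
import Cfsg.Agent.Lib.Coprime.Semidirect

/-!
# Core/FixCount: products of fixed point counts under coprime action of a `p`-group
-/

set_option autoImplicit false

namespace Cfsg.Agent.Core

open Subgroup Coprime

/-- Fixed points of an automorphism. -/
def autFix {V : Type*} [Group V] (α : MulAut V) : Subgroup V :=
  α.toMonoidHom.eqLocus (MonoidHom.id V)

theorem mem_autFix {V : Type*} [Group V] {α : MulAut V} {v : V} : v ∈ autFix α ↔ α v = v := Iff.rfl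

theorem card_eq_card_inf_ker_mul {G H : Type*} [Group G] [Group H] (W : Subgroup G) (f : G →* H) :
    Nat.card W = Nat.card ↥(W ⊓ f.ker) * Nat.card (W.map f) := by
  rw [← relIndex_ker, ← inf_relIndex_left, ← relIndex_bot_left, ← relIndex_bot_left,
    relIndex_mul_relIndex _ _ _ bot_le inf_le_left]

/-- Fixed point subgroups of commuting automorphisms with pairwise trivial intersections are
independent. -/
theorem prod_card_autFix_le {V ι : Type*} [CommGroup V] [Finite V] (α : ι → MulAut V)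
    (hc : ∀ i j v, α i (α j v) = α j (α i v)) (I : Finset ι)
    (hI : ∀ i ∈ I, ∀ j ∈ I, i ≠ j → autFix (α i) ⊓ autFix (α j) = ⊥) (W : Subgroup V)
    (hW : ∀ i, ∀ w ∈ W, α i w ∈ W) : ∏ i ∈ I, Nat.card ↥(W ⊓ autFix (α i)) ≤ Nat.card W := by
  classical
  induction I using Finset.induction_on generalizing W with
  | empty => rw [Finset.prod_empty]; exact Nat.card_pos
  | insert j I hj ih =>
    let δ : V →* V := (α j).toMonoidHom / MonoidHom.id V
    have hδ : ∀ v, δ v = α j v / v := fun _ => rfl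
    have hker : δ.ker = autFix (α j) := by
      ext v; rw [MonoidHom.mem_ker, hδ, div_eq_one, mem_autFix]
    have h1 := ih (fun a ha b hb => hI a (Finset.mem_insert_of_mem ha) b
      (Finset.mem_insert_of_mem hb)) (W.map δ) (by
        rintro i _ ⟨w, hw, rfl⟩
        exact ⟨α i w, hW i w hw, by rw [hδ, hδ, map_div, hc]⟩)
    rw [Finset.prod_insert hj, card_eq_card_inf_ker_mul W δ, hker]
    refine Nat.mul_le_mul_left _ (le_trans (Finset.prod_le_prod' fun i hi => ?_) h1)
    refine card_le_of_le (le_inf (fun v hv => ?_) inf_le_right)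
    let f : ↥(W ⊓ autFix (α i)) → ↥(W ⊓ autFix (α i)) := fun u => ⟨δ u, mem_inf.2
      ⟨div_mem (hW j _ u.2.1) u.2.1, by
        rw [mem_autFix, hδ, map_div, hc, mem_autFix.1 u.2.2]⟩⟩
    have hf : Function.Injective f := by
      intro a b hab
      have h2 : (a : V) / b ∈ autFix (α i) ⊓ autFix (α j) := by
        refine mem_inf.2 ⟨div_mem (mem_inf.1 a.2).2 (mem_inf.1 b.2).2, ?_⟩
        rw [← hker, MonoidHom.mem_ker, map_div, div_eq_one]
        exact congrArg Subtype.val hab
      rw [hI i (Finset.mem_insert_of_mem hi) j (Finset.mem_insert_self _ _)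
        (fun h => hj (h ▸ hi)), mem_bot, div_eq_one] at h2
      exact Subtype.ext h2
    obtain ⟨u, hu⟩ := Finite.surjective_of_injective hf ⟨v, hv⟩
    exact ⟨u, u.2.1, congrArg Subtype.val hu⟩

variable {A : Type*} [Group A]

/-- Restriction of an action to an invariant subgroup. -/
def resAutHom {N : Type*} [Group N] (φ : A →* MulAut N) (W : Subgroup N)
    (h : ∀ a, ∀ w ∈ W, φ a w ∈ W) : A →* MulAut W where
  toFun a :=
    { toFun := fun w => ⟨φ a w, h a w w.2⟩
      invFun := fun w => ⟨φ a⁻¹ w, h a⁻¹ w w.2⟩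
      left_inv := fun w => Subtype.ext (by simp)
      right_inv := fun w => Subtype.ext (by simp)
      map_mul' := fun x y => Subtype.ext (map_mul _ _ _) }
  map_one' := by ext x; simp
  map_mul' a b := by ext x; simp

theorem coe_resAutHom {N : Type*} [Group N] (φ : A →* MulAut N) (W : Subgroup N)
    (h : ∀ a, ∀ w ∈ W, φ a w ∈ W) (a : A) (w : W) : (resAutHom φ W h a w : N) = φ a w := rfl

theorem card_fixedSub_resAutHom {N : Type*} [Group N] (φ : A →* MulAut N) (W : Subgroup N)
    (h : ∀ a, ∀ w ∈ W, φ a w ∈ W) (B : Subgroup A) :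
    Nat.card (fixedSub (resAutHom φ W h) B) = Nat.card ↥(W ⊓ fixedSub φ B) := by
  have : fixedSub (resAutHom φ W h) B = (W ⊓ fixedSub φ B).subgroupOf W := by
    ext w
    simp only [mem_fixedSub, mem_subgroupOf, mem_inf, w.2, true_and, Subtype.ext_iff, coe_resAutHom]
  rw [this, Nat.card_congr (subgroupOfEquivOfLe inf_le_left).toEquiv]

theorem card_fixedSub_eq_mul {N : Type*} [Group N] [Finite N] [Finite A] (φ : A →* MulAut N)
    (W : Subgroup N) [W.Normal] (h : ∀ a, ∀ w ∈ W, φ a w ∈ W) (B : Subgroup A)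
    (hcop : (Nat.card B).Coprime (Nat.card W)) (hsol : Group.IsSolvable B ∨ Group.IsSolvable W) :
    Nat.card (fixedSub φ B) =
      Nat.card (fixedSub (resAutHom φ W h) B) * Nat.card (fixedSub (quotAutHom φ W h) B) := by
  rw [card_fixedSub_resAutHom, card_eq_card_inf_ker_mul _ (QuotientGroup.mk' W),
    QuotientGroup.ker_mk', inf_comm]
  congr 1
  refine congrArg (fun X : Subgroup (N ⧸ W) => Nat.card X) ?_
  ext y
  constructor
  · rintro ⟨x, hx, rfl⟩ b hb
    exact congrArg QuotientGroup.mk (hx b hb)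
  · intro hy
    obtain ⟨x, rfl⟩ := QuotientGroup.mk_surjective y
    obtain ⟨n, hn, hxn⟩ := act_exists_mul_mem_fixedSub (φ := φ) (fun b _ => h b) hcop hsol
      (g := x) fun b hb => QuotientGroup.eq.1 (hy b hb).symm
    exact ⟨x * n, hxn, QuotientGroup.mk_mul_of_mem x hn⟩

theorem log_card_eq_sum_sylow {N : Type*} [Group N] [Finite N] (X : Subgroup N)
    (Q : ℕ → Subgroup N) (hQ : ∀ q : ℕ, q.Prime → IsSylowIn q (Q q) X) :
    Real.log (Nat.card X) = ∑ q ∈ (Nat.card N).primeFactors, Real.log (Nat.card (Q q)) := by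
  rw [← Real.log_prod fun q _ => Nat.cast_ne_zero.2 Nat.card_pos.ne', ← Nat.cast_prod]
  congr 2
  rw [Finset.prod_congr rfl (g := fun q => q ^ (Nat.card X).factorization q) fun q hq => by
    have := Fact.mk (Nat.prime_of_mem_primeFactors hq)
    exact (hQ q this.out).card_eq]
  conv_lhs => rw [← Nat.prod_factorization_pow_eq_self (Nat.card_pos (α := X)).ne']
  exact Finsupp.prod_of_support_subset _ (by
    rw [Nat.support_factorization]
    exact Nat.primeFactors_mono (card_subgroup_dvd_card X) Nat.card_pos.ne') _ fun _ _ => pow_zero _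

theorem sum_log_card_fixedSub_le_of_irreducible [Fintype A] {p : ℕ} [hp : Fact p.Prime]
    (hA : IsPGroup p A) {V : Type*} [CommGroup V] [Finite V] (φ : A →* MulAut V)
    (hirr : ∀ W : Subgroup V, (∀ a, ∀ w ∈ W, φ a w ∈ W) → W = ⊥ ∨ W = ⊤) (hφ : φ.range ≠ ⊥) :
    fixedSub φ ⊤ = ⊥ ∧
      p * ∑ x : A, Real.log (Nat.card (fixedSub φ (zpowers x))) ≤
        Nat.card A * Real.log (Nat.card V) := by
  have hR : IsPGroup p φ.range := hA.of_surjective _ φ.rangeRestrict_surjective
  have : Nontrivial φ.range := (nontrivial_iff_ne_bot _).2 hφ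
  have := hR.center_nontrivial
  obtain ⟨k, hk0, hk⟩ := (hR.to_subgroup (center φ.range)).nontrivial_iff_card.1 inferInstance
  obtain ⟨w, hw⟩ := exists_prime_orderOf_dvd_card' p (hk ▸ dvd_pow_self p hk0.ne')
  obtain ⟨z, hz⟩ := w.1.2
  have hzo : orderOf (φ z) = p := by rw [hz, orderOf_coe, orderOf_coe, hw]
  have hzc : ∀ a, Commute (φ a) (φ z) := fun a => by
    rw [hz]; exact congrArg Subtype.val (mem_center_iff.1 w.2 ⟨φ a, a, rfl⟩)
  have hfix : ∀ n : ℕ, 0 < n → n < p → autFix (φ z ^ n) = ⊥ := by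
    intro n h0 hn
    refine (hirr _ fun a v hv => ?_).resolve_right fun h => ?_
    · rw [mem_autFix, ← MulAut.mul_apply, ← ((hzc a).pow_right n).eq, MulAut.mul_apply,
        mem_autFix.1 hv]
    · refine pow_ne_one_of_lt_orderOf h0.ne' (hzo ▸ hn) (MulEquiv.ext fun v => ?_)
      exact mem_autFix.1 (h.ge (mem_top v))
  refine ⟨eq_bot_iff.2 fun v hv => (hfix 1 one_pos hp.out.one_lt).le
    (by rw [pow_one]; exact hv z trivial), ?_⟩
  have key : ∀ x : A, ∑ i ∈ Finset.range p,
      Real.log (Nat.card (fixedSub φ (zpowers (x * z ^ i)))) ≤ Real.log (Nat.card V) := by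
    intro x
    have hlt : ∀ i j, i < j → j < p →
        autFix (φ x * φ z ^ i) ⊓ autFix (φ x * φ z ^ j) = ⊥ := by
      intro i j hij hj
      refine eq_bot_iff.2 fun v hv => (hfix (j - i) (by omega) (by omega)).le ?_
      have h1 : (φ x * φ z ^ i) ((φ z ^ (j - i)) v) = (φ x * φ z ^ i) v := by
        rw [← MulAut.mul_apply, mul_assoc, ← pow_add, Nat.add_sub_cancel' hij.le,
          mem_autFix.1 hv.1, mem_autFix.1 hv.2]
      exact (φ x * φ z ^ i).injective h1
    have h1 := prod_card_autFix_le (fun i : ℕ => φ x * φ z ^ i) (fun i j v => by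
      rw [← MulAut.mul_apply, ← MulAut.mul_apply]
      congr 1
      exact (Commute.mul_left ((Commute.refl _).mul_right ((hzc x).pow_right j))
        (((hzc x).symm.pow_left i).mul_right (Commute.pow_pow_self _ _ _))).eq) (Finset.range p)
      (fun i hi j hj hij => by
        rcases lt_or_gt_of_ne hij with h | h
        · exact hlt i j h (Finset.mem_range.1 hj)
        · rw [inf_comm]; exact hlt j i h (Finset.mem_range.1 hi)) ⊤ fun _ _ _ => mem_top _
    rw [← Real.log_prod fun q _ => Nat.cast_ne_zero.2 Nat.card_pos.ne', ← Nat.cast_prod]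
    refine Real.log_le_log (Nat.cast_pos.2 (Finset.prod_pos fun _ _ => Nat.card_pos))
      (Nat.cast_le.2 (le_of_eq_of_le (Finset.prod_congr rfl fun i _ => ?_)
        (h1.trans card_top.le)))
    congr 2
    ext v
    rw [top_inf_eq, mem_fixedSub_zpowers, mem_autFix, map_mul, map_pow]
  have h2 := Finset.sum_le_sum fun x (_ : x ∈ Finset.univ) => key x
  have h3 : ∀ i : ℕ, ∑ x : A, Real.log (Nat.card (fixedSub φ (zpowers (x * z ^ i)))) =
      ∑ x : A, Real.log (Nat.card (fixedSub φ (zpowers x))) := fun i =>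
    Equiv.sum_comp (Equiv.mulRight (z ^ i)) fun x => Real.log (Nat.card (fixedSub φ (zpowers x)))
  rw [Finset.sum_comm] at h2
  simpa only [h3, Finset.sum_const, Finset.card_range, nsmul_eq_mul, Finset.card_univ,
    Nat.card_eq_fintype_card (α := A)] using h2

universe u in
/-- For a `p`-group `A` acting on a `p'`-group `N`:
`∏_{x ∈ A} |C_N(x) : C_N(A)|^p ≤ |N : C_N(A)|^{|A|}`. -/
theorem sum_log_card_fixedSub_le [Fintype A] {p : ℕ} [hp : Fact p.Prime] (hA : IsPGroup p A)
    (N : Type u) [Group N] [Finite N] (φ : A →* MulAut N) (hN : ¬ p ∣ Nat.card N) :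
    p * ∑ x : A, Real.log (Nat.card (fixedSub φ (zpowers x))) +
        Nat.card A * Real.log (Nat.card (fixedSub φ ⊤)) ≤
      Nat.card A * Real.log (Nat.card N) +
        p * (Nat.card A * Real.log (Nat.card (fixedSub φ ⊤))) := by
  revert φ hN
  refine induction_on_card (P := fun N _ _ => ∀ φ : A →* MulAut N, ¬ p ∣ Nat.card N →
    p * ∑ x : A, Real.log (Nat.card (fixedSub φ (zpowers x))) +
        Nat.card A * Real.log (Nat.card (fixedSub φ ⊤)) ≤
      Nat.card A * Real.log (Nat.card N) +
        p * (Nat.card A * Real.log (Nat.card (fixedSub φ ⊤)))) (fun N _ _ ih => ?_) N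
  intro φ hN
  have hcop : ∀ (B : Subgroup A) (W : Subgroup N), (Nat.card B).Coprime (Nat.card W) := by
    intro B W
    obtain ⟨k, hk⟩ := IsPGroup.iff_card.1 (hA.to_subgroup B)
    rw [hk]
    exact ((Nat.Prime.coprime_iff_not_dvd hp.out).2 fun h =>
      hN (h.trans (card_subgroup_dvd_card W))).pow_left k
  have hsol : ∀ (B : Subgroup A) (W : Subgroup N), Group.IsSolvable B ∨ Group.IsSolvable W :=
    fun B _ => Or.inl (isSolvable_of_isPGroup (hA.to_subgroup B))
  by_cases h1 : ∃ W : Subgroup N, W.Normal ∧ (∀ a, ∀ w ∈ W, φ a w ∈ W) ∧ W ≠ ⊥ ∧ W ≠ ⊤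
  · obtain ⟨W, _, hW, hb, ht⟩ := h1
    have h2 := ih W (card_lt_of_ne_top ht) (resAutHom φ W hW)
      fun h => hN (h.trans (card_subgroup_dvd_card W))
    have h3 := ih (N ⧸ W) (card_quotient_lt hb) (quotAutHom φ W hW)
      fun h => hN (h.trans (card_quotient_dvd_card W))
    have h4 : ∀ B : Subgroup A, Real.log (Nat.card (fixedSub φ B)) =
        Real.log (Nat.card (fixedSub (resAutHom φ W hW) B)) +
          Real.log (Nat.card (fixedSub (quotAutHom φ W hW) B)) := fun B => by
      rw [card_fixedSub_eq_mul φ W hW B (hcop B W) (hsol B W), Nat.cast_mul,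
        Real.log_mul (Nat.cast_ne_zero.2 Nat.card_pos.ne') (Nat.cast_ne_zero.2 Nat.card_pos.ne')]
    have h5 : Real.log (Nat.card N) = Real.log (Nat.card W) + Real.log (Nat.card (N ⧸ W)) := by
      rw [card_eq_card_quotient_mul_card_subgroup W, Nat.cast_mul, add_comm,
        Real.log_mul (Nat.cast_ne_zero.2 Nat.card_pos.ne') (Nat.cast_ne_zero.2 Nat.card_pos.ne')]
    simp only [h4, h5, Finset.sum_add_distrib]
    linarith
  by_cases h2 : φ.range = ⊥
  · have h3 : ∀ B : Subgroup A, fixedSub φ B = ⊤ := fun B => eq_top_iff.2 fun v _ b _ => by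
      rw [mem_bot.1 (h2.le ⟨b, rfl⟩), MulAut.one_apply]
    simp only [h3, card_top, Finset.sum_const, Finset.card_univ, nsmul_eq_mul,
      Nat.card_eq_fintype_card (α := A)]
    linarith
  by_cases h3 : center N = ⊤
  · let _ : CommGroup N := Group.commGroupOfCenterEqTop h3
    obtain ⟨h4, h5⟩ := sum_log_card_fixedSub_le_of_irreducible hA φ (fun W hW => by
      by_contra h
      push Not at h
      exact h1 ⟨W, inferInstance, hW, h⟩) h2
    simp only [h4, card_bot, Nat.cast_one, Real.log_one, mul_zero, add_zero]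
    exact h5
  have hc : center N = ⊥ := by
    by_contra h
    exact h1 ⟨center N, inferInstance, fun a w hw => by
      rw [← characteristic_iff_map_eq.1 (inferInstance : (center N).Characteristic) (φ a)]
      exact mem_map_of_mem _ hw, h, h3⟩
  have hex : ∀ q : ℕ, ∃ Q : Subgroup N, q.Prime → IsSylowIn q Q ⊤ ∧ InvBy φ ⊤ Q := by
    intro q
    by_cases hq : q.Prime
    · have := Fact.mk hq
      obtain ⟨Q, hQ⟩ := act_exists_invariant_sylow (φ := φ) (B := ⊤) (H := ⊤) q
        (fun _ _ _ _ => mem_top _) (hcop _ _) (hsol _ _)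
      exact ⟨Q, fun _ => hQ⟩
    · exact ⟨⊥, fun h => absurd h hq⟩
  choose Q hQ using hex
  have h4 : ∀ B : Subgroup A, Real.log (Nat.card (fixedSub φ B)) =
      ∑ q ∈ (Nat.card N).primeFactors, Real.log (Nat.card ↥(Q q ⊓ fixedSub φ B)) := fun B =>
    log_card_eq_sum_sylow _ _ fun q hq => by
      have := Fact.mk hq
      have h5 := act_isSylowIn_inf_fixedSub (φ := φ) (B := B) (fun _ _ _ _ => mem_top _)
        (hcop _ _) (hsol _ _) (hQ q hq).1 fun b _ => (hQ q hq).2 b trivial
      rwa [top_inf_eq] at h5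
  have h5 := log_card_eq_sum_sylow ⊤ Q fun q hq => (hQ q hq).1
  rw [card_top] at h5
  simp only [h4, h5, Finset.mul_sum]
  rw [Finset.sum_comm, ← Finset.sum_add_distrib, ← Finset.sum_add_distrib]
  refine Finset.sum_le_sum fun q hq => ?_
  have hq' := Nat.prime_of_mem_primeFactors hq
  have := Fact.mk hq'
  have h6 := ih (Q q) (card_lt_of_ne_top fun ht => by
    have hp' : IsPGroup q N := (ht ▸ (hQ q hq').1.2.1 : IsPGroup q (⊤ : Subgroup N)).of_equiv
      topEquiv
    have : Nontrivial N := by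
      by_contra hn
      exact h3 (@Subsingleton.elim _ (by
        rw [not_nontrivial_iff_subsingleton] at hn; infer_instance) _ _)
    exact (nontrivial_iff_ne_bot _).1 hp'.center_nontrivial hc)
    (resAutHom φ (Q q) fun a => (hQ q hq').2 a trivial)
    fun h => hN (h.trans (card_subgroup_dvd_card _))
  simpa only [card_fixedSub_resAutHom, Finset.mul_sum] using h6

end Cfsg.Agent.Core
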