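import Cfsg.Agent.Lib.OO.BG1
import Cfsg.Agent.Lib.Coprime.TIHall

/-! # Subgroups of a simple group of order 1092 -/

set_option autoImplicit false
set_option linter.unusedSectionVars false

namespace Cfsg.Agent.Ord1092

open Subgroup Cfsg.Agent.Coprime Cfsg.Agent.OO
open scoped Pointwise

variable {G : Type*} [Group G] [Finite G] {H K P : Subgroup G}

theorem exists_count {p : ℕ} [Fact p.Prime] (hP : Syl p P K) :
    ∃ n, n % p = 1 % p ∧ ♯(𝐍(P) ⊓ K) * n = ♯K := by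
  refine ⟨_, ?_, card_inf_mul_relIndex _ _⟩
  have h := hP.toTransfer
  rw [relIndex, subgroupOf_normalizer_eq h.le, ← h.coe_toSylow]
  exact h.toSylow.card_eq_index_normalizer ▸ card_sylow_modEq_one p K

theorem relIndex_cent_dvd (hP : IsCyclic P) : (𝐂(P)).relIndex 𝐍(P) ∣ (♯P).totient := by
  rw [← IsCyclic.card_mulAut, relIndex, ← normalizerMonoidHom_ker, index_ker]
  exact card_subgroup_dvd_card _

theorem exists_le_card_prime {p : ℕ} (hp : p.Prime) (h : p ∣ ♯K) : ∃ P ≤ K, ♯P = p := by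
  obtain ⟨x, hx, h1⟩ := cauchy hp h
  exact ⟨zpowers x, zpowers_le.2 hx, by rw [Nat.card_zpowers, h1]⟩

theorem le_norm_of_two (h : H ≤ K) (h2 : ♯K = 2 * ♯H) : K ≤ 𝐍(H) := by
  have h3 : H.relIndex K = 2 := by
    have := card_mul_relIndex h
    rw [h2, mul_comm 2] at this
    exact Nat.eq_of_mul_eq_mul_left (card_pos' H) this
  exact (normalIn_iff_subgroupOf.2 ⟨h, normal_of_index_eq_two h3⟩).2

variable [IsSimpleGroup G] (hG : Nat.card G = 1092)
include hG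

theorem le_index (hK : K ≠ ⊤) : 13 ≤ K.index := by
  have h1 : K.normalCore = ⊥ := (IsSimpleGroup.eq_bot_or_eq_top_of_normal _ inferInstance).resolve_right
    fun e => hK (eq_top_iff.2 (e ▸ K.normalCore_le))
  rw [normalCore_eq_ker, MonoidHom.ker_eq_bot_iff] at h1
  have h2 := card_dvd_of_injective _ h1
  have := Fintype.ofFinite (G ⧸ K)
  classical
  rw [hG, Nat.card_perm] at h2
  exact (Nat.Prime.dvd_factorial (by norm_num)).1 ((by norm_num : 13 ∣ 1092).trans h2)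

theorem card_le84 (hK : K ≠ ⊤) : ♯K ≤ 84 := by
  have h1 := le_index hG hK
  have h2 := K.card_mul_index
  rw [hG] at h2
  nlinarith

theorem norm_ne_top (h0 : H ≠ ⊥) (h1 : H ≠ ⊤) : 𝐍(H) ≠ ⊤ := fun e =>
  (IsSimpleGroup.eq_bot_or_eq_top_of_normal H (normalizer_eq_top_iff.1 e)).elim h0 h1

theorem syl_of_card {p k : ℕ} [Fact p.Prime] (h : ♯P = p ^ k) (h2 : ¬ p ^ (k + 1) ∣ 1092)
    (hK : P ≤ K) : Syl p P K := by
  refine ⟨hK, isPGroup_of_card_prime_pow h, fun e => h2 ?_⟩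
  rw [← hG, pow_succ, ← h]
  refine Dvd.dvd.trans ?_ (card_subgroup_dvd_card K)
  rw [← card_mul_relIndex hK]
  exact Nat.mul_dvd_mul_left _ e

theorem ne_top_of_card (h : ♯P ≠ 1092) : P ≠ ⊤ := fun e => h (by rw [e, card_top, hG])

theorem not_norm_le_cent {p : ℕ} [hp : Fact p.Prime] (hP : Syl p P ⊤) (h0 : P ≠ ⊥) (h1 : P ≠ ⊤) :
    ¬ 𝐍(P) ≤ 𝐂(P) := by
  intro h
  have h2 := Burnside_normal_complement hP (inf_le_right.trans h)
  rcases IsSimpleGroup.eq_bot_or_eq_top_of_normal (Op' p (⊤ : Subgroup G))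
    (normalizer_eq_top_iff.1 (eq_top_iff.2 (Opi_normal _ _).2)) with e | e
  · have := h2.sup_eq
    rw [e, bot_sup_eq] at this
    exact h1 this
  · have := h2.inf_eq
    rw [e, top_inf_eq] at this
    exact h0 this

theorem le_norm13 (hP : ♯P = 13) (hK : K ≠ ⊤) (h : P ≤ K) : K ≤ 𝐍(P) := by
  have : Fact (Nat.Prime 13) := ⟨by norm_num⟩
  obtain ⟨n, h1, h2⟩ := exists_count (syl_of_card hG (p := 13) (k := 1) hP (by norm_num) h)
  have h3 : 13 ≤ ♯(𝐍(P) ⊓ K) := hP ▸ card_le_of_le (le_inf le_normalizer h)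
  have h4 := card_le84 hG hK
  have h5 : n = 1 := by
    have : n ≤ 6 := by nlinarith
    omega
  rw [h5, mul_one] at h2
  exact inf_eq_right.1 (eq_of_le_of_card_ge inf_le_right h2.ge)

theorem card_norm13 (hP : ♯P = 13) : ♯𝐍(P) = 78 := by
  have : Fact (Nat.Prime 13) := ⟨by norm_num⟩
  obtain ⟨n, h1, h2⟩ := exists_count (syl_of_card hG (p := 13) (k := 1) hP (by norm_num) le_top)
  rw [inf_top_eq, card_top, hG] at h2
  obtain ⟨m, hm⟩ : 13 ∣ ♯𝐍(P) := hP ▸ card_dvd le_normalizer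
  have h4 := card_le84 hG (norm_ne_top hG (ne_bot_of_prime_dvd this.out hP.symm.dvd)
    (ne_top_of_card hG (by omega)))
  rw [hm] at h2 h4 ⊢
  have : m ≤ 6 := by omega
  interval_cases m <;> omega

theorem card_norm7 (hP : ♯P = 7) : ♯𝐍(P) = 14 := by
  have : Fact (Nat.Prime 7) := ⟨by norm_num⟩
  obtain ⟨n, h1, h2⟩ := exists_count (syl_of_card hG (p := 7) (k := 1) hP (by norm_num) le_top)
  rw [inf_top_eq, card_top, hG] at h2
  obtain ⟨m, hm⟩ : 7 ∣ ♯𝐍(P) := hP ▸ card_dvd le_normalizer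
  have h4 := card_le84 hG (norm_ne_top hG (ne_bot_of_prime_dvd this.out hP.symm.dvd)
    (ne_top_of_card hG (by omega)))
  rw [hm] at h2 h4 ⊢
  have : m ≤ 12 := by omega
  interval_cases m <;> omega

theorem le_norm7 (hP : ♯P = 7) (hK : K ≠ ⊤) (h : P ≤ K) : K ≤ 𝐍(P) := by
  have : Fact (Nat.Prime 7) := ⟨by norm_num⟩
  obtain ⟨n, h1, h2⟩ := exists_count (syl_of_card hG (p := 7) (k := 1) hP (by norm_num) h)
  obtain ⟨m, hm⟩ : 7 ∣ ♯(𝐍(P) ⊓ K) := hP ▸ card_dvd (le_inf le_normalizer h)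
  have h3 := card_pos' (𝐍(P) ⊓ K)
  have h4 := card_le84 hG hK
  have h6 : ♯K ∣ 1092 := hG ▸ card_subgroup_dvd_card K
  have h5 : n = 1 := by
    rw [← h2, hm] at h4 h6
    have h9 : 0 < m := by omega
    have h7 : n ≤ 12 := by nlinarith
    have h8 : n ∣ 1092 := (Dvd.intro_left _ rfl).trans h6
    interval_cases n <;> omega
  rw [h5, mul_one] at h2
  exact inf_eq_right.1 (eq_of_le_of_card_ge inf_le_right h2.ge)

theorem tri (hK : K ≠ ⊤) : ♯K ∣ 78 ∨ ♯K ∣ 14 ∨ ♯K ∣ 12 := by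
  by_cases h1 : 13 ∣ ♯K
  · obtain ⟨P, hP, h2⟩ := exists_le_card_prime (by norm_num) h1
    exact Or.inl (card_norm13 hG h2 ▸ card_dvd (le_norm13 hG h2 hK hP))
  by_cases h2 : 7 ∣ ♯K
  · obtain ⟨P, hP, h2⟩ := exists_le_card_prime (by norm_num) h2
    exact Or.inr (Or.inl (card_norm7 hG h2 ▸ card_dvd (le_norm7 hG h2 hK hP)))
  have h6 : ♯K ∣ 12 * 7 * 13 := (show 1092 = 12 * 7 * 13 by norm_num) ▸ hG ▸ card_subgroup_dvd_card K
  exact Or.inr (Or.inr (((Nat.Prime.coprime_iff_not_dvd (by norm_num)).2 h2).symm.dvd_of_dvd_mul_right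
    (((Nat.Prime.coprime_iff_not_dvd (by norm_num)).2 h1).symm.dvd_of_dvd_mul_right h6)))

theorem isCoatom_of_dvd (hK : K ≠ ⊤) (h : 78 ∣ ♯K ∨ 14 ∣ ♯K ∨ 12 ∣ ♯K) : IsCoatom K := by
  refine ⟨hK, fun L hL => ?_⟩
  by_contra hL1
  have h1 := card_lt hL
  have h2 := card_dvd hL.le
  have h3 := card_pos' K
  have h4 : ∀ a b : ℕ, 0 < b → a ∣ ♯K → ♯L ∣ b → a ∣ b ∧ a < b := fun a b hb h5 h6 =>
    ⟨h5.trans (h2.trans h6), (Nat.le_of_dvd h3 h5).trans_lt (h1.trans_le (Nat.le_of_dvd hb h6))⟩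
  rcases h with h | h | h <;> rcases tri hG hL1 with h' | h' | h' <;>
    exact absurd (h4 _ _ (by norm_num) h h') (by norm_num)

theorem eq_twelve (hK : K ≠ ⊤) (h : 12 ∣ ♯K) : ♯K = 12 := by
  rcases tri hG hK with h' | h' | h'
  · exact absurd (h.trans h') (by norm_num)
  · exact absurd (h.trans h') (by norm_num)
  · exact Nat.dvd_antisymm h' h

theorem card_norm3 (hP : ♯P = 3) : ♯𝐍(P) = 12 ∧ 2 ∣ ♯𝐂(P) := by
  have : Fact (Nat.Prime 3) := ⟨by norm_num⟩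
  have hS := syl_of_card hG (p := 3) (k := 1) hP (by norm_num) le_top
  have h0 := ne_bot_of_prime_dvd this.out hP.symm.dvd
  have h0' : P ≠ ⊤ := ne_top_of_card hG (by omega)
  obtain ⟨n, h1, h2⟩ := exists_count hS
  rw [inf_top_eq, card_top, hG] at h2
  have h3 := relIndex_cent_dvd (isCyclic_of_prime (hP ▸ this.out))
  rw [hP, Nat.totient_prime this.out] at h3
  have h4 : (𝐂(P)).relIndex 𝐍(P) = 2 := ((Nat.dvd_prime Nat.prime_two).1 h3).resolve_left
    fun e => not_norm_le_cent hG hS h0 h0' (relIndex_eq_one.1 e)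
  have h5 := card_mul_relIndex (cent_le_norm P)
  rw [h4] at h5
  obtain ⟨m, hm⟩ : 3 ∣ ♯𝐍(P) := hP ▸ card_dvd le_normalizer
  have h6 := card_le84 hG (norm_ne_top hG h0 h0')
  have h7 := tri hG (norm_ne_top hG h0 h0')
  have h8 : m = 4 := by
    rw [hm] at h2 h5 h6 h7
    have : m ≤ 28 := by omega
    interval_cases m <;> omega
  omega

theorem card_norm4 (hP : ♯P = 4) : ♯𝐍(P) = 12 ∧ ¬ 𝐍(P) ≤ 𝐂(P) := by
  have hS := syl_of_card hG (p := 2) (k := 2) hP (by norm_num) le_top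
  have h0 : P ≠ ⊥ := ne_bot_of_prime_dvd Nat.prime_two (by omega)
  have h0' : P ≠ ⊤ := ne_top_of_card hG (by omega)
  have h1 := not_norm_le_cent hG hS h0 h0'
  refine ⟨?_, h1⟩
  have h2 : 4 ∣ ♯𝐍(P) := hP ▸ card_dvd le_normalizer
  have h3 : ♯𝐍(P) ≠ 4 := fun e => h1 (by
    rw [← eq_of_le_of_card_le (le_norm_self P) (by omega)]
    exact Ab.le_cent (IsPGroup.isMulCommutative_of_card_eq_prime_sq (p := 2) hP))
  rcases tri hG (norm_ne_top hG h0 h0') with h' | h' | h'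
  · exact absurd (h2.trans h') (by norm_num)
  · exact absurd (h2.trans h') (by norm_num)
  · have := Nat.le_of_dvd (by norm_num) h'
    interval_cases ♯𝐍(P) <;> omega

theorem exists_conj_inv (hP : ♯P = 4) {t u : G} (ht : t ∈ P) (hu : u ∈ P) (ht1 : t ≠ 1)
    (hu1 : u ≠ 1) : ∃ g, u = g * t * g⁻¹ := by
  have : Fact (Nat.Prime 3) := ⟨by norm_num⟩
  obtain ⟨h1, h2⟩ := card_norm4 hG hP
  have hab : Ab P := IsPGroup.isMulCommutative_of_card_eq_prime_sq (p := 2) hP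
  obtain ⟨g, hg, hg3⟩ := cauchy this.out (by omega : 3 ∣ ♯𝐍(P))
  have hR : IsPGroup 3 (zpowers g) := isPGroup_of_card_prime_pow (n := 1) (by
    rw [Nat.card_zpowers, hg3, pow_one])
  have h3 : ¬ g ∈ 𝐂(P) := fun e => h2 (by
    have h4 : 4 ∣ ♯𝐂(P) := hP ▸ card_dvd hab.le_cent
    have h5 : 3 ∣ ♯𝐂(P) := hg3 ▸ orderOf_dvd_card e
    have h6 := card_pos' 𝐂(P)
    exact (eq_of_le_of_card_le (cent_le_norm P) (by omega)).ge)
  have h4 : g * t * g⁻¹ ≠ t := fun e => by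
    have h5 := card_modEq_card_inf_centralizer hR (zpowers_le.2 hg)
    rw [cent_zpowers, hP] at h5
    have h6 : P ⊓ 𝐂[g] < P := lt_of_le_of_ne inf_le_left fun e =>
      h3 (le_cent1_iff.1 (inf_eq_left.1 e))
    have h7 := card_lt h6
    have h8 : 1 < ♯(P ⊓ 𝐂[g]) := one_lt_card fun e' => ht1 (mem_bot.1 (e' ▸
      (⟨ht, mem_cent1_comm.1 (mem_cent1_iff_conj.2 e)⟩ : t ∈ P ⊓ 𝐂[g])))
    have h9 := card_dvd h6.le
    rw [hP] at h7 h9
    unfold Nat.ModEq at h5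
    interval_cases ♯(P ⊓ 𝐂[g]) <;> omega
  have hg' : g * g * g = 1 := by rw [← pow_three', ← hg3, pow_orderOf_eq_one]
  have h5 : g⁻¹ * t * g ≠ t := fun e => h4 (by conv_lhs => rw [← e]
                                               group)
  have h6 : g * t * g⁻¹ ≠ g⁻¹ * t * g := fun e => h5 (by
    have e1 : g⁻¹ = g * g := by rw [eq_comm, ← mul_eq_one_iff_eq_inv, hg']
    calc g⁻¹ * t * g = g⁻¹ * t * g⁻¹⁻¹ := by rw [inv_inv]
      _ = g * (g * t * g⁻¹) * g⁻¹ := by nth_rw 1 [e1]; nth_rw 1 [e1]; group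
      _ = t := by rw [e]; group)
  have h7 : g * t * g⁻¹ ≠ 1 := fun e => ht1 (by simpa using e)
  have h8 : g⁻¹ * t * g ≠ 1 := fun e => ht1 (by
    have : t = g * (g⁻¹ * t * g) * g⁻¹ := by group
    rw [this, e]; simp)
  have h9 : ({1, t, g * t * g⁻¹, g⁻¹ * t * g} : Set G) = P := by
    refine Set.eq_of_subset_of_ncard_le ?_ ?_
    · rintro x (rfl | rfl | rfl | rfl)
      exacts [P.one_mem, ht, conj_mem_of_norm hg ht, conj_mem_of_norm' hg ht]
    · rw [Set.ncard_insert_of_notMem (by simp [ht1.symm, h7.symm, h8.symm]),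
        Set.ncard_insert_of_notMem (by simp [h4.symm, h5.symm]), Set.ncard_pair h6]
      exact hP.le
  rcases (h9.symm ▸ hu : u ∈ ({1, t, g * t * g⁻¹, g⁻¹ * t * g} : Set G)) with e | e | e | e
  exacts [absurd e hu1, ⟨1, by simpa using e⟩, ⟨g, e⟩, ⟨g⁻¹, by simpa using e⟩]

theorem dvd_card_cent {t : G} (ht : orderOf t = 2) : 12 ∣ ♯𝐂[t] := by
  have : Fact (Nat.Prime 3) := ⟨by norm_num⟩
  have hS : ∀ {t : G}, orderOf t = 2 → ∃ P, Syl 2 P ⊤ ∧ ♯P = 4 ∧ t ∈ P := by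
    intro t ht
    obtain ⟨P, hP, h1⟩ := exists_syl_ge (p := 2) (le_top : zpowers t ≤ ⊤)
      (isPGroup_of_card_prime_pow (n := 1) (by rw [Nat.card_zpowers, ht, pow_one]))
    refine ⟨P, hP, ?_, h1 (mem_zpowers t)⟩
    obtain ⟨Q, hQ⟩ := Sylow.exists_subgroup_card_pow_prime 2 (G := G) (n := 2) (by rw [hG]; norm_num)
    exact (hP.card_eq_card (syl_of_card hG hQ (by norm_num) le_top)).trans hQ
  obtain ⟨T, -, hT⟩ := exists_le_card_prime (K := (⊤ : Subgroup G)) this.out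
    (by rw [card_top, hG]; norm_num)
  obtain ⟨u, hu, hu2⟩ := cauchy Nat.prime_two (card_norm3 hG hT).2
  obtain ⟨P, hP, h4, htP⟩ := hS ht
  obtain ⟨Q, hQ, -, huQ⟩ := hS hu2
  obtain ⟨g, -, rfl⟩ := hQ.exists_conj hP
  have hne : ∀ {t : G}, orderOf t = 2 → t ≠ 1 := fun h e => by simp [e] at h
  obtain ⟨k, hk⟩ := exists_conj_inv hG h4 (conj_mem_conj huQ) htP
    (hne (by rw [orderOf_conj, hu2])) (hne ht)
  have h5 : 3 ∣ ♯𝐂[t] := by
    rw [hk, cent1_conj, cent1_conj, card_conj, card_conj, ← hT]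
    exact card_dvd (le_cent1_iff.2 hu)
  have h6 : 4 ∣ ♯𝐂[t] := h4 ▸ card_dvd (le_cent1_iff.2
    (Ab.le_cent (IsPGroup.isMulCommutative_of_card_eq_prime_sq (p := 2) h4) htP))
  omega

theorem dvd_card_norm (h : ♯H ∣ 12) (h0 : H ≠ ⊥) : 12 ∣ ♯𝐍(H) := by
  have h1 := one_lt_card h0
  have h2 := Nat.le_of_dvd (by norm_num) h
  have h3 : ♯H = 2 ∨ ♯H = 3 ∨ ♯H = 4 ∨ ♯H = 6 ∨ ♯H = 12 := by
    interval_cases ♯H <;> omega
  rcases h3 with e | e | e | e | e
  · obtain ⟨t, ht, h4⟩ := cauchy Nat.prime_two e.symm.dvd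
    rw [← eq_zpowers_of_prime (e ▸ Nat.prime_two) ht fun e => by simp [e] at h4]
    exact (dvd_card_cent hG h4).trans (card_dvd (cent_zpowers t ▸ cent_le_norm _))
  · exact (card_norm3 hG e).1.symm.dvd
  · exact (card_norm4 hG e).1.symm.dvd
  · obtain ⟨T, hT, h4⟩ := exists_le_card_prime Nat.prime_three (by omega : 3 ∣ ♯H)
    have h5 := (card_norm3 hG h4).1
    exact h5 ▸ card_dvd (le_norm_of_two (le_norm_of_two hT (by omega)) (by omega))
  · exact e ▸ card_dvd le_normalizer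

theorem isCoatom_norm (h0 : H ≠ ⊥) (h1 : H ≠ ⊤) : IsCoatom 𝐍(H) := by
  refine isCoatom_of_dvd hG (norm_ne_top hG h0 h1) ?_
  by_cases h13 : 13 ∣ ♯H
  · obtain ⟨P, hP, h2⟩ := exists_le_card_prime (by norm_num) h13
    have hc : IsCyclic P := isCyclic_of_prime (by rw [h2]; norm_num)
    have h3 := card_norm13 hG h2
    have h4 : 𝐂(P) = P := by
      refine (eq_of_le_of_card_le (ab_of_isCyclic hc).le_cent ?_).symm
      have h5 : ♯𝐂(P) ∣ 78 := h3 ▸ card_dvd (cent_le_norm P)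
      have h6 : ∀ r : ℕ, r.Prime → r ∣ 12 → ¬ r ∣ ♯𝐂(P) := by
        intro r hr hr2 hr3
        obtain ⟨X, hX, h7⟩ := exists_le_card_prime hr hr3
        have h8 : X ≠ ⊥ := ne_bot_of_prime_dvd hr h7.symm.dvd
        have h9 := eq_twelve hG (norm_ne_top hG h8 (ne_top_of_card hG fun e => by
          rw [← h7, e] at hr2; norm_num at hr2)) (dvd_card_norm hG (h7 ▸ hr2) h8)
        have := card_dvd ((le_cent_symm hX).trans (cent_le_norm X))
        rw [h2, h9] at this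
        norm_num at this
      have h7 := h6 2 Nat.prime_two (by norm_num)
      have h8 := h6 3 Nat.prime_three (by norm_num)
      have := Nat.le_of_dvd (by norm_num) h5
      rw [h2]
      interval_cases ♯𝐂(P) <;> omega
    refine Or.inl (h3 ▸ card_dvd (le_norm_of_der_le ?_ (le_norm13 hG h2 h1 hP)))
    exact (commutator_le_centralizer_of_isCyclic hc le_rfl le_rfl).trans (h4.le.trans hP)
  by_cases h7 : 7 ∣ ♯H
  · obtain ⟨P, hP, h2⟩ := exists_le_card_prime (by norm_num) h7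
    have h3 := card_norm7 hG h2
    have h4 := le_norm7 hG h2 h1 hP
    have h5 : ♯H ∣ 14 := h3 ▸ card_dvd h4
    have h6 := Nat.le_of_dvd (by norm_num) h5
    refine Or.inr (Or.inl ?_)
    by_cases e : ♯H = 14
    · exact e ▸ card_dvd le_normalizer
    · exact h3 ▸ card_dvd (le_norm_of_two h4 (by have := card_pos' H; omega))
  have h6 : ♯H ∣ 12 * 7 * 13 := (show 1092 = 12 * 7 * 13 by norm_num) ▸ hG ▸ card_subgroup_dvd_card H
  exact Or.inr (Or.inr (dvd_card_norm hG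
    (((Nat.Prime.coprime_iff_not_dvd (by norm_num)).2 h7).symm.dvd_of_dvd_mul_right
    (((Nat.Prime.coprime_iff_not_dvd (by norm_num)).2 h13).symm.dvd_of_dvd_mul_right h6)) h0))

end Cfsg.Agent.Ord1092
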