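import Mathlib
import Cfsg.Agent.Lib.Core.TwoF
import Cfsg.Agent.Lib.Coprime.Generate
import Cfsg.Agent.Lib.Coprime.SylowCount
import Cfsg.Agent.Lib.PGrp.Omega

/-!
# Transvections on elementary abelian 2-groups normalizing a nilpotent group of odd order
-/

set_option autoImplicit false

namespace Cfsg.Agent.Core

open Subgroup
open scoped commutatorElement

variable {G : Type*} [Group G] [Finite G]

omit [Finite G] in
theorem comm_of_sq_eq_one {W : Subgroup G} (hW : ∀ w ∈ W, w ^ 2 = 1) {a b : G} (ha : a ∈ W)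
    (hb : b ∈ W) : a * b = b * a := by
  have h1 := hW a ha
  have h2 := hW b hb
  have h3 := hW _ (W.mul_mem ha hb)
  rw [sq] at h1 h2 h3
  have e1 : a⁻¹ = a := inv_eq_of_mul_eq_one_right h1
  have e2 : b⁻¹ = b := inv_eq_of_mul_eq_one_right h2
  have e3 : (a * b)⁻¹ = a * b := inv_eq_of_mul_eq_one_right h3
  rw [← e3, mul_inv_rev, e1, e2]

omit [Finite G] in
theorem isMulCommutative_of_sq_eq_one {W : Subgroup G} (hW : ∀ w ∈ W, w ^ 2 = 1) :
    IsMulCommutative W :=
  ⟨⟨fun a b => Subtype.ext (comm_of_sq_eq_one hW a.2 b.2)⟩⟩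

omit [Finite G] in
theorem isPGroup_two_of_sq_eq_one {W : Subgroup G} (hW : ∀ w ∈ W, w ^ 2 = 1) :
    IsPGroup 2 W := fun w => ⟨1, Subtype.ext (by simpa using hW w w.2)⟩

theorem card_commutator_eq_relIndex {A W : Subgroup G} (hAW : A ≤ normalizer (W : Set G))
    (hcop : (Nat.card A).Coprime (Nat.card W)) (hW : IsMulCommutative W) :
    Nat.card (⁅W, A⁆ : Subgroup G) = (centralizer (A : Set G)).relIndex W := by
  have h1 := Coprime.centralizer_sup_commutator hAW hcop
    (Or.inr (Coprime.isSolvable_of_isMulCommutative hW))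
  have h2 := Coprime.centralizer_inf_commutator_eq_bot hAW hcop hW
  have hle : ⁅W, A⁆ ≤ W := Coprime.commutator_le_of_le_normalizer hAW
  have hn : ⁅W, A⁆ ≤ normalizer ((W ⊓ centralizer (A : Set G) : Subgroup G) : Set G) := by
    refine le_trans ?_ (centralizer_le_normalizer _)
    intro a ha b hb
    exact Coprime.mul_comm_of_mem hW (mem_inf.1 hb).1 (hle ha)
  have h3 := relIndex_sup_of_le_normalizer hn
  rw [h1, inf_relIndex_left, ← inf_relIndex_right _ ⁅W, A⁆, h2, relIndex_bot_left] at h3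
  exact h3.symm

/-- A group normalizing a subgroup of order at most four maps to `S₃` with kernel the
centralizer. -/
theorem exists_hom_perm_three {L U : Subgroup G} (hL : L ≤ normalizer (U : Set G))
    (hU : Nat.card U ≤ 4) :
    ∃ θ : L →* Equiv.Perm (Fin 3), ∀ l : L, θ l = 1 ↔ (l : G) ∈ centralizer (U : Set G) := by
  obtain ⟨ψ, hψ⟩ := exists_aut_embedding_perm_three (T := U) hU
  refine ⟨ψ.comp (Coprime.conjHom hL), fun l => ?_⟩
  rw [← Coprime.mem_ker_conjHom hL, MonoidHom.mem_ker, MonoidHom.comp_apply,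
    map_eq_one_iff ψ hψ]

/-- A coprime group acting faithfully with `|[W, P]| ≤ 4` embeds in `S₃`. -/
theorem card_dvd_six_of_card_commutator_le {P W : Subgroup G} (hPW : P ≤ normalizer (W : Set G))
    (hcop : (Nat.card P).Coprime (Nat.card W)) (hf : P ⊓ centralizer (W : Set G) = ⊥)
    (h : Nat.card (⁅W, P⁆ : Subgroup G) ≤ 4) : Nat.card P ∣ 6 := by
  have hn : P ≤ normalizer ((⁅W, P⁆ : Subgroup G) : Set G) :=
    le_normalizer_commutator hPW le_normalizer
  obtain ⟨θ, hθ⟩ := exists_hom_perm_three hn h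
  have hinj : Function.Injective θ := by
    rw [injective_iff_map_eq_one]
    intro l hl
    have h1 := (hθ l).1 hl
    have hz : zpowers (l : G) ≤ P := zpowers_le.2 l.2
    have h2 : ⁅⁅W, zpowers (l : G)⁆, zpowers (l : G)⁆ = ⊥ := by
      rw [Coprime.commutator_eq_bot_iff_le_centralizer', zpowers_le]
      exact centralizer_le (commutator_mono le_rfl hz :
        ⁅W, zpowers (l : G)⁆ ≤ ⁅W, P⁆) h1
    have h3 := Coprime.commutator_eq_bot_of_commutator_commutator_eq_bot (hz.trans hPW)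
      (Coprime.coprime_mono hcop hz le_rfl) h2
    rw [Coprime.commutator_eq_bot_iff_le_centralizer', zpowers_le] at h3
    have : (l : G) ∈ P ⊓ centralizer (W : Set G) := mem_inf.2 ⟨l.2, h3⟩
    rw [hf, mem_bot] at this
    exact Subtype.ext this
  have := card_dvd_of_injective θ hinj
  simpa [Fintype.card_perm, Nat.factorial] using this

theorem coprime_card_of_odd {P W : Subgroup G} (hP : Odd (Nat.card P)) (hW : IsPGroup 2 W) :
    (Nat.card P).Coprime (Nat.card W) :=
  Coprime.coprime_card_of_isPGroup (Nat.coprime_two_right.2 hP) hW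

/-- A `3`-group acting faithfully on an abelian `2`-group with centralizer of index at most `8` has
order at most three. -/
theorem card_le_three_of_relIndex_le_eight {P W : Subgroup G} (hP : IsPGroup 3 P)
    (hW : IsPGroup 2 W) (hc : IsMulCommutative W) (hPW : P ≤ normalizer (W : Set G))
    (hf : P ⊓ centralizer (W : Set G) = ⊥) (h : (centralizer (P : Set G)).relIndex W ≤ 8) :
    Nat.card P ≤ 3 := by
  have : Fact (Nat.Prime 3) := ⟨Nat.prime_three⟩
  obtain ⟨k, hk⟩ := IsPGroup.iff_card.1 hP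
  have hodd : Odd (Nat.card P) := hk ▸ Odd.pow (by decide)
  have hcop := coprime_card_of_odd hodd hW
  have hU := card_commutator_eq_relIndex hPW hcop hc
  have h2 := Coprime.centralizer_inf_commutator_eq_bot hPW hcop hc
  have hle : ⁅W, P⁆ ≤ W := Coprime.commutator_le_of_le_normalizer hPW
  have hn : P ≤ normalizer ((⁅W, P⁆ : Subgroup G) : Set G) :=
    le_normalizer_commutator hPW le_normalizer
  obtain ⟨m, hm⟩ := IsPGroup.iff_card.1 (hW.to_le hle)
  have hmod := Coprime.card_modEq_card_inf_centralizer hP hn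
  have e : ⁅W, P⁆ ⊓ centralizer (P : Set G) = ⊥ := by
    rw [eq_bot_iff, ← h2]
    exact le_inf (inf_le_inf_right _ hle) inf_le_left
  rw [e, card_bot] at hmod
  have h4 : Nat.card (⁅W, P⁆ : Subgroup G) ≤ 4 := by
    rw [← hU, hm] at h
    rw [hm] at hmod ⊢
    have hm3 : m ≤ 3 := by
      by_contra hh
      have : 2 ^ 4 ≤ 2 ^ m := Nat.pow_le_pow_right (by norm_num) (by omega)
      omega
    clear hm
    interval_cases m
    · norm_num
    · norm_num
    · norm_num
    · exact absurd hmod (by decide)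
  have h6 := card_dvd_six_of_card_commutator_le hPW hcop hf h4
  have h7 := Nat.le_of_dvd (by norm_num) h6
  obtain ⟨r, hr⟩ := hodd
  have h8 : Nat.card P ≠ 5 := fun e => by rw [e] at h6; omega
  omega

omit [Finite G] in
theorem mul_mem_of_relIndex_le_two {C W : Subgroup G} (h0 : C.relIndex W ≠ 0)
    (h : C.relIndex W ≤ 2) {a b : G}
    (ha : a ∈ W) (hb : b ∈ W) (ha' : a ∉ C) (hb' : b ∉ C) : a * b ∈ C := by
  have h1 : C.relIndex W ≠ 1 := fun e => ha' (relIndex_eq_one.1 e ha)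
  have h2 : (C.subgroupOf W).index = 2 := by
    change C.relIndex W = 2
    omega
  have := (mul_mem_iff_of_index_two h2 (a := ⟨a, ha⟩) (b := ⟨b, hb⟩)).2
    (by simp [mem_subgroupOf, ha', hb'])
  exact this

/-- The square of a transvection acts trivially. -/
theorem sq_mem_centralizer_of_relIndex_le_two {W : Subgroup G} (hW : ∀ w ∈ W, w ^ 2 = 1) {u : G}
    (hu : u ∈ normalizer (W : Set G)) (h : (centralizer {u}).relIndex W ≤ 2) :
    u ^ 2 ∈ centralizer (W : Set G) := by
  intro w hw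
  by_cases hwc : w ∈ centralizer {u}
  · have : Commute w u := (mem_centralizer_singleton_iff.1 hwc)
    exact (this.pow_right 2).eq
  have h1 : u * w * u⁻¹ ∈ W := (mem_normalizer_iff.1 hu w).1 hw
  have h2 : u * w * u⁻¹ ∉ centralizer {u} := fun hh => hwc (by
    rw [mem_centralizer_singleton_iff] at hh ⊢
    calc w * u = u⁻¹ * (u * w * u⁻¹ * u) * u := by group
      _ = u⁻¹ * (u * (u * w * u⁻¹)) * u := by rw [hh]
      _ = u * w := by group)
  have h3 := mul_mem_of_relIndex_le_two (relIndex_pos' _ _).ne' h h1 (W.inv_mem hw) h2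
    (fun hh => hwc (by simpa using inv_mem hh))
  obtain ⟨c, hc⟩ : ∃ c, c = u * w * u⁻¹ * w⁻¹ := ⟨_, rfl⟩
  have hcW : c ∈ W := hc ▸ W.mul_mem h1 (W.inv_mem hw)
  rw [← hc, mem_centralizer_singleton_iff] at h3
  have h4 : u * w = c * w * u := by rw [hc]; group
  have h5 := hW c hcW
  calc w * u ^ 2 = c ^ 2 * w * u * u := by rw [h5]; simp [sq, mul_assoc]
    _ = c * (c * w * u) * u := by simp only [sq, mul_assoc]
    _ = (c * u) * w * u := by rw [← h4]; simp only [mul_assoc]
    _ = u * (c * w * u) := by rw [h3]; simp only [mul_assoc]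
    _ = u ^ 2 * w := by rw [← h4]; simp only [sq, mul_assoc]

omit [Finite G] in
theorem relIndex_centralizer_conj {W : Subgroup G} {q : G} (hq : q ∈ normalizer (W : Set G))
    (u : G) : (centralizer {q * u * q⁻¹}).relIndex W = (centralizer {u}).relIndex W := by
  have e1 : centralizer {q * u * q⁻¹} = (centralizer {u}).map (MulAut.conj q).toMonoidHom := by
    ext g
    simp only [mem_map_equiv, mem_centralizer_singleton_iff, MulAut.conj_symm_apply]
    constructor
    · intro h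
      calc q⁻¹ * g * q * u = q⁻¹ * (g * (q * u * q⁻¹)) * q := by group
        _ = _ := by rw [h]; group
    · intro h
      calc g * (q * u * q⁻¹) = q * (q⁻¹ * g * q * u) * q⁻¹ := by group
        _ = _ := by rw [h]; group
  have e2 : W = W.map (MulAut.conj q).toMonoidHom := by
    ext g
    simp only [mem_map_equiv, MulAut.conj_symm_apply]
    have := mem_normalizer_iff.1 (inv_mem hq) g
    simpa using this
  rw [e1]
  conv_lhs => rw [e2]
  exact relIndex_map_map_of_injective _ _ (MulAut.conj q).injective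

omit [Finite G] in
theorem eq_one_of_sq_of_odd {Q : Subgroup G} (hQ : Odd (Nat.card Q)) {x : G} (hx : x ∈ Q)
    (h : x ^ 2 = 1) : x = 1 := by
  have h1 : orderOf x ∣ Nat.card Q := Subgroup.orderOf_dvd_natCard Q hx
  have h2 : orderOf x ∣ 2 := orderOf_dvd_of_pow_eq_one h
  have := Nat.dvd_gcd h1 h2
  rw [Nat.coprime_two_right.2 hQ, Nat.dvd_one, orderOf_eq_one_iff] at this
  exact this

omit [Finite G] in
theorem commute_of_commute_sq_of_odd {Q : Subgroup G} (hQ : Odd (Nat.card Q)) {x y : G}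
    (hx : x ∈ Q) (h : Commute (x ^ 2) y) : Commute x y := by
  obtain ⟨r, hr⟩ := hQ
  have h1 : x ^ Nat.card Q = 1 := orderOf_dvd_iff_pow_eq_one.1 (Subgroup.orderOf_dvd_natCard Q hx)
  have : x = (x ^ 2) ^ (r + 1) := by
    rw [← pow_mul, show 2 * (r + 1) = Nat.card Q + 1 by omega, pow_succ, h1, one_mul]
  rw [this]
  exact h.pow_left _

omit [Finite G] in
theorem eq_or_eq_inv_of_mem_zpowers {x y : G} (hx : orderOf x = 3) (hy : y ∈ zpowers x) :
    y = 1 ∨ y = x ∨ y = x⁻¹ := by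
  classical
  have h3 : x ^ 3 = 1 := hx ▸ pow_orderOf_eq_one x
  have hfin : IsOfFinOrder x := by rw [← orderOf_pos_iff, hx]; norm_num
  rw [hfin.mem_zpowers_iff_mem_range_orderOf, hx] at hy
  simp only [Finset.mem_image, Finset.mem_range] at hy
  obtain ⟨i, hi, rfl⟩ := hy
  interval_cases i
  · simp
  · simp
  · right; right
    rw [eq_inv_iff_mul_eq_one, ← pow_succ, h3]

theorem zpowers_eq_of_card_le_three {P : Subgroup G} (hP : Nat.card P ≤ 3) {x : G}
    (hx : orderOf x = 3) (hxP : x ∈ P) : P = zpowers x :=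
  (eq_of_le_of_card_ge (zpowers_le.2 hxP) (by rw [Nat.card_zpowers, hx]; exact hP)).symm

theorem isPGroup_closure_of_nilpotent {p : ℕ} [Fact p.Prime] {Q : Subgroup G}
    (hQ : Group.IsNilpotent Q) {S : Set G} (h : ∀ x ∈ S, x ∈ Q ∧ x ^ p = 1) :
    IsPGroup p (closure S) := by
  refine (isPGroup_pCoreOf (p := p) Q).to_le ((closure_le _).2 fun x hx => ?_)
  have h1 : IsPGroup p (zpowers x) := by
    rintro ⟨y, n, rfl⟩
    refine ⟨1, Subtype.ext ?_⟩
    change (x ^ n) ^ p ^ 1 = 1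
    rw [pow_one, ← zpow_natCast, ← zpow_mul, mul_comm, zpow_mul, zpow_natCast, (h x hx).2, one_zpow]
  exact le_pCoreOf_of_le_fittingOf h1
    ((zpowers_le.2 (h x hx).1).trans (le_fittingOf le_rfl le_normalizer hQ)) (mem_zpowers x)

/-- The data attached to a transvection `u` normalizing an odd order group `Q`. -/
structure IsTransvData (Q : Subgroup G) (u x : G) : Prop where
  mem : x ∈ Q
  order : orderOf x = 3
  inv : u * x * u⁻¹ = x⁻¹
  comm : ∀ q ∈ Q, ⁅q, u⁆ ∈ zpowers x
  central : x ∈ centralizer (Q : Set G)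
  ex : ∃ q ∈ Q, x = ⁅q, u⁆

theorem exists_isTransvData {W Q : Subgroup G} (hW : ∀ w ∈ W, w ^ 2 = 1)
    (hQ : Odd (Nat.card Q)) (hN : Group.IsNilpotent Q) (hQW : Q ≤ normalizer (W : Set G))
    (hf : Q ⊓ centralizer (W : Set G) = ⊥) {u : G} (huW : u ∈ normalizer (W : Set G))
    (huQ : u ∈ normalizer (Q : Set G)) (h : (centralizer {u}).relIndex W ≤ 2)
    (hu : u ∉ centralizer (Q : Set G)) : ∃ x, IsTransvData Q u x := by
  have : Fact (Nat.Prime 3) := ⟨Nat.prime_three⟩
  have hW2 := isPGroup_two_of_sq_eq_one hW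
  have hWc := isMulCommutative_of_sq_eq_one hW
  have hmem : ∀ v ∈ normalizer (Q : Set G), ∀ q ∈ Q, ⁅q, v⁆ ∈ Q := fun v hv q hq => by
    rw [commutatorElement_def, mul_assoc, mul_assoc, ← mul_assoc v]
    exact Q.mul_mem hq ((mem_normalizer_iff.1 hv _).1 (Q.inv_mem hq))
  have hsq := sq_mem_centralizer_of_relIndex_le_two hW huW h
  have hsqQ : ∀ q ∈ Q, Commute q (u ^ 2) := fun q hq => by
    rw [← commutatorElement_eq_one_iff_commute, ← mem_bot, ← hf]
    refine mem_inf.2 ⟨hmem _ (pow_mem huQ 2) q hq, ?_⟩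
    rw [commutatorElement_def]
    exact mul_mem (Coprime.conj_mem_of_le_normalizer (le_normalizer_centralizer hQW) hq hsq)
      (inv_mem hsq)
  have hinv : ∀ q ∈ Q, u * ⁅q, u⁆ * u⁻¹ = ⁅q, u⁆⁻¹ := fun q hq => by
    have := (hsqQ _ (Q.inv_mem hq)).eq
    rw [commutatorElement_def]
    calc u * (q * u * q⁻¹ * u⁻¹) * u⁻¹ = u * q * u⁻¹ * (u ^ 2 * q⁻¹) * (u ^ 2)⁻¹ := by group
      _ = _ := by rw [← this]; group
  have hcen : ∀ q, centralizer {u} ⊓ centralizer {q * u * q⁻¹} ≤ centralizer {⁅q, u⁆} :=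
    fun q g hg => by
      obtain ⟨h1, h2⟩ := mem_inf.1 hg
      rw [mem_centralizer_singleton_iff] at h1 h2 ⊢
      exact ((show Commute g (q * u * q⁻¹) from h2).mul_right
        (show Commute g u from h1).inv_right).eq
  have hidx : ∀ q ∈ Q, (centralizer {q * u * q⁻¹}).relIndex W ≤ 2 := fun q hq => by
    rw [relIndex_centralizer_conj (hQW hq)]; exact h
  have hthree : ∀ q ∈ Q, ⁅q, u⁆ ^ 3 = 1 := fun q hq => by
    have hz : zpowers ⁅q, u⁆ ≤ Q := zpowers_le.2 (hmem u huQ q hq)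
    have hodd : Odd (Nat.card (zpowers ⁅q, u⁆)) := hQ.of_dvd_nat (card_dvd_of_le hz)
    have hcop := coprime_card_of_odd hodd hW2
    have h6 := card_dvd_six_of_card_commutator_le (hz.trans hQW) hcop
      (eq_bot_iff.2 (hf ▸ inf_le_inf_right _ hz)) (by
        rw [card_commutator_eq_relIndex (hz.trans hQW) hcop hWc, PGrp.centralizer_zpowers]
        refine (relIndex_mono_left (hcen q) W).trans (relIndex_inf_le.trans ?_)
        exact Nat.mul_le_mul h (hidx q hq))
    rw [Nat.card_zpowers] at h6 hodd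
    rw [← orderOf_dvd_iff_pow_eq_one]
    exact (Nat.coprime_two_right.2 hodd).dvd_of_dvd_mul_left (by simpa using h6)
  obtain ⟨q₀, hq₀, hne⟩ : ∃ q ∈ Q, ⁅q, u⁆ ≠ 1 := by
    by_contra hh
    push Not at hh
    exact hu fun q hq => (commutatorElement_eq_one_iff_commute.1 (hh q hq)).eq
  have ho : orderOf ⁅q₀, u⁆ = 3 := orderOf_eq_prime (hthree q₀ hq₀) hne
  have hall : ∀ q ∈ Q, ⁅q, u⁆ ∈ zpowers ⁅q₀, u⁆ := fun q hq => by
    have hS : ∀ y ∈ ({⁅q₀, u⁆, ⁅q, u⁆} : Set G), y ∈ Q ∧ y ^ 3 = 1 := by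
      rintro y (rfl | rfl)
      exacts [⟨hmem u huQ q₀ hq₀, hthree q₀ hq₀⟩, ⟨hmem u huQ q hq, hthree q hq⟩]
    have hle : closure ({⁅q₀, u⁆, ⁅q, u⁆} : Set G) ≤ Q := (closure_le _).2 fun y hy => (hS y hy).1
    have h3 := card_le_three_of_relIndex_le_eight (isPGroup_closure_of_nilpotent hN hS) hW2 hWc
      (hle.trans hQW) (eq_bot_iff.2 (hf ▸ inf_le_inf_right _ hle)) (by
        rw [centralizer_closure]
        have : centralizer {u} ⊓ centralizer {q₀ * u * q₀⁻¹} ⊓ centralizer {q * u * q⁻¹} ≤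
            centralizer ({⁅q₀, u⁆, ⁅q, u⁆} : Set G) := by
          rintro g hg y (rfl | rfl)
          · exact (mem_centralizer_singleton_iff.1 (hcen q₀ (mem_inf.1 hg).1)).symm
          · exact (mem_centralizer_singleton_iff.1
              (hcen q (mem_inf.2 ⟨(mem_inf.1 (mem_inf.1 hg).1).1, (mem_inf.1 hg).2⟩))).symm
        refine (relIndex_mono_left this W).trans (relIndex_inf_le.trans ?_)
        exact Nat.mul_le_mul (relIndex_inf_le.trans (Nat.mul_le_mul h (hidx q₀ hq₀))) (hidx q hq))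
    rw [← zpowers_eq_of_card_le_three h3 ho (Subgroup.subset_closure (by simp))]
    exact Subgroup.subset_closure (by simp)
  refine ⟨_, hmem u huQ q₀ hq₀, ho, hinv q₀ hq₀, hall, fun q hq => ?_, q₀, hq₀, rfl⟩
  have h1 : q * ⁅q₀, u⁆ * q⁻¹ ∈ zpowers ⁅q₀, u⁆ := by
    have : q * ⁅q₀, u⁆ * q⁻¹ = ⁅q * q₀, u⁆ * ⁅q, u⁆⁻¹ := by
      simp only [commutatorElement_def]; group
    rw [this]
    exact mul_mem (hall _ (Q.mul_mem hq hq₀)) (inv_mem (hall q hq))
  obtain ⟨x, hx⟩ : ∃ x, x = ⁅q₀, u⁆ := ⟨_, rfl⟩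
  rw [← hx] at h1 ho hne ⊢
  rcases eq_or_eq_inv_of_mem_zpowers ho h1 with e | e | e
  · exact absurd (by simpa using e) hne
  · exact mul_inv_eq_iff_eq_mul.1 e
  · refine (commute_of_commute_sq_of_odd hQ hq ?_).eq
    calc q ^ 2 * x = q * (q * x * q⁻¹) * q := by rw [sq]; group
      _ = q * x⁻¹ * q := by rw [e]
      _ = (q * x * q⁻¹)⁻¹ * q ^ 2 := by rw [sq]; group
      _ = _ := by rw [e, inv_inv]

end Cfsg.Agent.Core
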