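import Mathlib
import Cfsg.Agent.Lib.Core.Transv

/-!
# Groups generated by transvections; best offenders in solvable groups
-/

set_option autoImplicit false

namespace Cfsg.Agent.Core

open Subgroup
open scoped commutatorElement

variable {G : Type*} [Group G] [Finite G]

/-- Pairwise commuting subgroups isomorphic to a fixed centreless group generate a direct power. -/
theorem exists_mulEquiv_pi_of_commute {K : Type*} [Group K] (hK : center K = ⊥)
    (S : Set (Subgroup G)) (h1 : ∀ E ∈ S, Nonempty (E ≃* K))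
    (h2 : ∀ E ∈ S, ∀ E' ∈ S, E ≠ E' → E ≤ centralizer (E' : Set G)) :
    ∃ n : ℕ, Nonempty ((sSup S : Subgroup G) ≃* (Fin n → K)) := by
  classical
  let _ : Fintype S := Fintype.ofFinite S
  have hcomm : Pairwise fun i j : S => ∀ x y : G, x ∈ (i : Subgroup G) → y ∈ (j : Subgroup G) →
      Commute x y := fun i j hij x y hx hy =>
    (h2 i i.2 j j.2 (fun e => hij (Subtype.ext e)) hx y hy).symm
  have hind : iSupIndep (fun i : S => (i : Subgroup G)) := by
    intro i
    rw [disjoint_iff, eq_bot_iff]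
    intro g hg
    obtain ⟨hg1, hg2⟩ := mem_inf.1 hg
    have hc : (⨆ j : S, ⨆ (_ : j ≠ i), (j : Subgroup G)) ≤ centralizer ((i : Subgroup G) : Set G) :=
      iSup_le fun j => iSup_le fun hj => h2 j j.2 i i.2 (fun e => hj (Subtype.ext e))
    obtain ⟨e⟩ := h1 i i.2
    have : e ⟨g, hg1⟩ ∈ center K := by
      rw [mem_center_iff]
      intro k
      obtain ⟨y, rfl⟩ := e.surjective k
      rw [← map_mul, ← map_mul]
      congr 1
      exact Subtype.ext (hc hg2 y y.2)
    rw [hK, mem_bot, map_eq_one_iff e e.injective] at this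
    exact mem_bot.2 (congrArg Subtype.val this)
  have hinj := injective_noncommPiCoprod_of_iSupIndep (hcomm := hcomm) hind
  have hr := noncommPiCoprod_range (hcomm := hcomm)
  refine ⟨Fintype.card S, ⟨?_⟩⟩
  have e1 : (sSup S : Subgroup G) ≃* (∀ i : S, (i : Subgroup G)) :=
    (MulEquiv.subgroupCongr (by rw [hr, sSup_eq_iSup'])).trans (MonoidHom.ofInjective hinj).symm
  exact (e1.trans (MulEquiv.piCongrRight fun i => (h1 i i.2).some)).trans
    (MulEquiv.arrowCongr (Fintype.equivFin S) (MulEquiv.refl K))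

theorem center_perm_three : center (Equiv.Perm (Fin 3)) = ⊥ := by
  rw [eq_bot_iff]
  intro g hg
  rw [mem_center_iff] at hg
  rw [mem_bot]
  revert g
  decide

section

variable {W F M : Subgroup G} (hW : ∀ w ∈ W, w ^ 2 = 1) (hMW : M ≤ normalizer (W : Set G))
  (hf : M ⊓ centralizer (W : Set G) = ⊥) (hFM : F ≤ M) (hMF : M ≤ normalizer (F : Set G))
  (hF : Odd (Nat.card F)) (hN : Group.IsNilpotent F) (hC : M ⊓ centralizer (F : Set G) ≤ F)

include hW hMW hf in
theorem sq_eq_one_of_transv {t : G} (ht : t ∈ M) (h : (centralizer {t}).relIndex W ≤ 2) :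
    t ^ 2 = 1 := by
  rw [← mem_bot, ← hf]
  exact mem_inf.2 ⟨pow_mem ht 2, sq_mem_centralizer_of_relIndex_le_two hW (hMW ht) h⟩

include hW hMW hf hFM hMF hF hN hC in
theorem exists_isTransvData_of_transv {t : G} (ht : t ∈ M) (h1 : t ≠ 1)
    (h : (centralizer {t}).relIndex W ≤ 2) : ∃ x, IsTransvData F t x :=
  exists_isTransvData hW hF hN (hFM.trans hMW) (eq_bot_iff.2 (hf ▸ inf_le_inf_right _ hFM))
    (hMW ht) (hMF ht) h fun hc => h1 (eq_one_of_sq_of_odd hF (hC (mem_inf.2 ⟨ht, hc⟩))
      (sq_eq_one_of_transv hW hMW hf ht h))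

omit [Finite G] in
theorem IsTransvData.mem_normalizer {t x : G} (h : IsTransvData F t x) :
    t ∈ normalizer (zpowers x : Set G) := by
  have h1 : ∀ n : ℤ, t * x ^ n * t⁻¹ = x ^ (-n) := fun n => by
    rw [← conj_zpow, h.inv, inv_zpow']
  rw [mem_normalizer_iff]
  intro g
  constructor
  · rintro ⟨n, rfl⟩
    exact ⟨-n, (h1 n).symm⟩
  · rintro ⟨n, hn⟩
    refine ⟨-n, ?_⟩
    have := h1 (-n)
    rw [neg_neg] at this
    change x ^ n = _ at hn
    rw [← this] at hn
    simpa using hn

omit [Finite G] in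
theorem IsTransvData.not_commute {t x : G} (h : IsTransvData F t x) : ¬ Commute t x := fun hc => by
  have h1 : x = x⁻¹ := by rw [← h.inv, hc.eq]; group
  have h2 : x ^ 2 = 1 := by rw [sq]; nth_rewrite 1 [h1]; group
  have := orderOf_dvd_of_pow_eq_one h2
  rw [h.order] at this
  omega

omit [Finite G] in
theorem IsTransvData.of_zpowers_eq {s x y : G} (h : IsTransvData F s y)
    (e : zpowers y = zpowers x) (hx : orderOf x = 3) : IsTransvData F s x := by
  have hxy : x ∈ zpowers y := e ▸ mem_zpowers x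
  have hq : ∃ q ∈ F, x = ⁅q, s⁆ ∧ s * x * s⁻¹ = x⁻¹ := by
    obtain ⟨q, hq, hy⟩ := h.ex
    rcases eq_or_eq_inv_of_mem_zpowers h.order hxy with e1 | e1 | e1
    · rw [e1, orderOf_one] at hx; omega
    · exact ⟨q, hq, e1.trans hy, e1 ▸ h.inv⟩
    · have h3 : y ^ 3 = 1 := h.order ▸ pow_orderOf_eq_one y
      refine ⟨y, h.mem, ?_, ?_⟩
      · rw [e1, commutatorElement_def]
        calc y⁻¹ = y ^ 3 * y⁻¹ := by rw [h3, one_mul]
          _ = y * (y⁻¹)⁻¹ := by rw [inv_inv, pow_succ, mul_inv_cancel_right, sq]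
          _ = y * (s * y * s⁻¹)⁻¹ := by rw [h.inv]
          _ = _ := by group
      · rw [e1, ← h.inv]
        calc s * (s * y * s⁻¹) * s⁻¹ = s * y⁻¹ * s⁻¹ := by rw [h.inv]
          _ = _ := by group
  obtain ⟨q, hq, h1, h2⟩ := hq
  exact ⟨zpowers_le.2 h.mem hxy, hx, h2, fun q hq => e ▸ h.comm q hq,
    zpowers_le.2 h.central hxy, q, hq, h1⟩

include hW hMW hf hFM hF in
theorem IsTransvData.inf_centralizer_le {t x : G} (hd : IsTransvData F t x) (ht : t ∈ M)
    (h : (centralizer {t}).relIndex W ≤ 2) :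
    W ⊓ centralizer (zpowers x : Set G) ≤ centralizer {t} := by
  have hz : zpowers x ≤ F := zpowers_le.2 hd.mem
  have hWc := isMulCommutative_of_sq_eq_one hW
  have hcop := coprime_card_of_odd (hF.of_dvd_nat (card_dvd_of_le hz))
    (isPGroup_two_of_sq_eq_one hW)
  have hzW := hz.trans (hFM.trans hMW)
  have h2 := Coprime.centralizer_inf_commutator_eq_bot hzW hcop hWc
  have hle : ⁅W, zpowers x⁆ ≤ W := Coprime.commutator_le_of_le_normalizer hzW
  have htU : t ∈ normalizer ((⁅W, zpowers x⁆ : Subgroup G) : Set G) :=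
    le_normalizer_commutator (zpowers_le.2 (hMW ht)) (zpowers_le.2 hd.mem_normalizer)
      (mem_zpowers t)
  have htD : t ∈ normalizer ((W ⊓ centralizer (zpowers x : Set G) : Subgroup G) : Set G) :=
    le_normalizer_inf (zpowers_le.2 (hMW ht))
      (le_normalizer_centralizer (zpowers_le.2 hd.mem_normalizer)) (mem_zpowers t)
  obtain ⟨v, hv, hvt⟩ : ∃ v ∈ ⁅W, zpowers x⁆, v ∉ centralizer {t} := by
    by_contra hh
    push Not at hh
    have htc : t ∈ centralizer ((⁅W, zpowers x⁆ : Subgroup G) : Set G) := fun v hv =>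
      mem_centralizer_singleton_iff.1 (hh v hv)
    have hxn : zpowers x ≤ normalizer ((⁅W, zpowers x⁆ : Subgroup G) : Set G) :=
      le_normalizer_commutator hzW le_normalizer
    have h3 : x ^ 2 ∈ centralizer ((⁅W, zpowers x⁆ : Subgroup G) : Set G) := by
      have : x ^ 2 = x * t * x⁻¹ * t⁻¹ := by
        calc x ^ 2 = x * (x⁻¹)⁻¹ := by rw [sq, inv_inv]
          _ = x * (t * x * t⁻¹)⁻¹ := by rw [hd.inv]
          _ = _ := by group
      rw [this]
      exact mul_mem (Coprime.conj_mem_of_le_normalizer (le_normalizer_centralizer hxn)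
        (mem_zpowers x) htc) (inv_mem htc)
    have h4 : zpowers x ≤ centralizer ((⁅W, zpowers x⁆ : Subgroup G) : Set G) :=
      zpowers_le.2 fun v hv => (commute_of_commute_sq_of_odd hF hd.mem
        (show Commute (x ^ 2) v from (h3 v hv).symm)).eq.symm
    have h5 := Coprime.commutator_eq_bot_of_commutator_commutator_eq_bot hzW hcop
      (Coprime.commutator_eq_bot_iff_le_centralizer'.2 h4)
    rw [Coprime.commutator_eq_bot_iff_le_centralizer', zpowers_le] at h5
    have : x ∈ M ⊓ centralizer (W : Set G) := mem_inf.2 ⟨hFM hd.mem, h5⟩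
    rw [hf, mem_bot] at this
    have h6 := hd.order
    rw [this, orderOf_one] at h6
    omega
  intro d hdD
  by_contra hdt
  have h3 := mul_mem_of_relIndex_le_two (relIndex_pos' _ _).ne' h (mem_inf.1 hdD).1 (hle hv) hdt hvt
  rw [mem_centralizer_singleton_iff] at h3
  have h4 : d⁻¹ * (t * d * t⁻¹) = v * (t * v * t⁻¹)⁻¹ := by
    calc d⁻¹ * (t * d * t⁻¹) = d⁻¹ * (t * (d * v)) * v⁻¹ * t⁻¹ := by group
      _ = _ := by rw [← h3]; group
  have h5 : d⁻¹ * (t * d * t⁻¹) ∈ W ⊓ centralizer (zpowers x : Set G) ⊓ ⁅W, zpowers x⁆ :=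
    mem_inf.2 ⟨mul_mem (inv_mem hdD) ((mem_normalizer_iff.1 htD d).1 hdD),
      h4 ▸ mul_mem hv (inv_mem ((mem_normalizer_iff.1 htU v).1 hv))⟩
  rw [h2, mem_bot, inv_mul_eq_one, eq_mul_inv_iff_mul_eq] at h5
  exact hdt (mem_centralizer_singleton_iff.2 h5)

include hW hMW hf hFM hF in
/-- Two transvections with the same `x` generate with it a copy of `S₃`. -/
theorem IsTransvData.closure_eq {s t x : G} (hd : IsTransvData F t x) (ht : t ∈ M)
    (h : (centralizer {t}).relIndex W ≤ 2) (hd' : IsTransvData F s x) (hs : s ∈ M)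
    (h' : (centralizer {s}).relIndex W ≤ 2) :
    s ∈ closure {x, t} ∧ Nonempty (closure ({x, t} : Set G) ≃* Equiv.Perm (Fin 3)) := by
  have hz : zpowers x ≤ F := zpowers_le.2 hd.mem
  have hWc := isMulCommutative_of_sq_eq_one hW
  have hcop := coprime_card_of_odd (hF.of_dvd_nat (card_dvd_of_le hz))
    (isPGroup_two_of_sq_eq_one hW)
  have hzW := hz.trans (hFM.trans hMW)
  have h1 := Coprime.centralizer_sup_commutator hzW hcop
    (Or.inr (Coprime.isSolvable_of_isMulCommutative hWc))
  have hLM : closure ({x, t, s} : Set G) ≤ M := (closure_le _).2 (by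
    rintro g (rfl | rfl | rfl)
    exacts [hFM hd.mem, ht, hs])
  have hLz : closure ({x, t, s} : Set G) ≤ normalizer (zpowers x : Set G) := (closure_le _).2 (by
    rintro g (rfl | rfl | rfl)
    exacts [le_normalizer (mem_zpowers _), hd.mem_normalizer, hd'.mem_normalizer])
  have hLD : closure ({x, t, s} : Set G) ≤
      centralizer ((W ⊓ centralizer (zpowers x : Set G) : Subgroup G) : Set G) :=
    (closure_le _).2 (by
      rintro g (rfl | rfl | rfl) d hdD
      · exact ((mem_inf.1 hdD).2 _ (mem_zpowers _)).symm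
      · exact mem_centralizer_singleton_iff.1 (hd.inf_centralizer_le hW hMW hf hFM hF ht h hdD)
      · exact mem_centralizer_singleton_iff.1 (hd'.inf_centralizer_le hW hMW hf hFM hF hs h' hdD))
  have h4 : Nat.card (⁅W, zpowers x⁆ : Subgroup G) ≤ 4 := by
    obtain ⟨q, hq, e⟩ := hd.ex
    rw [card_commutator_eq_relIndex hzW hcop hWc, PGrp.centralizer_zpowers]
    have : centralizer {t} ⊓ centralizer {q * t * q⁻¹} ≤ centralizer {x} := fun g hg => by
      obtain ⟨h1, h2⟩ := mem_inf.1 hg
      rw [mem_centralizer_singleton_iff] at h1 h2 ⊢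
      rw [e]
      exact ((show Commute g (q * t * q⁻¹) from h2).mul_right
        (show Commute g t from h1).inv_right).eq
    refine (relIndex_mono_left this W).trans (relIndex_inf_le.trans ?_)
    rw [relIndex_centralizer_conj (hMW (hFM hq))]
    exact Nat.mul_le_mul h h
  obtain ⟨θ, hθ⟩ := exists_hom_perm_three
    (le_normalizer_commutator (hLM.trans hMW) hLz) h4
  have hinj : Function.Injective θ := by
    rw [injective_iff_map_eq_one]
    intro l hl
    have : (l : G) ∈ M ⊓ centralizer (W : Set G) := by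
      refine mem_inf.2 ⟨hLM l.2, ?_⟩
      rw [← h1, centralizer_sup_eq]
      exact mem_inf.2 ⟨hLD l.2, (hθ l).1 hl⟩
    rw [hf, mem_bot] at this
    exact Subtype.ext this
  have h6 : Nat.card (Equiv.Perm (Fin 3)) = 6 := by simp [Fintype.card_perm, Nat.factorial]
  have hL6 := Nat.le_of_dvd (by norm_num) (h6 ▸ card_dvd_of_injective θ hinj)
  have hEL : closure ({x, t} : Set G) ≤ closure {x, t, s} := closure_mono (by
    rintro g (rfl | rfl) <;> simp)
  have ht1 : t ≠ 1 := fun e => hd.not_commute (e ▸ Commute.one_left x)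
  have hE6 : 6 ≤ Nat.card (closure ({x, t} : Set G)) := by
    refine Nat.le_of_dvd Nat.card_pos ((show Nat.Coprime 2 3 by norm_num).mul_dvd_of_dvd_of_dvd ?_ ?_)
    · rw [← orderOf_eq_prime (sq_eq_one_of_transv hW hMW hf ht h) ht1]
      exact Subgroup.orderOf_dvd_natCard _ (Subgroup.subset_closure (by simp))
    · rw [← hd.order]
      exact Subgroup.orderOf_dvd_natCard _ (Subgroup.subset_closure (by simp))
  have e : closure ({x, t} : Set G) = closure {x, t, s} :=
    eq_of_le_of_card_ge hEL (hL6.trans hE6)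
  refine ⟨e ▸ Subgroup.subset_closure (by simp), ⟨(MulEquiv.subgroupCongr e).trans
    (MulEquiv.ofBijective θ ?_)⟩⟩
  rw [Nat.bijective_iff_injective_and_card]
  exact ⟨hinj, by rw [h6]; rw [e] at hE6; omega⟩

include hW hMW hf hFM hMF hN in
theorem IsTransvData.zpowers_eq {s t x y : G} (hd : IsTransvData F t x)
    (h : (centralizer {t}).relIndex W ≤ 2) (hd' : IsTransvData F s y) (hs : s ∈ M)
    (h' : (centralizer {s}).relIndex W ≤ 2) (hc : ¬ Commute s x) : zpowers y = zpowers x := by
  have h3 : x ^ 3 = 1 := hd.order ▸ pow_orderOf_eq_one x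
  have hS : ∀ z ∈ ({x, s * x * s⁻¹} : Set G), z ∈ F ∧ z ^ 3 = 1 := by
    rintro z (rfl | rfl)
    · exact ⟨hd.mem, h3⟩
    · exact ⟨(mem_normalizer_iff.1 (hMF hs) x).1 hd.mem, by rw [conj_pow, h3]; simp⟩
  have hle : closure ({x, s * x * s⁻¹} : Set G) ≤ F := (closure_le _).2 fun z hz => (hS z hz).1
  have : Fact (Nat.Prime 3) := ⟨Nat.prime_three⟩
  have hP := card_le_three_of_relIndex_le_eight (isPGroup_closure_of_nilpotent hN hS)
    (isPGroup_two_of_sq_eq_one hW) (isMulCommutative_of_sq_eq_one hW)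
    (hle.trans (hFM.trans hMW)) (eq_bot_iff.2 (hf ▸ inf_le_inf_right _ (hle.trans hFM))) (by
      obtain ⟨q, hq, e⟩ := hd.ex
      rw [centralizer_closure]
      have : centralizer {t} ⊓ centralizer {q * t * q⁻¹} ⊓ centralizer {s} ≤
          centralizer ({x, s * x * s⁻¹} : Set G) := by
        intro g hg
        obtain ⟨h12, h3⟩ := mem_inf.1 hg
        obtain ⟨h1, h2⟩ := mem_inf.1 h12
        rw [mem_centralizer_singleton_iff] at h1 h2 h3
        have hx : Commute g x := e ▸ (show Commute g (q * t * q⁻¹) from h2).mul_right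
          (show Commute g t from h1).inv_right
        rintro z (rfl | rfl)
        · exact hx.eq.symm
        · exact (((show Commute g s from h3).mul_right hx).mul_right
            (show Commute g s from h3).inv_right).eq.symm
      refine (relIndex_mono_left this W).trans (relIndex_inf_le.trans ?_)
      have h4 : (centralizer {t} ⊓ centralizer {q * t * q⁻¹}).relIndex W ≤ 4 := by
        refine relIndex_inf_le.trans ?_
        rw [relIndex_centralizer_conj (hMW (hFM hq))]
        exact Nat.mul_le_mul h h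
      exact Nat.mul_le_mul h4 h')
  have e1 := zpowers_eq_of_card_le_three hP hd.order (Subgroup.subset_closure (by simp))
  have hm : ⁅x, s⁆ ∈ closure ({x, s * x * s⁻¹} : Set G) := by
    have : ⁅x, s⁆ = x * (s * x * s⁻¹)⁻¹ := by rw [commutatorElement_def]; group
    rw [this]
    exact mul_mem (Subgroup.subset_closure (by simp)) (inv_mem (Subgroup.subset_closure (by simp)))
  have hy : y ∈ closure ({x, s * x * s⁻¹} : Set G) := by
    rcases eq_or_eq_inv_of_mem_zpowers hd'.order (hd'.comm x hd.mem) with e | e | e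
    · exact absurd (commutatorElement_eq_one_iff_commute.1 e).symm hc
    · exact e ▸ hm
    · rw [← inv_mem_iff, ← e]; exact hm
  rw [← e1, zpowers_eq_of_card_le_three hP hd'.order hy]

include hF hC in
omit [Finite G] in
theorem IsTransvData.commute_of_commute {s t x y : G} (hd : IsTransvData F t x) (ht : t ∈ M)
    (ht2 : t ^ 2 = 1) (hd' : IsTransvData F s y) (hs : s ∈ M) (hs2 : s ^ 2 = 1)
    (h1 : Commute s x) (h2 : Commute t y) : Commute s t := by
  have hxy : Commute x y := (hd'.central x hd.mem)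
  have ht' : t⁻¹ = t := inv_eq_of_mul_eq_one_right (by rw [← sq, ht2])
  have hs' : s⁻¹ = s := inv_eq_of_mul_eq_one_right (by rw [← sq, hs2])
  have key : ∀ f ∈ F, s * t * f * (s * t)⁻¹ = t * s * f * (t * s)⁻¹ := fun f hf => by
    obtain ⟨m, hm⟩ := hd.comm _ (F.inv_mem hf)
    obtain ⟨n, hn⟩ := hd'.comm _ (F.inv_mem hf)
    change x ^ m = _ at hm
    change y ^ n = _ at hn
    rw [commutatorElement_def] at hm hn
    have a1 : t * f * t⁻¹ = f * x ^ m := by rw [hm]; group
    have a2 : s * f * s⁻¹ = f * y ^ n := by rw [hn]; group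
    have b1 := (h1.zpow_right m).eq
    have b2 := (h2.zpow_right n).eq
    have b3 := (hxy.zpow_zpow m n).eq
    calc s * t * f * (s * t)⁻¹ = s * (t * f * t⁻¹) * s⁻¹ := by group
      _ = s * f * s⁻¹ * (s * x ^ m) * s⁻¹ := by rw [a1]; group
      _ = f * (y ^ n * x ^ m) := by rw [a2, b1]; group
      _ = t * f * t⁻¹ * (t * y ^ n) * t⁻¹ := by rw [a1, b2, ← b3]; group
      _ = t * (s * f * s⁻¹) * t⁻¹ := by rw [a2]; group
      _ = _ := by group
  obtain ⟨z, hz⟩ : ∃ z, z = (t * s)⁻¹ * (s * t) := ⟨_, rfl⟩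
  have hzF : z ∈ F := hC (mem_inf.2 ⟨hz ▸ mul_mem (inv_mem (mul_mem ht hs)) (mul_mem hs ht),
    fun f hf => by
      rw [hz]
      calc f * ((t * s)⁻¹ * (s * t)) = (t * s)⁻¹ * (t * s * f * (t * s)⁻¹) * (s * t) := by group
        _ = _ := by rw [← key f hf]; group⟩)
  have hz' : z = s * t * s * t := by rw [hz, mul_inv_rev, ht', hs']; group
  have hzi : z⁻¹ = t * s * t * s := by
    rw [hz']; simp only [mul_inv_rev, ht', hs', mul_assoc]
  have htt : t * t = 1 := by rw [← sq, ht2]
  have hss : s * s = 1 := by rw [← sq, hs2]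
  have e1 : ⁅z, t⁆ = z ^ 2 := by
    rw [commutatorElement_def, hzi, ht', sq]
    calc z * t * (t * s * t * s) * t = z * ((t * t) * s * t * s * t) := by group
      _ = _ := by rw [htt, one_mul, ← hz']
  have e2 : s * z * s⁻¹ = z⁻¹ := by
    rw [hzi, hs', hz']
    calc s * (s * t * s * t) * s = (s * s) * t * s * t * s := by group
      _ = _ := by rw [hss, one_mul]
  have e3 : Commute s (z ^ 2) := by
    obtain ⟨m, hm⟩ := hd.comm z hzF
    rw [← e1, ← hm]
    exact h1.zpow_right m
  have e4 : (z ^ 2) ^ 2 = 1 := by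
    have : z ^ 2 = (z ^ 2)⁻¹ := by rw [← inv_pow, ← e2, conj_pow, e3.eq]; group
    rw [sq (z ^ 2)]
    nth_rewrite 1 [this]
    group
  have e5 := eq_one_of_sq_of_odd hF hzF (eq_one_of_sq_of_odd hF (pow_mem hzF 2) e4)
  rw [hz, inv_mul_eq_one] at e5
  exact e5.symm

include hW hMW hf hFM hMF hF hN hC in
/-- A subgroup generated by an `F`-invariant set of transvections is a direct power of `S₃`. -/
theorem exists_mulEquiv_pi_perm_three {T : Set G}
    (hT : ∀ t ∈ T, t ∈ M ∧ t ≠ 1 ∧ (centralizer {t}).relIndex W ≤ 2)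
    (hT' : ∀ t ∈ T, ∀ q ∈ F, q * t * q⁻¹ ∈ closure T) :
    ∃ n : ℕ, Nonempty (closure T ≃* (Fin n → Equiv.Perm (Fin 3))) := by
  let S : Set (Subgroup G) := {E | ∃ t ∈ T, ∃ x, IsTransvData F t x ∧ E = closure {x, t}}
  have e : closure T = sSup S := by
    refine le_antisymm ((closure_le _).2 fun t ht => ?_) (sSup_le ?_)
    · obtain ⟨h1, h2, h3⟩ := hT t ht
      obtain ⟨x, hx⟩ := exists_isTransvData_of_transv hW hMW hf hFM hMF hF hN hC h1 h2 h3
      exact le_sSup (show closure {x, t} ∈ S from ⟨t, ht, x, hx, rfl⟩)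
        (Subgroup.subset_closure (by simp))
    · rintro E ⟨t, ht, x, hx, rfl⟩
      refine (closure_le _).2 ?_
      rintro g (rfl | rfl)
      · obtain ⟨q, hq, rfl⟩ := hx.ex
        exact mul_mem (hT' t ht q hq) (inv_mem (Subgroup.subset_closure ht))
      · exact Subgroup.subset_closure ht
  rw [e]
  refine exists_mulEquiv_pi_of_commute center_perm_three S ?_ ?_
  · rintro E ⟨t, ht, x, hx, rfl⟩
    obtain ⟨h1, -, h3⟩ := hT t ht
    exact (hx.closure_eq hW hMW hf hFM hF h1 h3 hx h1 h3).2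
  · have key : ∀ t ∈ T, ∀ x, IsTransvData F t x → ∀ s ∈ T, ∀ y, IsTransvData F s y →
        closure ({x, t} : Set G) ≠ closure {y, s} → Commute s x := by
      intro t ht x hx s hs y hy hne
      by_contra hc
      obtain ⟨h1, -, h3⟩ := hT t ht
      obtain ⟨h1', -, h3'⟩ := hT s hs
      have ez := hx.zpowers_eq hW hMW hf hFM hMF hN h3 hy h1' h3' hc
      have a1 := (hx.closure_eq hW hMW hf hFM hF h1 h3 (hy.of_zpowers_eq ez hx.order) h1' h3').1
      have a2 := (hy.closure_eq hW hMW hf hFM hF h1' h3'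
        (hx.of_zpowers_eq ez.symm hy.order) h1 h3).1
      refine hne (le_antisymm ((closure_le _).2 ?_) ((closure_le _).2 ?_))
      · rintro g (rfl | rfl)
        · exact (zpowers_le.2 (Subgroup.subset_closure (by simp)) : zpowers y ≤ closure {y, s})
            (ez ▸ mem_zpowers _)
        · exact a2
      · rintro g (rfl | rfl)
        · exact (zpowers_le.2 (Subgroup.subset_closure (by simp)) : zpowers x ≤ closure {x, t})
            (ez ▸ mem_zpowers _)
        · exact a1
    rintro E ⟨t, ht, x, hx, rfl⟩ E' ⟨s, hs, y, hy, rfl⟩ hne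
    have c1 := key t ht x hx s hs y hy hne
    have c2 := key s hs y hy t ht x hx hne.symm
    have c3 := hx.commute_of_commute hF hC (hT t ht).1
      (sq_eq_one_of_transv hW hMW hf (hT t ht).1 (hT t ht).2.2) hy (hT s hs).1
      (sq_eq_one_of_transv hW hMW hf (hT s hs).1 (hT s hs).2.2) c1 c2
    rw [centralizer_closure]
    refine (closure_le _).2 ?_
    rintro g (rfl | rfl) g' (rfl | rfl)
    exacts [hx.central _ hy.mem, c1.eq, c2.eq.symm, c3.eq]

end

end Cfsg.Agent.Core
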