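import Mathlib
import Cfsg.Agent.Lib.Core.Transv2

/-!
# Best offenders on `F₂`-modules of solvable groups are generated by transvections
-/

set_option autoImplicit false

namespace Cfsg.Agent.Core

open Subgroup
open scoped commutatorElement

variable {G : Type*} [Group G] [Finite G]

section

variable {W F M : Subgroup G} (hW : ∀ w ∈ W, w ^ 2 = 1) (hMW : M ≤ normalizer (W : Set G))
  (hf : M ⊓ centralizer (W : Set G) = ⊥) (hFM : F ≤ M) (hMF : M ≤ normalizer (F : Set G))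
  (hF : Odd (Nat.card F)) (hN : Group.IsNilpotent F) (hC : M ⊓ centralizer (F : Set G) ≤ F)

include hW in
omit [Finite G] in
theorem inf_centralizer_pow_le {b : G} (hb : b ∈ normalizer (W : Set G))
    (h : W ⊓ centralizer {b ^ 2} ≤ centralizer {b}) (j : ℕ) :
    W ⊓ centralizer {b ^ 2 ^ j} ≤ centralizer {b} := by
  have hδ : ∀ c ∈ normalizer (W : Set G), ∀ w ∈ W, ⁅c, w⁆ ∈ W := fun c hc w hw =>
    W.mul_mem ((mem_normalizer_iff.1 hc w).1 hw) (W.inv_mem hw)
  have hinv : ∀ w ∈ W, w⁻¹ = w := fun w hw =>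
    inv_eq_of_mul_eq_one_right (by rw [← sq, hW w hw])
  have hsq : ∀ c ∈ normalizer (W : Set G), ∀ w ∈ W,
      (⁅c, w⁆ ∈ centralizer {c} ↔ w ∈ centralizer {c ^ 2}) := fun c hc w hw => by
    rw [mem_centralizer_singleton_iff, mem_centralizer_singleton_iff]
    have h1 : c * w * c⁻¹ ∈ W := (mem_normalizer_iff.1 hc w).1 hw
    have h2 := hinv _ h1
    have h3 := hinv w hw
    have h4 := comm_of_sq_eq_one hW h1 hw
    have e : ⁅c, w⁆ = w * (c * w * c⁻¹)⁻¹ := by
      rw [h2, ← h4, commutatorElement_def, h3]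
    constructor
    · intro hh
      have : w * c ^ 2 = (w * (c * w * c⁻¹)⁻¹) * c * w * c := by rw [sq]; group
      rw [this, ← e, hh, commutatorElement_def, sq]
      group
    · intro hh
      calc ⁅c, w⁆ * c = w * c ^ 2 * c⁻¹ * w⁻¹ := by rw [e, sq]; group
        _ = _ := by rw [hh, commutatorElement_def, sq]; group
  induction j with
  | zero => simp
  | succ j ih =>
    intro w hw
    obtain ⟨hw, hw'⟩ := mem_inf.1 hw
    obtain ⟨c, hc⟩ : ∃ c, c = b ^ 2 ^ j := ⟨_, rfl⟩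
    have hcn : c ∈ normalizer (W : Set G) := hc ▸ pow_mem hb _
    have hbc : Commute b c := hc ▸ Commute.self_pow b _
    rw [pow_succ, pow_mul, ← hc] at hw'
    rw [← hc] at ih
    have h1 := ih (mem_inf.2 ⟨hδ c hcn w hw, (hsq c hcn w hw).2 hw'⟩)
    have h2 : ⁅b, w⁆ ∈ centralizer {c} := by
      rw [mem_centralizer_singleton_iff] at h1 ⊢
      have m1 : b * w * b⁻¹ ∈ W := (mem_normalizer_iff.1 hb w).1 hw
      have m2 := hδ c hcn w hw
      have k1 := comm_of_sq_eq_one hW m1 m2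
      have k3 := comm_of_sq_eq_one hW hw m2
      obtain ⟨d, hd⟩ : ∃ d, d = ⁅c, w⁆ := ⟨_, rfl⟩
      rw [← hd] at h1 k1 k3
      have a1 : c * w * c⁻¹ = d * w := by rw [hd, commutatorElement_def]; group
      rw [eq_comm, ← mul_inv_eq_iff_eq_mul, commutatorElement_def]
      calc c * (b * w * b⁻¹ * w⁻¹) * c⁻¹
          = (c * b * c⁻¹) * (c * w * c⁻¹) * (c * b * c⁻¹)⁻¹ * (c * w * c⁻¹)⁻¹ := by group
        _ = (b * d) * w * b⁻¹ * w⁻¹ * d⁻¹ := by rw [a1, ← hbc.eq]; group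
        _ = d * (b * w * b⁻¹) * w⁻¹ * d⁻¹ := by rw [← h1]; group
        _ = (b * w * b⁻¹) * w⁻¹ * (w * d) * w⁻¹ * d⁻¹ := by rw [← k1]; group
        _ = _ := by rw [k3]; group
    have h3 := ih (mem_inf.2 ⟨hδ b hb w hw, h2⟩)
    exact h (mem_inf.2 ⟨hw, (hsq b hb w hw).1 h3⟩)

include hW in
theorem two_mul_relIndex_sq_le {b : G} (hb : b ∈ normalizer (W : Set G)) {n : ℕ}
    (hn : b ^ 2 ^ n = 1) (h : b ∉ centralizer (W : Set G)) :
    2 * (centralizer {b ^ 2}).relIndex W ≤ (centralizer {b}).relIndex W := by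
  have hle : centralizer {b} ≤ centralizer ({b ^ 2} : Set G) := fun g hg => by
    rw [mem_centralizer_singleton_iff] at hg ⊢
    exact ((show Commute g b from hg).pow_right 2).eq
  have h1 := relIndex_mul_relIndex (W ⊓ centralizer {b}) (W ⊓ centralizer {b ^ 2}) W
    (inf_le_inf_left _ hle) inf_le_left
  rw [inf_relIndex_left, inf_relIndex_left] at h1
  rw [← h1]
  refine Nat.mul_le_mul_right _ ?_
  have h2 := relIndex_pos' (W ⊓ centralizer {b}) (W ⊓ centralizer {b ^ 2})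
  have h3 : (W ⊓ centralizer {b}).relIndex (W ⊓ centralizer {b ^ 2}) ≠ 1 := fun e => h (by
    have := inf_centralizer_pow_le hW hb ((relIndex_eq_one.1 e).trans inf_le_right) n
    intro w hw
    exact mem_centralizer_singleton_iff.1 (this (mem_inf.2 ⟨hw, by
      rw [hn, mem_centralizer_singleton_iff]; simp⟩)))
  omega

include hW in
theorem pow_mul_relIndex_le {a : G} (ha : a ∈ normalizer (W : Set G)) {n : ℕ}
    (hn : a ^ 2 ^ n = 1) (j : ℕ) (h : a ^ 2 ^ j ∉ centralizer (W : Set G)) :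
    2 ^ j * (centralizer {a ^ 2 ^ j}).relIndex W ≤ (centralizer {a}).relIndex W := by
  induction j with
  | zero => simp
  | succ j ih =>
    have h1 : a ^ 2 ^ j ∉ centralizer (W : Set G) := fun hh => h (by
      rw [pow_succ, pow_mul]; exact pow_mem hh 2)
    have h2 := two_mul_relIndex_sq_le hW (pow_mem ha (2 ^ j)) (n := n)
      (by rw [← pow_mul, mul_comm, pow_mul, hn, one_pow]) h1
    rw [← pow_mul, ← pow_succ] at h2
    calc _ = 2 ^ j * (2 * (centralizer {a ^ 2 ^ (j + 1)}).relIndex W) := by ring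
      _ ≤ _ := (Nat.mul_le_mul_left _ h2).trans (ih h1)

omit [Finite G] in
theorem relIndex_le_of_sup_zpowers {A B : Subgroup G} (hA : IsMulCommutative A) {a : G}
    (h : B ⊔ zpowers a = A) {n : ℕ} (hn : 0 < n) (ha : a ^ n ∈ B) : B.relIndex A ≤ n := by
  have hBA : B ≤ A := h ▸ le_sup_left
  have haA : a ∈ A := h ▸ mem_sup_right (mem_zpowers a)
  have hn' : A ≤ normalizer (B : Set G) := fun x hx =>
    centralizer_le_normalizer _ fun b hb => Coprime.mul_comm_of_mem hA (hBA hb) hx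
  have := normal_subgroupOf_of_le_normalizer hn'
  have h1 : zpowers ((⟨a, haA⟩ : A) : A ⧸ B.subgroupOf A) = ⊤ := by
    rw [eq_top_iff]
    intro y _
    obtain ⟨⟨y, hy⟩, rfl⟩ := QuotientGroup.mk_surjective y
    have hy' := hy
    rw [← h, mem_sup_of_le_normalizer' ((zpowers_le.2 haA).trans hn')] at hy'
    obtain ⟨b, hb, _, ⟨k, rfl⟩, rfl⟩ := hy'
    refine ⟨k, ?_⟩
    change ((⟨a, haA⟩ : A) : A ⧸ B.subgroupOf A) ^ k = _
    rw [← QuotientGroup.mk_zpow, QuotientGroup.eq, mem_subgroupOf]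
    simpa [mul_assoc] using Coprime.conj_mem_of_le_normalizer' hn' (zpow_mem haA k) hb
  have h2 : B.relIndex A = orderOf ((⟨a, haA⟩ : A) : A ⧸ B.subgroupOf A) := by
    rw [← Nat.card_zpowers, h1, card_top]; rfl
  rw [h2]
  refine orderOf_le_of_pow_eq_one hn ?_
  rw [← QuotientGroup.mk_pow, QuotientGroup.eq_one_iff]
  exact ha

include hW hMW hf hFM hMF hF hN in
theorem offender_step {A B₀ : Subgroup G} (hAM : A ≤ M) (hA : IsMulCommutative A)
    (hA2 : IsPGroup 2 A)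
    (hb : ∀ B ≤ A, Nat.card B * Nat.card ↥(W ⊓ centralizer (B : Set G)) ≤
      Nat.card A * Nat.card ↥(W ⊓ centralizer (A : Set G)))
    {a : G} (h : B₀ ⊔ zpowers a = A) {B : Subgroup G}
    (hB : B = A ⊓ centralizer ((F ⊓ centralizer (B₀ : Set G) : Subgroup G) : Set G))
    (hne : B ≠ A) :
    B.relIndex A = 2 ∧ Nat.card A * Nat.card ↥(W ⊓ centralizer (A : Set G)) ≤
      Nat.card B * Nat.card ↥(W ⊓ centralizer (B : Set G)) := by
  obtain ⟨Q, hQ⟩ : ∃ Q, Q = F ⊓ centralizer (B₀ : Set G) := ⟨_, rfl⟩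
  rw [← hQ] at hB
  have hQF : Q ≤ F := hQ ▸ inf_le_left
  have hBA : B ≤ A := hB ▸ inf_le_left
  have hBQ : B ≤ centralizer (Q : Set G) := hB ▸ inf_le_right
  have hB0A : B₀ ≤ A := h ▸ le_sup_left
  have haA : a ∈ A := h ▸ mem_sup_right (mem_zpowers a)
  have hB0B : B₀ ≤ B := hB ▸ le_inf hB0A (le_centralizer_iff.1 (hQ ▸ inf_le_right))
  have hsup : B ⊔ zpowers a = A :=
    le_antisymm (sup_le hBA (zpowers_le.2 haA)) (h ▸ sup_le_sup_right hB0B _)
  have hAc : ∀ {D : Subgroup G}, D ≤ A → A ≤ normalizer (centralizer (D : Set G) : Set G) :=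
    fun hD => le_normalizer_centralizer fun x hx =>
      centralizer_le_normalizer _ fun b hb => Coprime.mul_comm_of_mem hA (hD hb) hx
  have hAQ : A ≤ normalizer (Q : Set G) := hQ ▸ le_normalizer_inf (hAM.trans hMF) (hAc hB0A)
  obtain ⟨W₀, hW₀⟩ : ∃ W₀, W₀ = W ⊓ centralizer (B : Set G) := ⟨_, rfl⟩
  have hW0 : ∀ w ∈ W₀, w ^ 2 = 1 := fun w hw => hW w (mem_inf.1 (hW₀ ▸ hw)).1
  have hAW0 : A ≤ normalizer (W₀ : Set G) := hW₀ ▸ le_normalizer_inf (hAM.trans hMW) (hAc hBA)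
  have hQW0 : Q ≤ normalizer (W₀ : Set G) := hW₀ ▸ le_normalizer_inf ((hQF.trans hFM).trans hMW)
    ((le_centralizer_iff.1 hBQ).trans le_normalizer)
  have hQodd : Odd (Nat.card Q) := hF.of_dvd_nat (card_dvd_of_le hQF)
  have hQf : Q ⊓ centralizer (W₀ : Set G) = ⊥ := by
    have := Coprime.thompson_AxB (p := 2) (P := B) (Q := Q ⊓ centralizer (W₀ : Set G)) (G := W)
      (hA2.to_le hBA) (Nat.coprime_two_right.2 (hQodd.of_dvd_nat (card_dvd_of_le inf_le_left)))
      (hBQ.trans (centralizer_le (inf_le_left : Q ⊓ centralizer (W₀ : Set G) ≤ Q)))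
      (isPGroup_two_of_sq_eq_one hW) ((hBA.trans hAM).trans hMW)
      (inf_le_left.trans ((hQF.trans hFM).trans hMW))
      (hW₀ ▸ le_centralizer_iff.1 inf_le_right)
    rw [eq_bot_iff, ← hf]
    exact le_inf (inf_le_left.trans (hQF.trans hFM)) this
  have hAf : ∀ c ∈ A, c ∈ centralizer (W₀ : Set G) → c ∈ B := fun c hc hc' => by
    rw [hB]
    refine mem_inf.2 ⟨hc, fun q hq => ?_⟩
    refine (commutatorElement_eq_one_iff_commute.1 ?_).eq
    rw [← mem_bot, ← hQf, commutatorElement_def]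
    refine mem_inf.2 ⟨?_, mul_mem (Coprime.conj_mem_of_le_normalizer
      (le_normalizer_centralizer hQW0) hq hc') (inv_mem hc')⟩
    rw [mul_assoc, mul_assoc, ← mul_assoc c]
    exact Q.mul_mem hq (Coprime.conj_mem_of_le_normalizer hAQ hc (Q.inv_mem hq))
  have haB : a ∉ B := fun hh => hne (by rw [← hsup, sup_eq_left.2 (zpowers_le.2 hh)])
  obtain ⟨n, hn⟩ : ∃ n, a ^ 2 ^ n = 1 := by
    obtain ⟨n, hn⟩ := hA2 ⟨a, haA⟩
    exact ⟨n, congrArg Subtype.val hn⟩
  obtain ⟨j, hj1, hj2⟩ : ∃ j, a ^ 2 ^ j ∉ B ∧ a ^ 2 ^ (j + 1) ∈ B := by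
    by_contra hh
    push Not at hh
    have key : ∀ j, a ^ 2 ^ j ∉ B := fun j => by
      induction j with
      | zero => simpa using haB
      | succ j ih => exact hh j ih
    exact key n (hn ▸ one_mem _)
  have hm := relIndex_le_of_sup_zpowers hA hsup (by positivity) hj2
  have e1 : W ⊓ centralizer (A : Set G) = centralizer {a} ⊓ W₀ := by
    rw [← hsup, centralizer_sup_eq, PGrp.centralizer_zpowers, hW₀, ← inf_assoc, inf_comm]
  have c1 := card_inf_mul_relIndex (centralizer {a}) W₀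
  have c2 := card_mul_relIndex_of_le hBA
  have hr : (centralizer {a}).relIndex W₀ ≤ B.relIndex A := by
    have := hb B hBA
    rw [← hW₀, e1, ← c1, ← c2] at this
    have p1 : 0 < Nat.card B * Nat.card ↥(centralizer {a} ⊓ W₀) :=
      Nat.mul_pos Nat.card_pos Nat.card_pos
    refine Nat.le_of_mul_le_mul_left ?_ p1
    calc _ = Nat.card B * (Nat.card ↥(centralizer {a} ⊓ W₀) * (centralizer {a}).relIndex W₀) := by
          ring
      _ ≤ _ := this
      _ = _ := by ring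
  have huA : a ^ 2 ^ j ∈ A := pow_mem haA _
  have hu := pow_mul_relIndex_le hW0 (hAW0 haA) hn j fun hh => hj1 (hAf _ huA hh)
  have hu2 : (centralizer {a ^ 2 ^ j}).relIndex W₀ ≤ 2 :=
    Nat.le_of_mul_le_mul_left (by rw [← pow_succ]; exact hu.trans (hr.trans hm))
      (show 0 < 2 ^ j by positivity)
  obtain ⟨x, hx⟩ := exists_isTransvData hW0 hQodd (isNilpotent_of_le hN hQF) hQW0 hQf
    (hAW0 huA) (hAQ huA) hu2 fun hh => hj1 (hB ▸ mem_inf.2 ⟨huA, hh⟩)
  have hj : j = 0 := by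
    rcases j with _ | j
    · rfl
    exfalso
    obtain ⟨c, hc⟩ : ∃ c, c = a ^ 2 ^ j := ⟨_, rfl⟩
    have hcA : c ∈ A := hc ▸ pow_mem haA _
    rw [pow_succ, pow_mul, ← hc] at hx
    have h3 : x ^ 3 = 1 := hx.order ▸ pow_orderOf_eq_one x
    have hy : c * x * c⁻¹ ∈ zpowers x := by
      have h1 := hx.comm _ (Coprime.conj_mem_of_le_normalizer hAQ hcA hx.mem)
      have h2 : ⁅c * x * c⁻¹, c ^ 2⁆ = (c * x * c⁻¹) ^ 2 := by
        calc ⁅c * x * c⁻¹, c ^ 2⁆ = c * x * (c ^ 2 * x * (c ^ 2)⁻¹)⁻¹ * c⁻¹ := by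
              rw [commutatorElement_def]; group
          _ = _ := by rw [hx.inv, inv_inv, conj_pow, sq]; group
      rw [h2] at h1
      have h4 : c * x * c⁻¹ = ((c * x * c⁻¹) ^ 2) ^ 2 := by
        rw [← pow_mul, conj_pow, show 2 * 2 = 3 + 1 by rfl, pow_succ, h3, one_mul]
      rw [h4]
      exact pow_mem h1 2
    refine hx.not_commute ?_
    rcases eq_or_eq_inv_of_mem_zpowers hx.order hy with e | e | e
    · have : x = 1 := by simpa using e
      exact this ▸ Commute.one_right _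
    · exact Commute.pow_left (mul_inv_eq_iff_eq_mul.1 e) 2
    · calc c ^ 2 * x = c * (c * x * c⁻¹) * c := by rw [sq]; group
        _ = c * x⁻¹ * c := by rw [e]
        _ = (c * x * c⁻¹)⁻¹ * c ^ 2 := by rw [sq]; group
        _ = _ := by rw [e, inv_inv]
  subst hj
  have h2 : B.relIndex A ≠ 1 := fun e => haB (relIndex_eq_one.1 e haA)
  have h3 := relIndex_pos' B A
  have h4 : B.relIndex A = 2 := by norm_num at hm; omega
  refine ⟨h4, ?_⟩
  have h5 : (centralizer {a}).relIndex W₀ ≠ 1 := fun e => haB (hAf a haA fun w hw =>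
    mem_centralizer_singleton_iff.1 (relIndex_eq_one.1 e hw))
  have h6 := relIndex_pos' (centralizer {a}) W₀
  rw [← hW₀, e1, ← c1, ← c2, h4, mul_assoc, mul_comm 2]
  exact Nat.mul_le_mul_left _ (Nat.mul_le_mul_left _ (by omega))

include hW hMW hf hFM hMF hF hN hC in
/-- Abelian best offenders are generated by transvections. -/
theorem le_closure_transv_of_offender (A : Subgroup G) : A ≤ M → IsMulCommutative A →
    IsPGroup 2 A → (∀ B ≤ A, Nat.card B * Nat.card ↥(W ⊓ centralizer (B : Set G)) ≤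
      Nat.card A * Nat.card ↥(W ⊓ centralizer (A : Set G))) →
    A ≤ closure {t | t ∈ A ∧ t ≠ 1 ∧ (centralizer {t}).relIndex W ≤ 2} := by
  induction A using subgroup_induction_lt with
  | h A ih =>
  intro hAM hA hA2 hb
  obtain ⟨K, hK⟩ : ∃ K, K = closure {t | t ∈ A ∧ t ≠ 1 ∧ (centralizer {t}).relIndex W ≤ 2} :=
    ⟨_, rfl⟩
  rw [← hK]
  by_contra hAK
  have hKA : K ≤ A := hK ▸ (closure_le _).2 fun t ht => ht.1
  have hcop : (Nat.card A).Coprime (Nat.card F) := (coprime_card_of_odd hF hA2).symm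
  have hbot : ∀ D ≤ A, F ≤ centralizer (D : Set G) → D = ⊥ := fun D hD h => by
    have h1 : D ≤ F := (le_inf (hD.trans hAM) (le_centralizer_iff.1 h)).trans hC
    rw [eq_bot_iff, ← inf_eq_bot_of_coprime_card hcop]
    exact le_inf hD h1
  have key : ∀ B₀ : Subgroup G, ∀ a, B₀ ⊔ zpowers a = A →
      ¬ F ⊓ centralizer (B₀ : Set G) ≤ centralizer (A : Set G) →
      A ⊓ centralizer ((F ⊓ centralizer (B₀ : Set G) : Subgroup G) : Set G) = K ∧
        K.relIndex A = 2 ∧ a ∉ K := fun B₀ a h hn => by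
    obtain ⟨B, hB⟩ : ∃ B, B = A ⊓ centralizer ((F ⊓ centralizer (B₀ : Set G) : Subgroup G) : Set G) :=
      ⟨_, rfl⟩
    have hBA : B ≤ A := hB ▸ inf_le_left
    have hne : B ≠ A := fun e => hn (le_centralizer_iff.1 (by rw [← e, hB]; exact inf_le_right))
    obtain ⟨h1, h2⟩ := offender_step hW hMW hf hFM hMF hF hN hAM hA hA2 hb h hB hne
    have hBK : B ≤ K := (ih B (lt_of_le_of_ne hBA hne) (hBA.trans hAM)
      ⟨⟨fun x y => Subtype.ext (Coprime.mul_comm_of_mem hA (hBA x.2) (hBA y.2))⟩⟩ (hA2.to_le hBA)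
      fun B' hB' => (hb B' (hB'.trans hBA)).trans h2).trans
      (hK ▸ closure_mono fun t ht => ⟨hBA ht.1, ht.2⟩)
    have h3 := relIndex_mul_relIndex B K A hBK hKA
    have h4 : K.relIndex A ≠ 1 := fun e => hAK (relIndex_eq_one.1 e)
    rw [h1] at h3
    have h5 : K.relIndex A = 2 :=
      ((Nat.dvd_prime Nat.prime_two).1 (Dvd.intro_left _ h3)).resolve_left h4
    rw [h5] at h3
    have h6 : B = K := le_antisymm hBK (relIndex_eq_one.1 (by omega))
    refine ⟨hB ▸ h6, h5, fun ha => hAK ?_⟩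
    rw [← h, ← h6]
    exact sup_le (hB ▸ le_inf (h ▸ le_sup_left) (le_centralizer_iff.1 inf_le_right))
      (zpowers_le.2 (h6 ▸ ha))
  have hK0 : K = ⊥ := hbot K hKA (Coprime.le_of_forall_cyclic_quotient hA (hAM.trans hMF) hcop
    fun B₀ _ ⟨a, _, h⟩ => by
      by_cases hn : F ⊓ centralizer (B₀ : Set G) ≤ centralizer (A : Set G)
      · exact hn.trans (centralizer_le hKA)
      · rw [← (key B₀ a h hn).1]
        exact le_centralizer_iff.1 inf_le_right)
  obtain ⟨B₀, a, haA, h, hn⟩ : ∃ (B₀ : Subgroup G) (a : G), a ∈ A ∧ B₀ ⊔ zpowers a = A ∧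
      ¬ F ⊓ centralizer (B₀ : Set G) ≤ centralizer (A : Set G) := by
    by_contra hh
    push Not at hh
    exact hAK ((hbot A le_rfl (Coprime.le_of_forall_cyclic_quotient hA (hAM.trans hMF) hcop
      fun B₀ _ ⟨a, ha, h⟩ => hh B₀ a ha h)).le.trans bot_le)
  obtain ⟨h1, h2, h3⟩ := key B₀ a h hn
  refine h3 (hK ▸ Subgroup.subset_closure ⟨haA, fun e => h3 (e ▸ one_mem K), ?_⟩)
  rw [hK0, relIndex_bot_left] at h2
  have hB0 : B₀ = ⊥ := by
    rw [eq_bot_iff, ← hK0, ← h1]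
    exact le_inf (h ▸ le_sup_left) (le_centralizer_iff.1 inf_le_right)
  rw [hB0, bot_sup_eq] at h
  have h4 := hb ⊥ bot_le
  rw [h2, card_bot, one_mul, ← h, PGrp.centralizer_zpowers, inf_comm W (centralizer {a}),
    inf_eq_left.2 (le_centralizer_iff.1 bot_le), ← card_inf_mul_relIndex (centralizer {a}) W,
    mul_comm] at h4
  exact Nat.le_of_mul_le_mul_right h4 Nat.card_pos

end

end Cfsg.Agent.Core
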