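import Mathlib
import Cfsg.Agent.Lib.Core.Transv3
import Cfsg.Agent.Lib.Core.Primitive

/-!
# Failure of factorization in solvable groups for the prime two
-/

set_option autoImplicit false

namespace Cfsg.Agent.Core

open Subgroup

variable {X : Type*} [Group X] [Finite X]

theorem exists_mulEquiv_pi_of_offenders (hs : Group.IsSolvable X) {W : Subgroup X} [W.Normal]
    (hW : ∀ w ∈ W, w ^ 2 = 1)
    (hO : ∀ D : Subgroup X, D.Normal →
      (∀ g ∈ D, (orderOf g).Coprime 2 → g ∈ centralizer (W : Set X)) → D ≤ centralizer (W : Set X))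
    (𝒜 : Set (Subgroup X)) (h : ∀ A ∈ 𝒜, IsMulCommutative A ∧ IsPGroup 2 A ∧
      ∀ B ≤ A, centralizer (W : Set X) ⊓ A ≤ B →
        Nat.card B * Nat.card ↥(W ⊓ centralizer (B : Set X)) ≤
          Nat.card A * Nat.card ↥(W ⊓ centralizer (A : Set X))) :
    ∃ n : ℕ, Nonempty ((normalClosure ((sSup 𝒜 : Subgroup X) : Set X) ⧸
      (centralizer (W : Set X)).subgroupOf (normalClosure ((sSup 𝒜 : Subgroup X) : Set X))) ≃*
        (Fin n → Equiv.Perm (Fin 3))) := by
  obtain ⟨Y, hY⟩ : ∃ Y, Y = normalClosure ((sSup 𝒜 : Subgroup X) : Set X) := ⟨_, rfl⟩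
  rw [← hY]
  have hYn : Y.Normal := hY ▸ inferInstance
  let H := W ⋊[MonoidHom.id (MulAut W)] MulAut W
  have : Finite H := Finite.of_equiv _ SemidirectProduct.equivProd.symm
  let ι : W →* H := SemidirectProduct.inl
  let κ : X →* H := SemidirectProduct.inr.comp MulAut.conjNormal
  have hι : Function.Injective ι := SemidirectProduct.inl_injective
  have hconj : ∀ x w, κ x * ι w * (κ x)⁻¹ = ι (MulAut.conjNormal x w) := fun x w => by
    have := SemidirectProduct.inl_aut (φ := MonoidHom.id (MulAut W)) (MulAut.conjNormal x) w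
    rw [map_inv] at this
    exact this.symm
  have hcomm : ∀ x (w : W), κ x * ι w = ι w * κ x ↔ x * w = w * x := fun x w => by
    rw [← mul_inv_eq_iff_eq_mul, hconj, hι.eq_iff, Subtype.ext_iff, MulAut.conjNormal_apply,
      mul_inv_eq_iff_eq_mul]
  have hcard : ∀ B : Subgroup X, Nat.card ↥(ι.range ⊓ centralizer ((B.map κ : Subgroup H) : Set H))
      = Nat.card ↥(W ⊓ centralizer (B : Set X)) := fun B => by
    have : ι.range ⊓ centralizer ((B.map κ : Subgroup H) : Set H) =
        ((centralizer (B : Set X)).subgroupOf W).map ι := by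
      ext g
      constructor
      · intro hg
        obtain ⟨⟨w, rfl⟩, hg⟩ := mem_inf.1 hg
        exact ⟨w, fun b hb => (hcomm b w).1 (hg _ ⟨b, hb, rfl⟩), rfl⟩
      · rintro ⟨w, hw, rfl⟩
        refine mem_inf.2 ⟨⟨w, rfl⟩, ?_⟩
        rintro _ ⟨b, hb, rfl⟩
        exact (hcomm b w).2 (hw b hb)
    rw [this, card_map_of_injective hι, card_subgroupOf, inf_comm]
  have hmem : ∀ x, κ x ∈ centralizer (ι.range : Set H) ↔ x ∈ centralizer (W : Set X) := fun x =>
    ⟨fun hx w hw => ((hcomm x ⟨w, hw⟩).1 (hx _ ⟨⟨w, hw⟩, rfl⟩).symm).symm, fun hx => by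
      rintro _ ⟨w, rfl⟩
      exact ((hcomm x w).2 (hx w w.2).symm).symm⟩
  have hker : κ.ker = centralizer (W : Set X) := by
    ext x
    rw [MonoidHom.mem_ker]
    refine ⟨fun hx => (hmem x).1 (hx ▸ one_mem _), fun hx => ?_⟩
    have : MulAut.conjNormal x = (1 : MulAut W) := by
      ext w
      simp [← hx w w.2]
    change SemidirectProduct.inr (MulAut.conjNormal x) = (1 : H)
    rw [this, map_one]
  have hW' : ∀ w ∈ ι.range, w ^ 2 = 1 := by
    rintro _ ⟨w, rfl⟩
    rw [← map_pow, show w ^ 2 = 1 from Subtype.ext (hW w w.2), map_one]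
  have hMW : κ.range ≤ normalizer (ι.range : Set H) := by
    rintro _ ⟨x, rfl⟩
    refine mem_normalizer_of_map_conj_le ?_
    rintro _ ⟨_, ⟨w, rfl⟩, rfl⟩
    exact ⟨_, (hconj x w).symm⟩
  have hf : κ.range ⊓ centralizer (ι.range : Set H) = ⊥ := by
    rw [eq_bot_iff]
    intro g hg
    obtain ⟨⟨x, rfl⟩, hg⟩ := mem_inf.1 hg
    rw [hmem, ← hker] at hg
    exact hg
  have hMs : Group.IsSolvable κ.range :=
    Group.isSolvable_of_surjective κ.rangeRestrict_surjective
  have hO2 : pCoreOf 2 κ.range = ⊥ := by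
    have hn : ((pCoreOf 2 κ.range).comap κ).Normal := ⟨fun d hd g => by
      rw [mem_comap, map_mul, map_mul, map_inv]
      exact Coprime.conj_mem_of_le_normalizer (le_normalizer_pCoreOf _) ⟨g, rfl⟩ hd⟩
    have := hO _ hn fun g hg ho => by
      rw [← hker, MonoidHom.mem_ker, ← orderOf_eq_one_iff]
      obtain ⟨k, hk⟩ := isPGroup_pCoreOf (p := 2) κ.range ⟨κ g, hg⟩
      have h1 : orderOf (κ g) ∣ 2 ^ k := orderOf_dvd_of_pow_eq_one (congrArg Subtype.val hk)
      exact Nat.Coprime.eq_one_of_dvd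
        ((ho.pow_right k).coprime_dvd_left (orderOf_map_dvd κ g)) h1
    rw [eq_bot_iff]
    intro g hg
    obtain ⟨x, rfl⟩ := pCoreOf_le _ hg
    rw [← hker] at this
    exact this hg
  have hF : Odd (Nat.card (fittingOf κ.range)) := by
    rw [← Nat.not_even_iff_odd, even_iff_two_dvd]
    intro h2
    obtain ⟨g, hg⟩ := exists_prime_orderOf_dvd_card' 2 h2
    have h3 : IsPGroup 2 (zpowers (g : H)) := by
      rw [IsPGroup.iff_card]
      exact ⟨1, by rw [Nat.card_zpowers, orderOf_coe, hg, pow_one]⟩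
    have := le_pCoreOf_of_le_fittingOf h3 (zpowers_le.2 g.2) (mem_zpowers _)
    rw [hO2, mem_bot, OneMemClass.coe_eq_one] at this
    rw [this, orderOf_one] at hg
    omega
  let T : Set H := {t | t ∈ Y.map κ ∧ t ≠ 1 ∧ (centralizer {t}).relIndex ι.range ≤ 2}
  have hTn : ∀ t ∈ T, ∀ q ∈ κ.range, q * t * q⁻¹ ∈ T := by
    rintro _ ⟨⟨y, hy, rfl⟩, h1, h2⟩ _ ⟨x, rfl⟩
    refine ⟨⟨x * y * x⁻¹, hYn.conj_mem y hy x, by simp⟩, fun e => h1 (by simpa using e), ?_⟩
    rwa [relIndex_centralizer_conj (hMW ⟨x, rfl⟩)]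
  obtain ⟨n, ⟨e⟩⟩ := exists_mulEquiv_pi_perm_three hW' hMW hf (fittingOf_le _)
    (le_normalizer_fittingOf _) hF (isNilpotent_fittingOf _) (inf_centralizer_fittingOf_le hMs)
    (T := T) (fun t ht => ⟨map_le_range κ Y ht.1, ht.2⟩)
    fun t ht q hq => Subgroup.subset_closure (hTn t ht q (fittingOf_le _ hq))
  have hYT : Y.map κ = closure T := by
    refine le_antisymm ?_ ((closure_le _).2 fun t ht => ht.1)
    have hn : ((closure T).comap κ).Normal := ⟨fun d hd g => by
      rw [mem_comap] at hd ⊢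
      rw [map_mul, map_mul, map_inv]
      have : (closure T).map (MulAut.conj (κ g)).toMonoidHom ≤ closure T := by
        rw [MonoidHom.map_closure]
        refine closure_mono ?_
        rintro _ ⟨t, ht, rfl⟩
        exact hTn t ht _ ⟨g, rfl⟩
      exact this ⟨_, hd, rfl⟩⟩
    rw [map_le_iff_le_comap, hY]
    refine normalClosure_le_normal (sSup_le fun A hA => ?_ : sSup 𝒜 ≤ (closure T).comap κ)
    obtain ⟨h1, h2, h3⟩ := h A hA
    have hAY : A ≤ Y := hY ▸ (le_sSup hA).trans le_normalClosure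
    rw [← map_le_iff_le_comap]
    refine (le_closure_transv_of_offender hW' hMW hf (fittingOf_le _)
      (le_normalizer_fittingOf _) hF (isNilpotent_fittingOf _) (inf_centralizer_fittingOf_le hMs)
      (A.map κ) (map_le_range κ A) inferInstance (h2.map κ) fun B' hB' => ?_).trans
      (closure_mono fun t ht => ⟨map_mono hAY ht.1, ht.2⟩)
    have e1 : (A ⊓ B'.comap κ).map κ = B' := by
      refine le_antisymm (map_le_iff_le_comap.2 inf_le_right) fun b hb => ?_
      obtain ⟨a, ha, rfl⟩ := hB' hb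
      exact ⟨a, mem_inf.2 ⟨ha, hb⟩, rfl⟩
    have hkB : κ.ker ⊓ A ≤ A ⊓ B'.comap κ :=
      le_inf inf_le_right (inf_le_left.trans (ker_le_comap κ B'))
    have e2 : κ.ker ⊓ (A ⊓ B'.comap κ) = κ.ker ⊓ A :=
      le_antisymm (inf_le_inf_left _ inf_le_left) (le_inf inf_le_left hkB)
    have c1 := card_inf_ker_mul_card_map κ (A ⊓ B'.comap κ)
    have c2 := card_inf_ker_mul_card_map κ A
    have c3 := h3 _ inf_le_left (hker ▸ hkB)
    rw [← hcard, ← hcard, ← c1, ← c2, e1, e2, mul_assoc, mul_assoc] at c3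
    exact Nat.le_of_mul_le_mul_left c3 Nat.card_pos
  refine ⟨n, ⟨MulEquiv.trans ?_ ((MulEquiv.subgroupCongr hYT).trans e)⟩⟩
  refine (QuotientGroup.quotientMulEquivOfEq ?_).trans
    ((QuotientGroup.quotientKerEquivRange (κ.domRestrict Y)).trans
      (MulEquiv.subgroupCongr (MonoidHom.domRestrict_range Y κ)))
  rw [MonoidHom.ker_domRestrict, hker]

/-- Ambient description of the abelian Thompson subgroup. -/
def maxAbIn (T : Subgroup X) : Set (Subgroup X) :=
  {A | A ≤ T ∧ IsMulCommutative A ∧ ∀ B ≤ T, IsMulCommutative B → Nat.card B ≤ Nat.card A}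

omit [Finite X] in
theorem thompsonSubgroupAOf_eq (T : Subgroup X) : thompsonSubgroupAOf T = sSup (maxAbIn T) := by
  unfold thompsonSubgroupAOf thompsonSubgroupA
  refine le_antisymm ?_ (sSup_le fun A hA => ?_)
  · rw [map_le_iff_le_comap]
    refine sSup_le fun A hA => ?_
    rw [← map_le_iff_le_comap]
    have := hA.1
    refine le_sSup ⟨map_subtype_le _, inferInstance, fun B hB hc => ?_⟩
    rw [card_map_subtype, ← card_subgroupOf_of_le hB]
    exact hA.2 _ inferInstance
  · rw [← map_subgroupOf_eq_of_le hA.1]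
    have := hA.2.1
    refine map_mono (le_sSup ⟨inferInstance, fun B hB => ?_⟩)
    rw [card_subgroupOf_of_le hA.1, ← card_map_subtype]
    exact hA.2.2 _ (map_subtype_le _) inferInstance

omit [Finite X] in
theorem thompsonSubgroupAOf_le (T : Subgroup X) : thompsonSubgroupAOf T ≤ T := map_subtype_le _

theorem normalizer_le_normalizer_thompsonSubgroupAOf {S T : Subgroup X}
    (h1 : thompsonSubgroupAOf T ≤ S) (h2 : S ≤ T) :
    normalizer (S : Set X) ≤ normalizer (thompsonSubgroupAOf T : Set X) := by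
  intro g hg
  refine mem_normalizer_of_map_conj_le ?_
  rw [thompsonSubgroupAOf_eq] at h1 ⊢
  rw [map_le_iff_le_comap]
  refine sSup_le fun A hA => ?_
  rw [← map_le_iff_le_comap]
  have := hA.2.1
  refine le_sSup ⟨?_, inferInstance, fun B hB hc => ?_⟩
  · rintro _ ⟨a, ha, rfl⟩
    exact h2 ((mem_normalizer_iff.1 hg a).1 (h1 (le_sSup hA ha)))
  · rw [card_map_of_injective (MulAut.conj g).injective]
    exact hA.2.2 B hB hc

theorem inf_centralizer_le_of_mem_maxAbIn {T A : Subgroup X} (hA : A ∈ maxAbIn T) :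
    T ⊓ centralizer (A : Set X) ≤ A := by
  intro t ht
  obtain ⟨h1, h2⟩ := mem_inf.1 ht
  have h3 : A ≤ centralizer (zpowers t : Set X) := le_centralizer_iff.1 (zpowers_le.2 h2)
  have := eq_of_le_of_card_ge (le_sup_left : A ≤ A ⊔ zpowers t) (hA.2.2 _
    (sup_le hA.1 (zpowers_le.2 h1)) (PGrp.isMulCommutative_sup hA.2.1 inferInstance h3))
  exact this ▸ mem_sup_right (mem_zpowers t)

theorem offender_of_mem_maxAbIn {T A W B : Subgroup X} (hA : A ∈ maxAbIn T) (hWT : W ≤ T)
    (hW : IsMulCommutative W) (hB : B ≤ A) :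
    Nat.card B * Nat.card ↥(W ⊓ centralizer (B : Set X)) ≤
      Nat.card A * Nat.card ↥(W ⊓ centralizer (A : Set X)) := by
  have hc : B ≤ centralizer ((W ⊓ centralizer (B : Set X) : Subgroup X) : Set X) :=
    le_centralizer_iff.1 inf_le_right
  rw [← card_sup_mul_card_inf_of_le_normalizer (hc.trans (centralizer_le_normalizer _))]
  refine Nat.mul_le_mul (hA.2.2 _ (sup_le (hB.trans hA.1) (inf_le_left.trans hWT))
    (PGrp.isMulCommutative_sup
      ⟨⟨fun x y => Subtype.ext (Coprime.mul_comm_of_mem hA.2.1 (hB x.2) (hB y.2))⟩⟩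
      ⟨⟨fun x y => Subtype.ext (Coprime.mul_comm_of_mem hW (mem_inf.1 x.2).1 (mem_inf.1 y.2).1)⟩⟩
      hc)) (card_le_of_le (le_inf (inf_le_right.trans inf_le_left) (inf_le_left.trans ?_)))
  intro b hb a ha
  exact Coprime.mul_comm_of_mem hA.2.1 ha (hB hb)

end Cfsg.Agent.Core
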