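import Cfsg.Agent.Lib.OO.BG1
import Cfsg.Agent.Lib.Cls.Count
import Cfsg.Agent.Lib.Transfer.Frobenius
import Cfsg.Agent.Lib.Char.Burnside

/-! # Groups whose `p'`-subgroups of order divisible by `q` are `q`-groups, I: tools -/

set_option autoImplicit false
set_option linter.unusedSectionVars false

namespace Cfsg.Agent.Mix

open Subgroup Cfsg.Agent.Coprime Cfsg.Agent.OO
open scoped Pointwise commutatorElement

universe u

/-- The regular case of the friendship theorem. -/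
theorem friendship {I : Type*} [Finite I] [Nonempty I] (r : I → I → Prop)
    (hs : ∀ a b, r a b → r b a) (hi : ∀ a, ¬ r a a) (hu : ∀ a b, a ≠ b → ∃! c, r c a ∧ r c b)
    {d : ℕ} (hd : ∀ a, {c | r c a}.ncard = d) (h3 : 3 ≤ d) : False := by
  classical
  have := Fintype.ofFinite I
  obtain ⟨l, hl, hld⟩ := Nat.exists_prime_and_dvd (show d - 1 ≠ 1 by omega)
  have := Fact.mk hl
  have hd1 : (d : ZMod l) = 1 := by
    have h1 : ((d - 1 : ℕ) : ZMod l) = 0 := (ZMod.natCast_eq_zero_iff _ _).2 hld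
    rw [Nat.cast_sub (by omega), Nat.cast_one, sub_eq_zero] at h1
    exact h1
  let M : Matrix I I (ZMod l) := Matrix.of fun a b => if r a b then 1 else 0
  let J : Matrix I I (ZMod l) := Matrix.of fun _ _ => 1
  have hcard : ∀ (s : I → Prop) [DecidablePred s],
      (∑ c, if s c then (1 : ZMod l) else 0) = ({c | s c}.ncard : ℕ) := by
    intro s _
    rw [Finset.sum_boole, Set.ncard_eq_toFinset_card']
    simp
  have h1 : M * M = J := by
    ext a b
    have : ∀ c, M a c * M c b = if r c a ∧ r c b then 1 else 0 := by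
      intro c
      by_cases h1 : r c a
      · by_cases h2 : r c b <;> simp [M, h1, h2, hs _ _ h1]
      · have : ¬ r a c := fun e => h1 (hs _ _ e)
        simp [M, h1, this]
    rw [Matrix.mul_apply, Finset.sum_congr rfl fun c _ => this c, hcard]
    by_cases hab : a = b
    · subst hab
      simp only [and_self, hd, hd1, J, Matrix.of_apply]
    · obtain ⟨c, hc, hc'⟩ := hu a b hab
      have : {c | r c a ∧ r c b} = {c} := by
        ext x; exact ⟨fun h => hc' x h, fun h => h ▸ hc⟩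
      rw [this]; simp [J]
  have h2 : M * J = J := by
    ext a b
    have : ∀ c, M a c * J c b = if r c a then 1 else 0 := by
      intro c
      by_cases h1 : r c a
      · simp [M, J, h1, hs _ _ h1]
      · have : ¬ r a c := fun e => h1 (hs _ _ e)
        simp [M, J, h1, this]
    rw [Matrix.mul_apply, Finset.sum_congr rfl fun c _ => this c, hcard, hd, hd1]
    rfl
  have h4 : ∀ k, M ^ (k + 2) = J := by
    intro k
    induction k with
    | zero => rw [zero_add, sq, h1]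
    | succ k ih => rw [show k + 1 + 2 = (k + 2) + 1 by ring, pow_succ', ih, h2]
  have h5 : (Fintype.card I : ZMod l) = 1 := by
    have h5 : J * J = J := by
      conv_lhs => enter [1]; rw [← h1]
      rw [mul_assoc, h2, h2]
    obtain ⟨a⟩ := ‹Nonempty I›
    have := congrFun (congrFun h5 a) a
    simpa [Matrix.mul_apply, J] using this
  have h6 := ZMod.trace_pow_card M
  obtain ⟨k, hk⟩ : ∃ k, l = k + 2 := ⟨l - 2, by have := hl.two_le; omega⟩
  have h7 : M.trace = 0 := by simp [Matrix.trace, M, hi]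
  have h8 : M ^ l = J := (congrArg (M ^ ·) hk).trans (h4 k)
  rw [h8, h7, zero_pow hl.ne_zero] at h6
  simp [Matrix.trace, J, h5] at h6

variable {G : Type u} [Group G] [Finite G]

variable {p q : ℕ} {H K P Q W Y : Subgroup G} {s t u v w x y g : G}

/-- `Y` permutes the nonidentity elements of `Q` transitively. -/
def Trans (Y Q : Subgroup G) : Prop :=
  ∀ u ∈ Q, u ≠ 1 → ∀ v ∈ Q, v ≠ 1 → ∃ z ∈ Y, v = z * u * z⁻¹

theorem trans_of_small [hp : Fact p.Prime] (hY : IsPGroup p Y) (hn : Y ≤ 𝐍(Q)) (hc : ¬ Y ≤ 𝐂(Q))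
    (hQ : ♯Q ≤ p + 1) : ♯Q = p + 1 ∧ Trans Y Q := by
  obtain ⟨u, hu, h1⟩ : ∃ u ∈ Q, ¬ Y ≤ 𝐂[u] := by
    by_contra h
    push Not at h
    exact hc (le_cent_symm fun u hu => le_cent1_iff.1 (h u hu))
  have hu1 : u ≠ 1 := by
    rintro rfl
    exact h1 fun y _ => mem_cent1.2 (by simp)
  have h2 : p ≤ (Cls.conjOrbit Y u).ncard := by
    rw [Cls.ncard_conjOrbit]
    obtain ⟨k, hk⟩ := IsPGroup.iff_card.1 hY
    obtain ⟨j, -, hj⟩ := (Nat.dvd_prime_pow hp.out).1 (hk ▸ relIndex_dvd_card 𝐂[u] Y)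
    rw [hj]
    refine Nat.le_self_pow (fun e => h1 ?_) p
    rw [e, pow_zero] at hj
    exact relIndex_eq_one.1 hj
  have h3 : Cls.conjOrbit Y u ⊆ sharp Q := by
    rintro _ ⟨z, hz, rfl⟩
    exact conj_mem_sharp (hn hz) (mem_sharp_iff.2 ⟨hu, hu1⟩)
  have h4 := Set.ncard_le_ncard h3
  have h5 := ncard_sharp Q
  have h6 : Cls.conjOrbit Y u = sharp Q := Set.eq_of_subset_of_ncard_le h3 (by omega)
  refine ⟨by have := card_pos' Q; omega, fun a ha ha1 b hb hb1 => ?_⟩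
  obtain ⟨z, hz, rfl⟩ := h6.ge (mem_sharp_iff.2 ⟨ha, ha1⟩)
  obtain ⟨z', hz', rfl⟩ := h6.ge (mem_sharp_iff.2 ⟨hb, hb1⟩)
  exact ⟨z' * z⁻¹, mul_mem hz' (inv_mem hz), by group⟩

theorem exists_of_not_pnil [Fact q.Prime] (h : ¬ PNil q H) :
    ∃ Q ≤ H, IsPGroup q Q ∧ ∃ r : ℕ, r.Prime ∧ r ≠ q ∧ ∃ Y ≤ H, IsPGroup r Y ∧ Y ≤ 𝐍(Q) ∧
      ¬ Y ≤ 𝐂(Q) := by
  rw [pnil_iff_hasNormalPComplement] at h
  obtain ⟨P⟩ : Nonempty (Sylow q H) := inferInstance
  obtain ⟨X, h1, -, r, hr, hrq, g, hg, ⟨k, hk⟩, h2⟩ := Transfer.exists_prime_pow_not_centralizes h P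
  refine ⟨X.map H.subtype, map_subtype_le _, (P.isPGroup'.to_le h1).map _, r, hr, hrq,
    (zpowers g).map H.subtype, map_subtype_le _, ?_, map_le_norm _ (zpowers_le.2 hg), fun e => h2 ?_⟩
  · exact (isPGroup_of_card_prime_pow (by rw [Nat.card_zpowers, hk])).map _
  · refine mem_cent_iff.2 fun x hx => Subtype.ext ?_
    exact mem_cent_iff.1 (e (mem_map_of_mem _ (mem_zpowers g))) x (mem_map_of_mem _ hx)

/-- The hypothesis. -/
structure Hyp (p q : ℕ) (G : Type u) [Group G] : Prop where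
  mix : ∀ H : Subgroup G, ¬ p ∣ ♯H → q ∣ ♯H → IsPGroup q H
  small : ∀ Q : Subgroup G, IsPGroup q Q → ♯Q ≤ p + 1
  ab : (∀ Q : Subgroup G, IsPGroup q Q → ♯Q ≤ p) ∨ ∀ P : Subgroup G, IsPGroup p P → Ab P

theorem Hyp.subgroup (h : Hyp p q G) (H : Subgroup G) : Hyp p q H := by
  have e : ∀ K : Subgroup H, ♯(K.map H.subtype) = ♯K := fun K =>
    card_map_of_injective H.subtype_injective
  refine ⟨fun K h1 h2 => ?_, fun K h1 => e K ▸ h.small _ (h1.map _), h.ab.imp
    (fun h2 K h1 => e K ▸ h2 _ (h1.map _)) fun h2 K h1 => ?_⟩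
  · exact (h.mix (K.map H.subtype) (by rwa [e]) (by rwa [e])).of_equiv
      (K.equivMapOfInjective _ H.subtype_injective).symm
  · refine ab_iff.2 fun a ha b hb => Subtype.ext ?_
    exact ab_iff.1 (h2 _ (h1.map H.subtype)) a (mem_map_of_mem _ ha) b (mem_map_of_mem _ hb)

theorem exists_isPGroup_map_eq {G' : Type*} [Group G'] [Finite G'] [Fact q.Prime] {f : G →* G'}
    (hf : Function.Surjective f) {X : Subgroup G'} (hX : IsPGroup q X) :
    ∃ Q : Subgroup G, IsPGroup q Q ∧ Q.map f = X := by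
  obtain ⟨Q, hQ⟩ := exists_syl q (X.comap f)
  have h1 := hQ.map f
  rw [map_comap_eq_self_of_surjective hf] at h1
  exact ⟨Q, hQ.isPGroup, h1.eq_self hX⟩

theorem Hyp.quotient [Fact p.Prime] [Fact q.Prime] (h : Hyp p q G) (N : Subgroup G) [N.Normal]
    (hN : IsPGroup p N) : Hyp p q (G ⧸ N) := by
  have hf := QuotientGroup.mk'_surjective N
  have e : ∀ Q : Subgroup G, ♯(Q.map (QuotientGroup.mk' N)) ≤ ♯Q := fun Q =>
    Nat.le_of_dvd (card_pos' Q) (card_map_dvd _ _)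
  refine ⟨fun K h1 h2 => ?_, fun K h1 => ?_, h.ab.imp (fun h2 K h1 => ?_) fun h2 K h1 => ?_⟩
  · have h3 : N ≤ K.comap (QuotientGroup.mk' N) := fun x hx => by
      rw [mem_comap, QuotientGroup.mk'_apply, (QuotientGroup.eq_one_iff x).2 hx]; exact one_mem _
    have h4 : N.relIndex (K.comap (QuotientGroup.mk' N)) = ♯K := by
      have := relIndex_ker (K.comap (QuotientGroup.mk' N)) (QuotientGroup.mk' N)
      rwa [map_comap_eq_self_of_surjective hf, QuotientGroup.ker_mk'] at this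
    have h5 : Hall {p} N (K.comap (QuotientGroup.mk' N)) :=
      IsPiHallOf.of_pi h3 (piGrp_singleton hN) (by
        rw [h4]; exact (isPiNum_compl_singleton Fact.out).2 h1)
    obtain ⟨L, hL, -⟩ := h5.exists_sdprod le_normalizer_of_normal
    have h6 : ♯L = ♯K := by rw [← hL.relIndex_left, h4]
    have h7 := (h.mix L (by rwa [h6]) (by rwa [h6])).map (QuotientGroup.mk' N)
    have h8 : L.map (QuotientGroup.mk' N) = K := by
      rw [← map_comap_eq_self_of_surjective hf K, ← hL.sup_eq, Subgroup.map_sup,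
        (map_eq_bot_iff N).2 (by rw [QuotientGroup.ker_mk']), bot_sup_eq]
    rwa [h8] at h7
  · obtain ⟨Q, h2, rfl⟩ := exists_isPGroup_map_eq hf h1
    exact (e Q).trans (h.small Q h2)
  · obtain ⟨Q, h3, rfl⟩ := exists_isPGroup_map_eq hf h1
    exact (e Q).trans (h2 Q h3)
  · obtain ⟨Q, h3, rfl⟩ := exists_isPGroup_map_eq hf h1
    exact ab_map (h2 Q h3) _

theorem Hyp.eq_of_norm [hp : Fact p.Prime] [Fact q.Prime] (h : Hyp p q G) (hpq : p ≠ q) {r : ℕ}
    (hr : r.Prime) (hrq : r ≠ q) (hQ : IsPGroup q Q) (hY : IsPGroup r Y) (hQ1 : Q ≠ ⊥)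
    (hY1 : Y ≠ ⊥) (hn : Y ≤ 𝐍(Q) ∨ Q ≤ 𝐍(Y)) : r = p := by
  have := Fact.mk hr
  by_contra hrp
  have h1 : PiGrp ({p} : Set ℕ)ᶜ (Y ⊔ Q) :=
    (piGrp_compl_of_isPGroup hY hrp).sup (piGrp_compl_of_isPGroup hQ hpq.symm) hn
  have h2 := h.mix _ ((piGrp_compl_singleton hp.out).1 h1)
    ((dvd_card_of_isPGroup hQ hQ1).trans (card_dvd le_sup_right))
  exact hY1 (PiGrp.eq_bot (piGrp_singleton (h2.to_le le_sup_left))
    (piGrp_compl_of_isPGroup hY hrq))

theorem sol_of_pi [hp : Fact p.Prime] [hq : Fact q.Prime] (h : PiGrp {p, q} K) : Sol K :=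
  Char.solvable_of_two_primes hp.out hq.out fun r hr hd => by simpa using h r hr hd

theorem inv_of_mem_zpowers (h : t * g * t⁻¹ = g⁻¹) (hw : w ∈ zpowers g) : t * w * t⁻¹ = w⁻¹ := by
  obtain ⟨k, rfl⟩ := mem_zpowers_iff.1 hw
  rw [← conj_zpow, h, inv_zpow]

theorem mem_norm_of_inv (h : t * g * t⁻¹ = g⁻¹) : t ∈ 𝐍(zpowers g) :=
  mem_norm_of_conj_mem fun _ hw => by rw [inv_of_mem_zpowers h hw]; exact inv_mem hw

theorem inv_left (ht : t * t = 1) (hu : u * u = 1) : t * (t * u) * t⁻¹ = (t * u)⁻¹ := by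
  rw [mul_inv_rev, inv_eq_of_mul_eq_one_right hu, ← mul_assoc, ht, one_mul]

theorem inv_right (ht : t * t = 1) (hu : u * u = 1) : u * (t * u) * u⁻¹ = (t * u)⁻¹ := by
  rw [mul_inv_rev, inv_eq_of_mul_eq_one_right hu, inv_eq_of_mul_eq_one_right ht, mul_assoc,
    mul_assoc, hu, mul_one]

theorem orderOf_inv2 (ht : t * t = 1) (h1 : t ≠ 1) : orderOf t = 2 :=
  orderOf_eq_prime (by rw [sq, ht]) h1

theorem isPGroup_inv2 (ht : t * t = 1) : IsPGroup 2 (zpowers t) := by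
  by_cases h1 : t = 1
  · rw [h1, zpowers_one_eq_bot]; exact IsPGroup.of_bot
  · exact isPGroup_of_card_prime_pow (n := 1) (by rw [Nat.card_zpowers, orderOf_inv2 ht h1, pow_one])

theorem two_dvd_of_mem (ht : t * t = 1) (h1 : t ≠ 1) (h : t ∈ H) : 2 ∣ ♯H :=
  orderOf_inv2 ht h1 ▸ orderOf_dvd_card h

theorem inverts_of_fpf (hP : Ab P) (ht : t * t = 1) (hn : t ∈ 𝐍(P)) (h : P ⊓ 𝐂[t] = ⊥)
    (hw : w ∈ P) : t * w * t⁻¹ = w⁻¹ := by
  have h1 : t * w * t⁻¹ ∈ P := conj_mem_of_norm hn hw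
  have h2 : w * (t * w * t⁻¹) ∈ P ⊓ 𝐂[t] := by
    refine ⟨mul_mem hw h1, mem_cent1.2 ?_⟩
    have h3 := ab_iff.1 hP w hw _ h1
    have h4 : t⁻¹ = t := inv_eq_of_mul_eq_one_right ht
    conv_rhs => rw [h3]
    rw [h4]
    calc w * (t * w * t) * t = w * t * w * (t * t) := by group
      _ = (t * t) * w * t * w := by rw [ht]; group
      _ = t * (t * w * t * w) := by group
  rw [h, mem_bot] at h2
  exact eq_inv_of_mul_eq_one_right h2

end Cfsg.Agent.Mix
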