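import Mathlib
import Cfsg.Agent.Lib.Core.Zipper

/-!
# Flavell's extension of the zipper lemma

A subgroup with full normal closure which is subnormal in all but at most one of its maximal
overgroups lies in a unique maximal subgroup.
-/

set_option autoImplicit false
set_option linter.unusedSectionVars false

namespace Cfsg.Agent.Core.Flav

open Subgroup

universe u

variable {G : Type*} [Group G]

/-- conjugate subgroup -/
abbrev cj (g : G) (H : Subgroup G) : Subgroup G := H.map (MulAut.conj g).toMonoidHom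

theorem cj_cj (g h : G) (H : Subgroup G) : cj g (cj h H) = cj (g * h) H := map_conj_map_conj g h H

theorem cj_inv_cj (g : G) (H : Subgroup G) : cj g⁻¹ (cj g H) = H := map_conj_inv_map_conj g H

theorem cj_cj_inv (g : G) (H : Subgroup G) : cj g (cj g⁻¹ H) = H := map_conj_map_conj_inv g H

theorem cj_mono (g : G) {H K : Subgroup G} (h : H ≤ K) : cj g H ≤ cj g K := Subgroup.map_mono h

theorem cj_eq {g : G} {H : Subgroup G} (h : g ∈ normalizer (H : Set G)) : cj g H = H :=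
  map_conj_eq_iff.2 h

theorem cj_inj {g : G} {H K : Subgroup G} (h : cj g H = cj g K) : H = K := by
  rw [← map_conj_inv_map_conj g H, ← map_conj_inv_map_conj g K]
  exact congrArg (cj g⁻¹) h

theorem cj_le_cj {g : G} {H K : Subgroup G} (h : cj g H ≤ cj g K) : H ≤ K := by
  rw [← map_conj_inv_map_conj g H, ← map_conj_inv_map_conj g K]
  exact cj_mono g⁻¹ h

theorem cj_norm (g : G) (H : Subgroup G) :
    normalizer ((cj g H : Subgroup G) : Set G) = cj g (normalizer (H : Set G)) :=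
  normalizer_map_conj g H

theorem sub_cj {H K : Subgroup G} (g : G) (h : SubnormalIn H K) : SubnormalIn (cj g H) (cj g K) :=
  h.map _

theorem sub_of_cj {H K : Subgroup G} {g : G} (h : SubnormalIn (cj g H) (cj g K)) :
    SubnormalIn H K := by
  have := sub_cj g⁻¹ h
  rwa [cj_inv_cj, cj_inv_cj] at this

theorem mem_norm_of_le [Finite G] {g : G} {H : Subgroup G} (h : cj g H ≤ H) :
    g ∈ normalizer (H : Set G) :=
  map_conj_eq_iff.1 (eq_of_le_of_card_eq h (card_map_conj g H))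

theorem mem_norm_sSup [Finite G] {𝔉 : Set (Subgroup G)} {g : G}
    (h : ∀ B ∈ 𝔉, cj g B ≤ sSup 𝔉) : g ∈ normalizer ((sSup 𝔉 : Subgroup G) : Set G) :=
  mem_norm_of_le (map_conj_le_iff.2 (sSup_le fun B hB => map_conj_le_iff.1 (h B hB)))

theorem mem_norm_sup [Finite G] {g : G} {H K : Subgroup G} (h1 : g ∈ normalizer (H : Set G))
    (h2 : g ∈ normalizer (K : Set G)) : g ∈ normalizer ((H ⊔ K : Subgroup G) : Set G) :=
  mem_norm_of_le (map_conj_le_iff.2 (sup_le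
    (map_conj_le_iff.1 ((cj_eq h1).le.trans le_sup_left))
    (map_conj_le_iff.1 ((cj_eq h2).le.trans le_sup_right))))

theorem sub_sSup [Finite G] {K : Subgroup G} {𝔖 : Set (Subgroup G)}
    (h : ∀ B ∈ 𝔖, SubnormalIn B K) : SubnormalIn (sSup 𝔖) K := by
  induction 𝔖, Set.toFinite 𝔖 using Set.Finite.induction_on with
  | empty =>
    rw [sSup_empty]
    exact subnormalIn_of_le_normalizer bot_le fun g _ => mem_norm_of_le (by simp [cj])
  | insert _ _ ih =>
    rw [sSup_insert]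
    exact (h _ (Set.mem_insert _ _)).sup (ih fun B hB => h B (Set.mem_insert_of_mem _ hB))

/-- Wielandt's lemma on invariant families of subnormal subgroups -/
theorem exists_norm [Finite G] {K : Subgroup G} {𝔉 𝔖 : Set (Subgroup G)}
    (hsub : ∀ B ∈ 𝔉, SubnormalIn B K) (hinv : ∀ g ∈ K, ∀ B ∈ 𝔉, cj g B ∈ 𝔉) (h𝔖 : 𝔖 ⊆ 𝔉)
    (hne : ∃ B ∈ 𝔉, ¬ B ≤ sSup 𝔖) :
    ∃ B ∈ 𝔉, ¬ B ≤ sSup 𝔖 ∧ B ≤ normalizer ((sSup 𝔖 : Subgroup G) : Set G) := by
  by_contra hcon
  have key : sSup 𝔖 ≤ sSup 𝔖 → ∃ B ∈ 𝔉, B ≤ sSup 𝔖 ∧ ¬ B ≤ sSup 𝔖 := by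
    refine SubnormalIn.induction (K := K)
      (P := fun X => sSup 𝔖 ≤ X → ∃ B ∈ 𝔉, B ≤ X ∧ ¬ B ≤ sSup 𝔖) ?_ ?_
      (sub_sSup fun B hB => hsub B (h𝔖 hB))
    · intro _
      obtain ⟨B, hB, h⟩ := hne
      exact ⟨B, hB, (hsub B hB).le, h⟩
    · intro X Y hXY hYX hY ih hX
      obtain ⟨B, hB, h1, h2⟩ := ih (hX.trans hXY)
      by_contra h3
      push Not at h3
      refine hcon ⟨B, hB, h2, fun g hg => mem_norm_sSup fun C hC => h3 _
        (hinv g (hY.le (h1 hg)) C (h𝔖 hC)) ?_⟩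
      rw [← cj_eq (hYX (h1 hg))]
      exact cj_mono g ((le_sSup hC).trans hX)
  obtain ⟨B, -, h1, h2⟩ := key le_rfl
  exact h2 h1

/-- the descent lemma -/
theorem descent [Finite G] {A : Subgroup G} {S : Set G} {g₀ x : G}
    (h1 : ∀ y ∈ normalizer (A : Set G), ∀ g ∈ S, y * g ∈ S) (h2 : g₀ ∈ S)
    (h3 : ∀ g ∈ S, g₀⁻¹ * g ∈ normalizer (A : Set G) ∨ g₀⁻¹ * g ∈ S) (hx : x ∈ A)
    (h4 : g₀⁻¹ * (x * g₀) ∉ normalizer (A : Set G)) (h5 : cj g₀ A ≤ normalizer (A : Set G))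
    (D : Subgroup G) (hD : D ≤ A) (hle : A ⊓ (⨆ g ∈ S, cj g D) ≤ D) : D ≤ ⨆ g ∈ S, cj g D := by
  induction D using subgroup_induction_lt with
  | h D ih =>
    set W := ⨆ g ∈ S, cj g D with hW
    have hWg : ∀ g ∈ S, cj g D ≤ W := fun g hg => le_iSup₂_of_le g hg le_rfl
    by_cases he : A ⊓ W = D
    · rw [← he]; exact inf_le_right
    have hmono : (⨆ g ∈ S, cj g (A ⊓ W)) ≤ W :=
      iSup₂_le fun g hg => (cj_mono g hle).trans (hWg g hg)
    have hWn : normalizer (A : Set G) ≤ normalizer (W : Set G) := fun y hy =>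
      mem_norm_of_le (map_conj_le_iff.2 (iSup₂_le fun g hg => map_conj_le_iff.1 (by
        rw [map_conj_map_conj]; exact hWg _ (h1 y hy g hg))))
    have ih' := ih (A ⊓ W) (lt_of_le_of_ne hle he) inf_le_left (inf_le_inf_left _ hmono)
    have hS : ∀ g, g₀⁻¹ * g ∈ S → cj g D ≤ cj g₀ W := fun g hg => by
      have := cj_mono g₀ (hWg _ hg)
      rwa [cj_cj, mul_inv_cancel_left] at this
    have hW' : (⨆ g ∈ S, cj g (A ⊓ W)) ≤ cj g₀ W := iSup₂_le fun g hg => by
      rcases h3 g hg with h | h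
      · have e : cj g (A ⊓ W) = cj g₀ (cj (g₀⁻¹ * g) (A ⊓ W)) := by rw [cj_cj, mul_inv_cancel_left]
        rw [e]
        exact cj_mono g₀ ((cj_mono _ inf_le_right).trans (cj_eq (hWn h)).le)
      · exact (cj_mono g hle).trans (hS g h)
    have hxS : x * g₀ ∈ S := h1 x (le_normalizer hx) g₀ h2
    intro d hd
    have e1 : g₀ * d * g₀⁻¹ ∈ cj g₀ D := conj_mem_map_conj hd
    have e2 : x * (g₀ * d * g₀⁻¹) * x⁻¹ ∈ cj (x * g₀) D := by
      have := conj_mem_map_conj (g := x * g₀) hd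
      convert this using 1; group
    have e3 : g₀ * d * g₀⁻¹ * (x * (g₀ * d * g₀⁻¹) * x⁻¹)⁻¹ ∈ A ⊓ W := by
      refine ⟨?_, W.mul_mem (hWg _ h2 e1) (W.inv_mem (hWg _ hxS e2))⟩
      have h6 := (mem_normalizer_iff.1 (h5 (cj_mono g₀ hD e1)) x).1 hx
      have := A.mul_mem h6 (A.inv_mem hx)
      rwa [show g₀ * d * g₀⁻¹ * x * (g₀ * d * g₀⁻¹)⁻¹ * x⁻¹ =
        g₀ * d * g₀⁻¹ * (x * (g₀ * d * g₀⁻¹) * x⁻¹)⁻¹ by group] at this
    have e4 := (cj g₀ W).mul_mem (hW' (ih' e3)) (hS _ ((h3 _ hxS).resolve_left h4) e2)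
    rw [inv_mul_cancel_right, mem_map_conj] at e4
    convert e4 using 1; group

/-- `B` lies in the maximal subgroup `L` and is not subnormal there -/
def T (B L : Subgroup G) : Prop := IsCoatom L ∧ B ≤ L ∧ ¬ SubnormalIn B L

theorem T.cj {B L : Subgroup G} (h : T B L) (g : G) : T (cj g B) (cj g L) :=
  ⟨isCoatom_map_conj h.1 g, cj_mono g h.2.1, fun h' => h.2.2 (sub_of_cj h')⟩

/-- the conjugacy class of `A` -/
def cl (A : Subgroup G) : Set (Subgroup G) := {B | ∃ g, B = cj g A}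

theorem cj_mem_cl {A B : Subgroup G} (h : B ∈ cl A) (g : G) : cj g B ∈ cl A := by
  obtain ⟨x, rfl⟩ := h
  exact ⟨g * x, cj_cj _ _ _⟩

theorem self_mem_cl (A : Subgroup G) : A ∈ cl A := ⟨1, (map_conj_one A).symm⟩

theorem cl_eq {A B : Subgroup G} (h : B ∈ cl A) : cl B = cl A := by
  obtain ⟨x, rfl⟩ := h
  ext C
  refine ⟨fun ⟨g, hg⟩ => hg ▸ cj_mem_cl ⟨x, rfl⟩ g, fun ⟨g, hg⟩ => ⟨g * x⁻¹, ?_⟩⟩
  rw [hg, cj_cj, inv_mul_cancel_right]

/-- the configuration of a maximal counterexample -/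
structure Cfg (𝒞 : Set (Subgroup G)) : Prop where
  inv : ∀ B ∈ 𝒞, ∀ g, cj g B ∈ 𝒞
  tr : ∀ B ∈ 𝒞, ∀ C ∈ 𝒞, ∃ g, C = cj g B
  b : ∀ B ∈ 𝒞, ∀ L L', T B L → T B L' → L = L'
  d : ∀ B ∈ 𝒞, ∀ B' ∈ 𝒞, ∀ L L', T B L → T B' L → IsCoatom L' → B ≤ L' → B' ≤ L' → L' ≠ L → B = B'
  gen : ∀ B ∈ 𝒞, ∀ N : Subgroup G, B ≤ N → normalizer (N : Set G) = ⊤ → N = ⊤

namespace Cfg

variable [Finite G] {𝒞 : Set (Subgroup G)} (h : Cfg 𝒞)
include h

theorem norm_coatom {B L : Subgroup G} (hB : B ∈ 𝒞) (hL : IsCoatom L) (hBL : B ≤ L) :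
    normalizer (L : Set G) = L := by
  by_contra hne
  exact hL.1 (h.gen B hB L hBL (hL.2 _ (lt_of_le_of_ne le_normalizer (Ne.symm hne))))

theorem norm_le {B L : Subgroup G} (hB : B ∈ 𝒞) (hT : T B L) : normalizer (B : Set G) ≤ L :=
  fun g hg => by
    have h1 := hT.cj g
    rw [cj_eq hg] at h1
    rw [← h.norm_coatom hB hT.1 hT.2.1]
    exact map_conj_eq_iff.1 (h.b B hB _ _ h1 hT)

theorem inf_le_norm {B L L' : Subgroup G} (hB : B ∈ 𝒞) (hT : T B L) (hL' : IsCoatom L')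
    (hBL : B ≤ L') (hne : L' ≠ L) {g : G} (hg : g ∈ L) (hg' : g ∈ L') :
    g ∈ normalizer (B : Set G) := by
  have h1 := hT.cj g
  rw [cj_eq (le_normalizer hg)] at h1
  exact map_conj_eq_iff.1
    (h.d _ (h.inv B hB g) B hB L L' h1 hT hL' (map_conj_le_of_mem hBL hg') hBL hne)

/-- the final contradiction -/
theorem final {C E L L' : Subgroup G} (hC : C ∈ 𝒞) (hE : E ∈ 𝒞) (hT : T C L) (hT' : T E L')
    (hne : L ≠ L') (hEC : E ≤ normalizer (C : Set G)) (hEL : SubnormalIn E L)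
    (hΦ : ∀ B ∈ 𝒞, B ≤ normalizer (C : Set G) → SubnormalIn B L → B ≤ normalizer (E : Set G))
    (hCE : ¬ C ≤ normalizer (E : Set G)) : False := by
  obtain ⟨g₀, rfl⟩ := h.tr C hC E hE
  obtain ⟨x, hx, hx'⟩ := SetLike.not_le_iff_exists.1 hCE
  have hL' : L' = cj g₀ L := h.b _ hE _ _ hT' (hT.cj g₀)
  have hNL := h.norm_le hC hT
  set S : Set G := {g | cj g C ≤ normalizer (C : Set G) ∧ SubnormalIn (cj g C) L} with hS
  have key : C ≤ ⨆ g ∈ S, cj g C := by
    refine descent (S := S) (g₀ := g₀) (x := x) ?_ ⟨hEC, hEL⟩ ?_ hx ?_ hEC C le_rfl inf_le_left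
    · rintro y hy g ⟨h1, h2⟩
      rw [hS, Set.mem_ofPred_eq, ← cj_cj]
      refine ⟨map_conj_le_of_mem h1 hy, ?_⟩
      have := sub_cj y h2
      rwa [cj_eq (le_normalizer (hNL hy))] at this
    · rintro g ⟨h1, h2⟩
      have h3 := hΦ _ (h.inv C hC g) h1 h2
      by_cases h4 : SubnormalIn (cj g C) L'
      · right
        rw [hS, Set.mem_ofPred_eq, ← cj_cj]
        rw [cj_norm] at h3
        refine ⟨?_, ?_⟩
        · have := cj_mono g₀⁻¹ h3
          rwa [cj_inv_cj] at this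
        · have := sub_cj g₀⁻¹ h4
          rwa [hL', cj_inv_cj] at this
      · left
        have h5 := h.d _ (h.inv C hC g) _ hE L' L ⟨hT'.1, h3.trans (h.norm_le hE hT'), h4⟩ hT' hT.1
          h2.le hEL.le hne
        refine map_conj_eq_iff.1 ?_
        change cj (g₀⁻¹ * g) C = C
        rw [← cj_cj, h5, cj_inv_cj]
    · intro h1
      refine hx' ?_
      rw [cj_norm, mem_map_conj]
      rwa [mul_assoc]
  have h1 : SubnormalIn (⨆ g ∈ S, cj g C) L := by
    rw [← sSup_image]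
    exact sub_sSup fun B ⟨g, hg, e⟩ => e ▸ hg.2
  exact hT.2.2 ((subnormalIn_of_le_normalizer key (iSup₂_le fun g hg => hg.1)).trans h1)

theorem false_of_two {A L₀ L₀' : Subgroup G} (hA : A ∈ 𝒞) (h0 : IsCoatom L₀) (h0' : IsCoatom L₀')
    (hne0 : L₀ ≠ L₀') (hA0 : A ≤ L₀) (hA0' : A ≤ L₀') : False := by
  obtain ⟨U, hAU, ⟨hU1, L, L', hL, hL', hLL, hUL, hUL'⟩, hmax⟩ := exists_maximal_ge
    (P := fun X => X ≤ sSup {B | B ∈ 𝒞 ∧ B ≤ X} ∧
      ∃ L L', IsCoatom L ∧ IsCoatom L' ∧ L ≠ L' ∧ X ≤ L ∧ X ≤ L')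
    ⟨le_sSup ⟨hA, le_rfl⟩, L₀, L₀', h0, h0', hne0, hA0, hA0'⟩
  have hU : sSup {B | B ∈ 𝒞 ∧ B ≤ U} = U := le_antisymm (sSup_le fun B hB => hB.2) hU1
  have K : ∀ {M M' B}, IsCoatom M → IsCoatom M' → U ≤ M → U ≤ M' → B ∈ 𝒞 → B ≤ M → B ≤ M' →
      ¬ B ≤ U → M' = M := fun {M M' B} hM hM' h1 h2 hB h3 h4 h5 => by
    by_contra hne
    refine h5 (le_sup_right.trans (hmax (U ⊔ B) ⟨sup_le (hU1.trans (sSup_le_sSup
      fun C hC => ⟨hC.1, hC.2.trans le_sup_left⟩)) (le_sSup ⟨hB, le_sup_right⟩), M', M, hM', hM, hne,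
      sup_le h2 h4, sup_le h1 h3⟩ le_sup_left).le)
  have other : ∀ M : Subgroup G, ∃ M', IsCoatom M' ∧ U ≤ M' ∧ M' ≠ M := fun M => by
    by_cases e : L = M
    · exact ⟨L', hL', hUL', fun e' => hLL (e.trans e'.symm)⟩
    · exact ⟨L, hL, hUL, e⟩
  -- claim A
  have hA' : ∀ M, IsCoatom M → U ≤ M → (∀ B ∈ 𝒞, B ≤ U → SubnormalIn B M) →
      ∀ M', IsCoatom M' → normalizer (U : Set G) ≤ M' → M' = M := fun M hM hUM hs M' hM' hN => by
    by_cases hall : ∃ B ∈ {B | B ∈ 𝒞 ∧ SubnormalIn B M}, ¬ B ≤ sSup {B | B ∈ 𝒞 ∧ B ≤ U}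
    · obtain ⟨B, hB, h1, h2⟩ := exists_norm (K := M) (𝔉 := {B | B ∈ 𝒞 ∧ SubnormalIn B M})
        (𝔖 := {B | B ∈ 𝒞 ∧ B ≤ U}) (fun B hB => hB.2)
        (fun g hg B hB => ⟨h.inv B hB.1 g, hB.2.map_conj_of_mem (le_normalizer hg)⟩)
        (fun B hB => ⟨hB.1, hs B hB.1 hB.2⟩) hall
      rw [hU] at h1 h2
      exact K hM hM' hUM (le_normalizer.trans hN) hB.1 hB.2.le (h2.trans hN) h1
    · push Not at hall
      refine ((hM.le_iff_eq hM'.1).1 (le_trans (fun g hg => ?_) hN))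
      rw [← hU]
      exact mem_norm_sSup fun B hB => hall _
        ⟨h.inv B hB.1 g, (hs B hB.1 hB.2).map_conj_of_mem (le_normalizer hg)⟩
  obtain ⟨Ls, hLs, hNs⟩ := exists_coatom_ge (H := normalizer (U : Set G))
    fun e => hL.1 (top_le_iff.1 ((h.gen A hA U hAU e).ge.trans hUL))
  obtain ⟨L₁, hL₁, hU₁, hne₁⟩ := other Ls
  obtain ⟨C, hC, hCU, hCs⟩ : ∃ C ∈ 𝒞, C ≤ U ∧ ¬ SubnormalIn C L₁ := by
    by_contra hc
    push Not at hc
    exact hne₁ (hA' L₁ hL₁ hU₁ hc Ls hLs hNs).symm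
  have hT : T C L₁ := ⟨hL₁, hCU.trans hU₁, hCs⟩
  have hUs : U ≤ Ls := le_normalizer.trans hNs
  have hUC : U ≤ normalizer (C : Set G) := fun g hg =>
    h.inf_le_norm hC hT hLs (hCU.trans hUs) hne₁.symm (hU₁ hg) (hUs hg)
  have hsub : ∀ B ∈ 𝒞, B ≤ U → B ≠ C → SubnormalIn B L₁ := fun B hB hBU hBC => by
    by_contra hc
    exact hBC (h.d B hB C hC L₁ Ls ⟨hL₁, hBU.trans hU₁, hc⟩ hT hLs (hBU.trans hUs) (hCU.trans hUs)
      hne₁.symm)
  set V := sSup {B | B ∈ 𝒞 ∧ B ≤ U ∧ B ≠ C} with hV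
  have hVU : V ≤ U := sSup_le fun B hB => hB.2.1
  have hUV : U = V ⊔ C := le_antisymm (hU1.trans (sSup_le fun B hB => by
    by_cases e : B = C
    · exact e.le.trans le_sup_right
    · exact le_sup_of_le_left (le_sSup ⟨hB.1, hB.2, e⟩))) (sup_le hVU hCU)
  have hNC := h.norm_le hC hT
  have hBV : ∀ B ∈ 𝒞, SubnormalIn B L₁ → B ≤ U → B ≤ V := fun B hB h1 h2 =>
    le_sSup ⟨hB, h2, fun e => hCs (e ▸ h1)⟩
  -- claim B
  have hΦ : ∀ B ∈ 𝒞, B ≤ normalizer (C : Set G) → SubnormalIn B L₁ → B ≤ V := by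
    by_contra hc
    push Not at hc
    obtain ⟨B, hB, h1, h2⟩ := exists_norm (K := normalizer (C : Set G))
      (𝔉 := {B | B ∈ 𝒞 ∧ B ≤ normalizer (C : Set G) ∧ SubnormalIn B L₁})
      (𝔖 := {B | B ∈ 𝒞 ∧ B ≤ U ∧ B ≠ C}) (fun B hB => hB.2.2.of_le hB.2.1 hNC)
      (fun g hg B hB => ⟨h.inv B hB.1 g, map_conj_le_of_mem hB.2.1 hg,
        hB.2.2.map_conj_of_mem (le_normalizer (hNC hg))⟩)
      (fun B hB => ⟨hB.1, hB.2.1.trans hUC, hsub B hB.1 hB.2.1 hB.2.2⟩)
      (by obtain ⟨B, h1, h2, h3, h4⟩ := hc; exact ⟨B, ⟨h1, h2, h3⟩, h4⟩)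
    have h3 : B ≤ normalizer (U : Set G) := fun g hg => by
      rw [hUV]; exact mem_norm_sup (h2 hg) (hB.2.1 hg)
    exact hne₁ (K hL₁ hLs hU₁ hUs hB.1 hB.2.2.le (h3.trans hNs)
      fun e => h1 (hBV B hB.1 hB.2.2 e)).symm
  have hCV : normalizer (C : Set G) ≤ normalizer (V : Set G) := fun g hg =>
    mem_norm_sSup fun B hB => hΦ _ (h.inv B hB.1 g) (map_conj_le_of_mem (hB.2.1.trans hUC) hg)
      ((hsub B hB.1 hB.2.1 hB.2.2).map_conj_of_mem (le_normalizer (hNC hg)))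
  -- claim C
  obtain ⟨C₂, hC₂, L₂, hT₂, hne₂, hC₂U, hU₂⟩ :
      ∃ C₂ ∈ 𝒞, ∃ L₂, T C₂ L₂ ∧ L₂ ≠ L₁ ∧ C₂ ≤ U ∧ U ≤ L₂ := by
    by_cases hc : ∀ B ∈ 𝒞, B ≤ U → SubnormalIn B Ls
    · have h1 : ¬ normalizer (U : Set G) ≤ L₁ := fun e => hne₁ (hA' Ls hLs hUs hc L₁ hL₁ e)
      obtain ⟨g, hg, hg'⟩ := SetLike.not_le_iff_exists.1 h1
      refine ⟨cj g C, h.inv C hC g, cj g L₁, hT.cj g, fun e => hg' ?_, ?_, ?_⟩
      · rw [← h.norm_coatom hC hL₁ hT.2.1]; exact map_conj_eq_iff.1 e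
      · rw [← cj_eq hg]; exact cj_mono g hCU
      · rw [← cj_eq hg]; exact cj_mono g hU₁
    · push Not at hc
      obtain ⟨B, hB, h1, h2⟩ := hc
      exact ⟨B, hB, Ls, ⟨hLs, h1.trans hUs, h2⟩, hne₁.symm, h1, hUs⟩
  have hC₂C : C₂ ≠ C := fun e => hne₂ (h.b C hC _ _ (e ▸ hT₂) hT)
  have hC₂V : C₂ ≤ V := le_sSup ⟨hC₂, hC₂U, hC₂C⟩
  have hUC₂ : U ≤ normalizer (C₂ : Set G) := fun g hg =>
    h.inf_le_norm hC₂ hT₂ hL₁ (hC₂U.trans hU₁) hne₂.symm (hU₂ hg) (hU₁ hg)
  -- claim D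
  have hD : ∀ M', IsCoatom M' → normalizer (V : Set G) ≤ M' → M' = L₁ := fun M' hM' hN => by
    by_cases hall : ∃ B ∈ {B | B ∈ 𝒞 ∧ SubnormalIn B L₁}, ¬ B ≤ V
    · obtain ⟨B, hB, h1, h2⟩ := exists_norm (K := L₁) (𝔉 := {B | B ∈ 𝒞 ∧ SubnormalIn B L₁})
        (𝔖 := {B | B ∈ 𝒞 ∧ B ≤ U ∧ B ≠ C}) (fun B hB => hB.2)
        (fun g hg B hB => ⟨h.inv B hB.1 g, hB.2.map_conj_of_mem (le_normalizer hg)⟩)
        (fun B hB => ⟨hB.1, hsub B hB.1 hB.2.1 hB.2.2⟩) hall
      exact K hL₁ hM' hU₁ (hUC.trans (hCV.trans hN)) hB.1 hB.2.le (h2.trans hN)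
        fun e => h1 (hBV B hB.1 hB.2 e)
    · push Not at hall
      refine ((hL₁.le_iff_eq hM'.1).1 (le_trans (fun g hg => ?_) hN))
      exact mem_norm_sSup fun B hB => hall _
        ⟨h.inv B hB.1 g, (hsub B hB.1 hB.2.1 hB.2.2).map_conj_of_mem (le_normalizer hg)⟩
  have hNV : normalizer (V : Set G) ≤ L₁ := by
    obtain ⟨M, hM, h1⟩ := exists_coatom_ge (H := normalizer (V : Set G))
      fun e => hL.1 (top_le_iff.1 ((h.gen C₂ hC₂ V hC₂V e).ge.trans (hVU.trans hUL)))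
    exact hD M hM h1 ▸ h1
  obtain ⟨n, hn, hn'⟩ : ∃ n ∈ normalizer (V : Set G), n ∉ normalizer (C : Set G) := by
    by_contra hc
    push Not at hc
    refine hne₁ (hD Ls hLs (le_trans (fun g hg => ?_) hNs)).symm
    rw [hUV]; exact mem_norm_sup hg (hc g hg)
  have hnL : cj n L₁ = L₁ := cj_eq (le_normalizer (hNV hn))
  have hEV : cj n C₂ ≤ V := by rw [← cj_eq hn]; exact cj_mono n hC₂V
  have hne₃ : L₁ ≠ cj n L₂ := fun e => hne₂ (cj_inj (e.symm.trans hnL.symm))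
  have hVE : V ≤ normalizer ((cj n C₂ : Subgroup G) : Set G) := by
    rw [cj_norm, ← cj_eq hn]; exact cj_mono n (hVU.trans hUC₂)
  refine h.final hC (h.inv C₂ hC₂ n) hT (hT₂.cj n) hne₃ (hEV.trans (hVU.trans hUC)) ?_
    (fun B hB h1 h2 => (hΦ B hB h1 h2).trans hVE) fun e => hn' ?_
  · have := sub_cj n (hsub C₂ hC₂ hC₂U hC₂C)
    rwa [hnL] at this
  · have h1 := hT.cj n
    rw [hnL] at h1
    exact map_conj_eq_iff.1 (h.d _ (h.inv C hC n) C hC L₁ _ h1 hT (hT₂.cj n).1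
      (cj_mono n (hCU.trans hU₂)) (e.trans (h.norm_le (h.inv C₂ hC₂ n) (hT₂.cj n))) hne₃.symm)

end Cfg

theorem eq_top_of_norm {A N : Subgroup G} (hA : normalClosure (A : Set G) = ⊤) (g : G)
    (hle : cj g A ≤ N) (hN : normalizer (N : Set G) = ⊤) : N = ⊤ := by
  refine top_le_iff.1 (hA.ge.trans (normalClosure_le_iff_forall_map_conj_le.2 fun x => ?_))
  have e : cj x A = cj (x * g⁻¹) (cj g A) := by rw [cj_cj, inv_mul_cancel_right]
  exact e.le.trans ((cj_mono _ hle).trans (cj_eq (hN ▸ mem_top _)).le)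

theorem closure_top_of_le {A B : Subgroup G} (hA : normalClosure (A : Set G) = ⊤) (g : G)
    (hle : cj g A ≤ B) : normalClosure (B : Set G) = ⊤ :=
  eq_top_of_norm hA g (hle.trans le_normalClosure) (normalizer_eq_top_iff.2 inferInstance)

/-- **Flavell's theorem** -/
theorem flavell [Finite G] (A : Subgroup G) (hA : normalClosure (A : Set G) = ⊤)
    (hb : ∀ L L', T A L → T A L' → L = L') {L L' : Subgroup G} (hL : IsCoatom L)
    (hL' : IsCoatom L') (h1 : A ≤ L) (h2 : A ≤ L') : L = L' := by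
  induction hk : A.index using Nat.strong_induction_on generalizing A L L' with
  | _ k ih =>
    by_contra hne
    have hb' : ∀ B ∈ cl A, ∀ L L', T B L → T B L' → L = L' := by
      rintro _ ⟨g, rfl⟩ L L' h1 h2
      have h3 := h1.cj g⁻¹
      have h4 := h2.cj g⁻¹
      rw [cj_inv_cj] at h3 h4
      exact cj_inj (hb _ _ h3 h4)
    refine Cfg.false_of_two (𝒞 := cl A) ⟨fun B hB g => cj_mem_cl hB g,
      fun B hB C hC => (cl_eq hB).ge hC, hb', ?_, ?_⟩ (self_mem_cl A) hL hL' hne h1 h2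
    · intro B hB B' hB' M M' hT hT' hM' h3 h4 hMM
      by_contra hBB
      obtain ⟨g, hg⟩ := hB
      obtain ⟨g', hg'⟩ := hB'
      have hc : Nat.card B' = Nat.card B := by rw [hg, hg', card_map_conj, card_map_conj]
      have hlt : B < B ⊔ B' := left_lt_sup.2 fun e => hBB (eq_of_le_of_card_eq e hc).symm
      have hi : (B ⊔ B').index < k := by
        have e1 := index_mul_card (B ⊔ B')
        have e2 := index_mul_card A
        have e3 : Nat.card B < Nat.card ↥(B ⊔ B') := lt_of_le_of_ne (card_le_of_le hlt.le)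
          fun e => hlt.ne (eq_of_le_of_card_eq hlt.le e)
        rw [hg, card_map_conj, ← hg] at e3
        by_contra hc'
        have h5 : 0 < A.index := Nat.pos_of_ne_zero index_ne_zero_of_finite
        have := Nat.mul_lt_mul_of_le_of_lt (hk.le.trans (not_lt.1 hc')) e3
          (Nat.pos_of_ne_zero index_ne_zero_of_finite)
        omega
      have hs : ∀ N, T (B ⊔ B') N → N = M := fun N hN => by
        by_contra hNM
        refine hN.2.2 (SubnormalIn.sup ?_ ?_)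
        · by_contra h5
          exact hNM (hb' B ⟨g, hg⟩ _ _ ⟨hN.1, le_sup_left.trans hN.2.1, h5⟩ hT)
        · by_contra h5
          exact hNM (hb' B' ⟨g', hg'⟩ _ _ ⟨hN.1, le_sup_right.trans hN.2.1, h5⟩ hT')
      exact hMM (ih _ hi (B ⊔ B') (closure_top_of_le hA g (hg.ge.trans le_sup_left))
        (fun N N' h5 h6 => (hs N h5).trans (hs N' h6).symm) hM' hT.1 (sup_le h3 h4)
        (sup_le hT.2.1 hT'.2.1) rfl)
    · rintro _ ⟨g, rfl⟩ N h3 h4
      exact eq_top_of_norm hA g h3 h4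

/-- `H` is generated by its conjugates of `A` -/
def Full (A H : Subgroup G) : Prop := ∀ N : Subgroup G, A ≤ N → H ≤ normalizer (N : Set G) → H ≤ N

theorem exists_full [Finite G] {A H : Subgroup G} (h : A ≤ H) :
    ∃ X, A ≤ X ∧ SubnormalIn X H ∧ Full A X := by
  obtain ⟨X, -, ⟨h1, h2⟩, hmin⟩ := exists_minimal_le
    (P := fun X => A ≤ X ∧ SubnormalIn X H) ⟨h, SubnormalIn.refl H⟩
  refine ⟨X, h1, h2, fun N hN hX => ?_⟩
  have := hmin (N ⊓ X) ⟨le_inf hN h1, (subnormalIn_of_le_normalizer inf_le_right fun g hg =>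
    mem_norm_of_le (le_inf ((cj_mono g inf_le_left).trans (cj_eq (hX hg)).le)
      (map_conj_le_of_mem inf_le_right hg))).trans h2⟩ inf_le_right
  rw [← this]; exact inf_le_left

/-- the Guralnick-Tracey form -/
theorem unique_coatom [Finite G] (A : Subgroup G) (hA : normalClosure (A : Set G) = ⊤)
    {M : Subgroup G} (hM : IsCoatom M) (hY : ∀ H, A ≤ H → H ≠ ⊤ → Full A H → H ≤ M)
    {L : Subgroup G} (hL : IsCoatom L) (h1 : A ≤ L) : L = M := by
  induction A using subgroup_induction_gt generalizing L with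
  | h A ih =>
    have hAM : A ≤ M := hY A le_rfl (fun e => hL.1 (top_le_iff.1 (e.ge.trans h1)))
      fun N hN _ => hN
    have key : ∀ N, T A N → N = M := fun N hN => by
      obtain ⟨X, h2, h3, h4⟩ := exists_full hN.2.1
      refine ih X (lt_of_le_of_ne h2 fun e => hN.2.2 (e ▸ h3))
        (closure_top_of_le hA 1 ((map_conj_one A).le.trans h2)) (fun H h5 h6 h7 => ?_) hN.1 h3.le
      exact hY H (h2.trans h5) h6 fun K hK hH => h7 K (h4 K hK (h5.trans hH)) hH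
    exact flavell A hA (fun N N' h2 h3 => (key N h2).trans (key N' h3).symm) hL hM h1 hAM

theorem full_iff {A H : Subgroup G} (h : A ≤ H) :
    Full A H ↔ normalClosure ((A.subgroupOf H : Subgroup H) : Set H) = ⊤ := by
  constructor
  · intro hf
    have h1 := hf ((normalClosure ((A.subgroupOf H : Subgroup H) : Set H)).map H.subtype)
      (by
        rw [← map_subgroupOf_eq_of_le h]
        exact Subgroup.map_mono (by rw [map_subgroupOf_eq_of_le h]; exact le_normalClosure))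
      (by
        have := Subgroup.le_normalizer_map
          (H := normalClosure ((A.subgroupOf H : Subgroup H) : Set H)) H.subtype
        rw [normalizer_eq_top_iff.2 inferInstance, ← MonoidHom.range_eq_map, range_subtype] at this
        exact this)
    refine top_le_iff.1 fun x _ => ?_
    obtain ⟨y, hy, e⟩ := h1 x.2
    exact (Subtype.ext e : y = x) ▸ hy
  · intro hf N hN hH x hx
    have : (N.subgroupOf H).Normal := ⟨fun y hy g => (mem_normalizer_iff.1 (hH g.2) y).1 hy⟩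
    have h1 : normalClosure ((A.subgroupOf H : Subgroup H) : Set H) ≤ N.subgroupOf H :=
      normalClosure_le_normal fun y hy => hN hy
    exact h1 (hf.ge (mem_top ⟨x, hx⟩))

/-- iterated commutators with `a` together with `a` generate the normal closure of `a` -/
theorem iter_gen (k : ℕ) (n : ℕ) : ∀ (Γ : Type u) [Group Γ] [Finite Γ] (a : Γ), Nat.card Γ = n →
    normalClosure ((zpowers a : Subgroup Γ) : Set Γ) = ⊤ →
    closure (Set.range (fun c : Γ => c * (a * c * a⁻¹)⁻¹)^[k]) ⊔ zpowers a = ⊤ := by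
  induction n using Nat.strong_induction_on with
  | _ n ih =>
    intro Γ _ _ a hn hA
    by_contra hne
    obtain ⟨M, hM, hXM⟩ := exists_coatom_ge hne
    have hAM : zpowers a ≤ M := le_sup_right.trans hXM
    have key : ∀ L, IsCoatom L → zpowers a ≤ L → L = M := fun L hL h1 => by
      refine unique_coatom _ hA hM (fun H h2 h3 h4 => ?_) hL h1
      have ha : a ∈ H := h2 (mem_zpowers a)
      have e : (zpowers a).subgroupOf H = zpowers (⟨a, ha⟩ : H) := by
        rw [← map_injective H.subtype_injective |>.eq_iff, map_subgroupOf_eq_of_le h2,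
          MonoidHom.map_zpowers]
        rfl
      have h5 := ih _ (hn ▸ card_lt_of_ne_top h3) H ⟨a, ha⟩ rfl (e ▸ (full_iff h2).1 h4)
      have h6 : ∀ j : ℕ, ∀ c : H, (((fun c : H => c * (⟨a, ha⟩ * c * (⟨a, ha⟩ : H)⁻¹)⁻¹)^[j] c : H) : Γ) =
          (fun c : Γ => c * (a * c * a⁻¹)⁻¹)^[j] c := fun j => by
        induction j with
        | zero => exact fun c => rfl
        | succ j ihj => intro c; rw [Function.iterate_succ_apply, Function.iterate_succ_apply, ihj]; rfl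
      have h7 : (⊤ : Subgroup H) ≤ M.subgroupOf H := by
        rw [← h5]
        refine sup_le ((closure_le _).2 ?_) (zpowers_le.2 (hAM (mem_zpowers a)))
        rintro _ ⟨c, rfl⟩
        exact hXM (mem_sup_left (subset_closure ⟨c, (h6 k c).symm⟩))
      exact fun x hx => h7 (mem_top ⟨x, hx⟩)
    have hN : normalizer (M : Set Γ) = M := by
      by_contra hc
      exact hM.1 (eq_top_of_norm hA 1 ((map_conj_one _).le.trans hAM)
        (hM.2 _ (lt_of_le_of_ne le_normalizer (Ne.symm hc))))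
    have step : ∀ c : Γ, c ∉ M → c * (a * c * a⁻¹)⁻¹ ∉ M := fun c hc h => hc (by
      have h1 : c * a * c⁻¹ ∈ M := by
        have := M.mul_mem h (hAM (mem_zpowers a))
        rwa [show c * (a * c * a⁻¹)⁻¹ * a = c * a * c⁻¹ by group] at this
      have h2 := key (cj c⁻¹ M) (isCoatom_map_conj hM _) (zpowers_le.2 (by
        rw [mem_map_conj, inv_inv]; exact h1))
      rw [← hN, ← inv_mem_iff]
      exact map_conj_eq_iff.1 h2)
    obtain ⟨g, hg⟩ : ∃ g, g ∉ M := by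
      by_contra hc
      push Not at hc
      exact hM.1 (top_le_iff.1 fun g _ => hc g)
    have h8 : ∀ j : ℕ, (fun c : Γ => c * (a * c * a⁻¹)⁻¹)^[j] g ∉ M := fun j => by
      induction j with
      | zero => exact hg
      | succ j ihj => rw [Function.iterate_succ_apply']; exact step _ ihj
    exact h8 k (hXM (mem_sup_left (subset_closure ⟨g, rfl⟩)))

theorem iter_gen_aut [Finite G] (α : MulAut G)
    (hG : closure (Set.range (fun c : G => c * (α c)⁻¹)) = ⊤) (k : ℕ) (hk : 1 ≤ k) :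
    closure (Set.range ((fun c : G => c * (α c)⁻¹)^[k])) = ⊤ := by
  let Γ := G ⋊[(zpowers α).subtype] zpowers α
  have : Finite Γ := Finite.of_equiv _ SemidirectProduct.equivProd.symm
  let a : Γ := SemidirectProduct.inr ⟨α, mem_zpowers α⟩
  have hc : ∀ β : zpowers α, β.1 * α = α * β.1 := fun β => by
    obtain ⟨i, hi⟩ := β.2
    rw [← hi]; exact (Commute.zpow_self α i).eq
  have g1 : ∀ u v w : Γ, u * v * (w * v)⁻¹ = u * w⁻¹ := fun u v w => by
    rw [mul_inv_rev, mul_assoc, mul_inv_cancel_left]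
  have g2 : ∀ u v : Γ, u * (v * u * v⁻¹)⁻¹ = u * v * u⁻¹ * v⁻¹ := fun u v => by
    rw [mul_inv_rev, mul_inv_rev, inv_inv, mul_assoc, mul_assoc]
  have hf : ∀ x : Γ, x * (a * x * a⁻¹)⁻¹ = SemidirectProduct.inl (x.left * (α x.left)⁻¹) := by
    intro x
    have h1 : a * x * a⁻¹ = SemidirectProduct.inl (α x.left) * SemidirectProduct.inr x.right := by
      conv_lhs => rw [← SemidirectProduct.inl_left_mul_inr_right x]
      have h2 := SemidirectProduct.inl_aut (φ := (zpowers α).subtype) ⟨α, mem_zpowers α⟩ x.left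
      have h3 : SemidirectProduct.inr x.right * a = a * SemidirectProduct.inr x.right := by
        rw [← map_mul, ← map_mul]; exact congrArg _ (Subtype.ext (hc x.right))
      rw [map_inv] at h2
      change SemidirectProduct.inl (α x.left) = a * _ * a⁻¹ at h2
      rw [h2, mul_assoc _ a⁻¹, ← mul_assoc a, mul_assoc _ _ a⁻¹]
      congr 1
      rw [mul_inv_eq_iff_eq_mul, mul_assoc, h3, inv_mul_cancel_left]
    rw [h1, map_mul, map_inv]
    nth_rewrite 1 [← SemidirectProduct.inl_left_mul_inr_right x]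
    exact g1 _ _ _
  have hA : normalClosure ((zpowers a : Subgroup Γ) : Set Γ) = ⊤ := by
    have h1 : a ∈ normalClosure ((zpowers a : Subgroup Γ) : Set Γ) :=
      subset_normalClosure (mem_zpowers a)
    have h2 : (⊤ : Subgroup G) ≤
        (normalClosure ((zpowers a : Subgroup Γ) : Set Γ)).comap SemidirectProduct.inl := by
      rw [← hG]
      refine (closure_le _).2 ?_
      rintro _ ⟨c, rfl⟩
      have h3 := hf (SemidirectProduct.inl c)
      change SemidirectProduct.inl (c * (α c)⁻¹) ∈ normalClosure _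
      rw [SemidirectProduct.left_inl] at h3
      rw [← h3, g2]
      exact mul_mem (normalClosure_normal.conj_mem _ h1 _) (inv_mem h1)
    refine top_le_iff.1 fun x _ => ?_
    rw [← SemidirectProduct.inl_left_mul_inr_right x]
    refine mul_mem (h2 (mem_top _)) ?_
    obtain ⟨i, hi⟩ := x.right.2
    have : x.right = (⟨α, mem_zpowers α⟩ : zpowers α) ^ i := Subtype.ext hi.symm
    rw [this, map_zpow]
    exact zpow_mem h1 i
  have key := iter_gen k _ Γ a rfl hA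
  set K := closure (Set.range ((fun c : G => c * (α c)⁻¹)^[k])) with hK
  have hKinv : ∀ β : zpowers α, ∀ y ∈ K, β.1 y ∈ K := fun β y hy => by
    have h1 : ∀ j : ℕ, ∀ c, β.1 ((fun c : G => c * (α c)⁻¹)^[j] c) =
        (fun c : G => c * (α c)⁻¹)^[j] (β.1 c) := fun j => by
      induction j with
      | zero => exact fun c => rfl
      | succ j ihj =>
        intro c
        rw [Function.iterate_succ_apply, Function.iterate_succ_apply, ihj, map_mul, map_inv]
        exact congrArg (fun z => (fun c : G => c * (α c)⁻¹)^[j] (β.1 c * z⁻¹))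
          (DFunLike.congr_fun (hc β) c)
    have h2 : K ≤ K.comap β.1.toMonoidHom := (closure_le _).2 (by
      rintro _ ⟨c, rfl⟩
      exact subset_closure ⟨β.1 c, (h1 k c).symm⟩)
    exact h2 hy
  let K' : Subgroup Γ :=
    { carrier := {x | x.left ∈ K}
      one_mem' := K.one_mem
      mul_mem' := fun {x y} hx hy => K.mul_mem hx (hKinv _ _ hy)
      inv_mem' := fun {x} hx => hKinv x.right⁻¹ _ (K.inv_mem hx) }
  have h1 : ∀ j : ℕ, ∀ c : G, (fun c : Γ => c * (a * c * a⁻¹)⁻¹)^[j] (SemidirectProduct.inl c) =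
      SemidirectProduct.inl ((fun c : G => c * (α c)⁻¹)^[j] c) := fun j => by
    induction j with
    | zero => exact fun c => rfl
    | succ j ihj =>
      intro c
      rw [Function.iterate_succ_apply, Function.iterate_succ_apply, hf, ihj]; rfl
  have h2 : (⊤ : Subgroup Γ) ≤ K' := by
    rw [← key]
    refine sup_le ((closure_le _).2 ?_) (zpowers_le.2 K.one_mem)
    rintro _ ⟨x, rfl⟩
    obtain ⟨j, rfl⟩ : ∃ j, k = j + 1 := ⟨k - 1, by omega⟩
    change SemidirectProduct.left _ ∈ K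
    rw [Function.iterate_succ_apply, hf, h1]
    exact subset_closure ⟨x.left, rfl⟩
  exact top_le_iff.1 fun c _ => h2 (mem_top (SemidirectProduct.inl c))

end Cfsg.Agent.Core.Flav
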