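import Mathlib
import Cfsg.Agent.Lib.Core.TwoF
import Cfsg.Agent.Lib.Core.Primitive
import Cfsg.Agent.Lib.Coprime.Hall
import Cfsg.Agent.Lib.Cls.Basic
import Cfsg.Agent.Lib.PGrp.Extraspecial

/-!
# Groups whose elements of order `p` lie in a normal `p`-subgroup; semi-extraspecial 2-groups
-/

set_option autoImplicit false

namespace Cfsg.Agent.Core

open Subgroup
open scoped commutatorElement

variable {G : Type*} [Group G] [Finite G] {p : ℕ} [hp : Fact p.Prime]

theorem exists_pComplOf (hG : IsPSolvable p G) (N : Subgroup G) :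
    ∃ R, IsPiHallOf ({p} : Set ℕ)ᶜ R N := by
  obtain ⟨H, hH⟩ := Coprime.pComplement_exists (Coprime.isPSolvable_subgroup hG N)
  exact ⟨_, Coprime.isPiHallOf_map_subtype hH⟩

omit [Finite G] in
theorem coprime_of_pComplOf {R N : Subgroup G} (h : IsPiHallOf ({p} : Set ℕ)ᶜ R N) :
    (Nat.card R).Coprime p :=
  (Coprime.isPiNum_compl_singleton_iff hp.out).1 (Coprime.isPiHallOf_iff.1 h).2.1

theorem sup_normalizer_eq_top_of_pComplOf (hG : IsPSolvable p G) {N R : Subgroup G} [hN : N.Normal]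
    (h : IsPiHallOf ({p} : Set ℕ)ᶜ R N) : N ⊔ normalizer (R : Set G) = ⊤ := by
  rw [eq_top_iff]
  intro g _
  have h1 := Coprime.isPiHallOf_map_conj h (normal_iff_top_le_normalizer.1 hN (mem_top g))
  rw [Coprime.isPiHallOf_iff_subgroupOf] at h h1
  obtain ⟨n, hn⟩ := Coprime.pComplement_conj (Coprime.isPSolvable_subgroup hG N) h.2 h1.2
  have h2 : (n : G)⁻¹ * g ∈ normalizer (R : Set G) := by
    refine mem_normalizer_of_map_conj_le ?_
    rintro _ ⟨r, hr, rfl⟩
    have h3 : (⟨g * r * g⁻¹, h1.1 (conj_mem_map_conj hr)⟩ : N) ∈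
        (R.map (MulAut.conj g).toMonoidHom).subgroupOf N := conj_mem_map_conj hr
    have h4 := mem_map_conj.1 (hn.le h3)
    simpa [mem_subgroupOf, mul_assoc] using h4
  have := mul_mem (mem_sup_left n.2 : (n : G) ∈ N ⊔ normalizer (R : Set G)) (mem_sup_right h2)
  simpa using this

omit [Finite G] in
theorem sup_eq_of_pComplOf {D N R : Subgroup G} (hD : D ≤ N) (hc : (D.relIndex N).Coprime p)
    (h : IsPiHallOf ({p} : Set ℕ)ᶜ R N) : D ⊔ R = N := by
  obtain ⟨h1, -, h3⟩ := Coprime.isPiHallOf_iff.1 h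
  refine le_antisymm (sup_le hD h1) (relIndex_eq_one.1 ?_)
  have a1 : (D ⊔ R).relIndex N ∣ D.relIndex N := relIndex_dvd_of_le_left N le_sup_left
  have a2 : (D ⊔ R).relIndex N ∣ R.relIndex N := relIndex_dvd_of_le_left N le_sup_right
  exact Coprime.IsPiNum.eq_one ((Coprime.isPiNum_compl_singleton_iff hp.out).2
    (hc.coprime_dvd_left a1)) (h3.of_dvd a2)

theorem coprime_card_normalizer {V R : Subgroup G} [hV : V.Normal] (hp' : IsPGroup p V)
    (h : ∀ x : G, x ^ p = 1 → x ∈ V) (hR : (Nat.card R).Coprime p)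
    (h0 : V ⊓ centralizer (R : Set G) = ⊥) : (Nat.card (normalizer (R : Set G))).Coprime p := by
  rw [Nat.coprime_comm, hp.out.coprime_iff_not_dvd]
  intro hd
  obtain ⟨x, hx, ho⟩ := exists_mem_orderOf_eq_of_dvd_card hd
  have hxV := h x (ho ▸ pow_orderOf_eq_one x)
  have : x ∈ V ⊓ centralizer (R : Set G) := mem_inf.2 ⟨hxV, fun r hr => by
    have : r * x * r⁻¹ * x⁻¹ ∈ V ⊓ R := mem_inf.2 ⟨V.mul_mem (hV.conj_mem x hxV r) (V.inv_mem hxV),
      by
        rw [mul_assoc, mul_assoc, ← mul_assoc x]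
        exact R.mul_mem hr ((mem_normalizer_iff.1 hx _).1 (R.inv_mem hr))⟩
    rwa [inf_eq_bot_of_isPGroup_of_coprime hp' hR, mem_bot, mul_inv_eq_one,
      mul_inv_eq_iff_eq_mul] at this⟩
  rw [h0, mem_bot] at this
  rw [this, orderOf_one] at ho
  exact hp.out.one_lt.ne ho

omit [Finite G] in
theorem index_dvd_card_of_sup_eq_top {D H : Subgroup G} [D.Normal] (h : D ⊔ H = ⊤) :
    D.index ∣ Nat.card H := by
  rw [← relIndex_top_right, ← h, relIndex_sup_left]
  exact relIndex_dvd_card D H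

/-- If the elements of order `p` lie in `V` and a normal subgroup `N` with `N / D` a `p'`-group has no
fixed points on `V` whereas `D` centralizes `V`, then `G / D` is a `p'`-group. -/
theorem coprime_index_of_inf_centralizer_eq_bot (hG : IsPSolvable p G) {V D N : Subgroup G}
    [V.Normal] [D.Normal] [N.Normal] (hp' : IsPGroup p V) (h : ∀ x : G, x ^ p = 1 → x ∈ V)
    (hD : D ≤ N) (hc : (D.relIndex N).Coprime p) (hDV : D ≤ centralizer (V : Set G))
    (h0 : V ⊓ centralizer (N : Set G) = ⊥) : D.index.Coprime p := by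
  obtain ⟨R, hR⟩ := exists_pComplOf hG N
  have h1 := sup_eq_of_pComplOf hD hc hR
  have h2 := sup_normalizer_eq_top_of_pComplOf hG hR
  have h3 := coprime_card_normalizer hp' h (coprime_of_pComplOf hR) (by
    rw [← h0, ← h1, centralizer_sup_eq, ← inf_assoc, inf_eq_left.2 (le_centralizer_iff.1 hDV)])
  refine h3.coprime_dvd_left (index_dvd_card_of_sup_eq_top ?_)
  rw [← h2, ← h1, sup_assoc, sup_eq_right.2 le_normalizer]

omit hp in
theorem exists_lift_pow_eq_one {K : Subgroup G} [K.Normal] (hK : (Nat.card K).Coprime p)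
    {y : G ⧸ K} (hy : y ^ p = 1) : ∃ x : G, x ^ p = 1 ∧ (x : G ⧸ K) = y := by
  obtain ⟨x, rfl⟩ := QuotientGroup.mk_surjective y
  obtain ⟨u, hu, h1, h2⟩ := Cls.exists_coprime_lift (n := Nat.card K) (QuotientGroup.mk' K) x
    (hK.symm.coprime_dvd_left (orderOf_dvd_of_pow_eq_one hy))
  refine ⟨u, ?_, h1⟩
  have h3 : u ^ p ∈ K := by
    rw [← QuotientGroup.eq_one_iff, QuotientGroup.mk_pow]
    exact (congrArg (· ^ p) h1).trans hy
  rw [← orderOf_eq_one_iff]
  exact Nat.Coprime.eq_one_of_dvd (h2.coprime_dvd_left (orderOf_pow_dvd p))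
    (Subgroup.orderOf_dvd_natCard K h3)

omit hp in
theorem relIndex_comap_pPrimeCore (Q : Subgroup G) [Q.Normal] :
    (Q.relIndex ((pPrimeCore p (G ⧸ Q)).comap (QuotientGroup.mk' Q))).Coprime p := by
  rw [← card_map_mk_eq_relIndex, map_comap_eq_self_of_surjective (QuotientGroup.mk'_surjective Q)]
  exact coprime_card_pPrimeCore p

theorem two_pow_add_two_pow_inj {a b c d : ℕ} (h : 2 ^ a + 2 ^ b = 2 ^ c + 2 ^ d) :
    (a = c ∧ b = d) ∨ (a = d ∧ b = c) := by
  have key : ∀ a b c d : ℕ, a ≤ b → c ≤ d → a ≤ c → 2 ^ a + 2 ^ b = 2 ^ c + 2 ^ d →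
      a = c ∧ b = d := by
    intro a b c d h1 h2 h3 h
    obtain ⟨b, rfl⟩ := Nat.exists_eq_add_of_le h1
    obtain ⟨d, rfl⟩ := Nat.exists_eq_add_of_le h2
    obtain ⟨c, rfl⟩ := Nat.exists_eq_add_of_le h3
    have h4 : 1 + 2 ^ b = 2 ^ c + 2 ^ (c + d) := by
      refine Nat.eq_of_mul_eq_mul_left (show 0 < 2 ^ a by positivity) ?_
      rw [mul_add, mul_add, mul_one, ← pow_add, ← pow_add, ← pow_add, ← add_assoc, h]
    rcases c with _ | c
    · have : b = d := Nat.pow_right_injective le_rfl (by simpa using h4)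
      simp [this]
    · exfalso
      have p1 : 0 < 2 ^ c := by positivity
      have p2 : 0 < 2 ^ (c + d) := by positivity
      rw [show c + 1 + d = c + d + 1 by ring, pow_succ, pow_succ] at h4
      rcases b with _ | b
      · omega
      · rw [pow_succ] at h4; omega
  rcases le_total a b with h1 | h1 <;> rcases le_total c d with h2 | h2
  · rcases le_total a c with h3 | h3
    · exact Or.inl (key _ _ _ _ h1 h2 h3 h)
    · have := key _ _ _ _ h2 h1 h3 h.symm; omega
  · rcases le_total a d with h3 | h3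
    · exact Or.inr (key _ _ _ _ h1 h2 h3 (by omega))
    · have := key _ _ _ _ h2 h1 h3 (by omega); omega
  · rcases le_total b c with h3 | h3
    · have := key _ _ _ _ h1 h2 h3 (by omega); omega
    · have := key _ _ _ _ h2 h1 h3 (by omega); omega
  · rcases le_total b d with h3 | h3
    · have := key _ _ _ _ h1 h2 h3 (by omega); omega
    · have := key _ _ _ _ h2 h1 h3 (by omega); omega

section Semi

variable {Γ : Type*} [Group Γ] [Finite Γ] {V : Subgroup Γ} (hc : V ≤ center Γ)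
  (hsq : ∀ x : Γ, x ^ 2 ∈ V) (h1 : ∀ x : Γ, x ^ 2 = 1 ↔ x ∈ V)

include hsq in
omit [Finite Γ] in
theorem commutator_mem_of_sq_mem (x y : Γ) : ⁅x, y⁆ ∈ V := by
  have : ⁅x, y⁆ = x ^ 2 * (x⁻¹ * y) ^ 2 * (y⁻¹) ^ 2 := by
    simp only [commutatorElement_def, sq]; group
  rw [this]
  exact V.mul_mem (V.mul_mem (hsq _) (hsq _)) (hsq _)

include hc hsq in
omit [Finite Γ] in
theorem mul_sq_eq (x y : Γ) : (x * y) ^ 2 = x ^ 2 * y ^ 2 * ⁅y, x⁆ := by
  have h := mem_center_iff.1 (hc (commutator_mem_of_sq_mem hsq y x))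
  calc (x * y) ^ 2 = x * (⁅y, x⁆ * (x * y * y)) := by simp only [commutatorElement_def, sq]; group
    _ = _ := by rw [← h]; simp only [sq, mul_assoc]

include hc hsq h1 in
theorem semi_extraspecial
    (hfib : ∀ v ∈ V, ∀ w ∈ V, v ≠ 1 → w ≠ 1 →
      Nat.card {x : Γ // x ^ 2 = v} = Nat.card {x : Γ // x ^ 2 = w})
    (hk : ∃ x y : Γ, x ^ 2 = y ^ 2 ∧ x⁻¹ * y ∉ V) {M : Subgroup Γ}
    (hi : M.relIndex V = 2) :
    Nat.card Γ = Nat.card V ^ 3 ∧ ∀ z, (∀ x, ⁅z, x⁆ ∈ M) → z ∈ V := by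
  classical
  let _ := Fintype.ofFinite Γ
  have hcm := commutator_mem_of_sq_mem hsq
  have hcc : ∀ x y z : Γ, Commute ⁅x, y⁆ z := fun x y z => (mem_center_iff.1 (hc (hcm x y)) z).symm
  have hΓ : IsPGroup 2 Γ := fun x => ⟨2, by
    rw [show 2 ^ 2 = 2 * 2 by rfl, pow_mul]; exact (h1 _).2 (hsq x)⟩
  let s : Γ → ℤ := fun v => if v ∈ M then 1 else -1
  have hs : ∀ a ∈ V, ∀ b ∈ V, s (a * b) = s a * s b := fun a ha b hb => by
    have := mul_mem_iff_of_index_two (H := M.subgroupOf V) hi (a := ⟨a, ha⟩) (b := ⟨b, hb⟩)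
    simp only [mem_subgroupOf, coe_mul] at this
    simp only [s, this]
    by_cases h1 : a ∈ M <;> by_cases h2 : b ∈ M <;> simp [h1, h2]
  have hs1 : s 1 = 1 := if_pos M.one_mem
  have hss : ∀ a, s a * s a = 1 := fun a => by
    simp only [s]; split_ifs <;> simp
  -- sums of sign characters over subgroups
  have hsum : ∀ (K : Subgroup Γ) (f : Γ → ℤ), (∀ a ∈ K, ∀ b ∈ K, f (a * b) = f a * f b) →
      (∃ a ∈ K, f a = -1) → ∑ x with x ∈ K, f x = 0 := by
    rintro K f hf ⟨a, ha, hfa⟩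
    have : ∑ x with x ∈ K, f x = ∑ x with x ∈ K, f (a * x) :=
      (Finset.sum_bijective (fun x => a * x) (Group.mulLeft_bijective a)
        (fun x => by simp [K.mul_mem_cancel_left ha]) fun _ _ => rfl).symm
    have h2 : ∑ x with x ∈ K, f (a * x) = -∑ x with x ∈ K, f x := by
      rw [← Finset.sum_neg_distrib]
      refine Finset.sum_congr rfl fun x hx => ?_
      rw [hf a ha x (Finset.mem_filter.1 hx).2, hfa]; ring
    omega
  have hcard : ∀ K : Subgroup Γ, (Finset.univ.filter (· ∈ K)).card = Nat.card K := fun K => by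
    rw [Nat.card_eq_fintype_card, Fintype.card_subtype]
  obtain ⟨x₀, y₀, hxy, hxy'⟩ := hk
  have hv₀ : x₀ ^ 2 ≠ 1 := fun e => hxy' (V.mul_mem (V.inv_mem ((h1 _).1 e)) ((h1 _).1 (hxy ▸ e)))
  obtain ⟨F, hF⟩ : ∃ F, F = Nat.card {x : Γ // x ^ 2 = x₀ ^ 2} := ⟨_, rfl⟩
  have hfib' : ∀ v, (Finset.univ.filter fun x : Γ => x ^ 2 = v).card =
      Nat.card {x : Γ // x ^ 2 = v} := fun v => by
    rw [Nat.card_eq_fintype_card, Fintype.card_subtype]
  have hfs : ∀ f : Γ → ℤ, ∑ x, f (x ^ 2) =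
      Nat.card V * f 1 + F * (∑ v with v ∈ V, f v - f 1) := fun f => by
    rw [← Finset.sum_fiberwise_of_maps_to (s := Finset.univ) (t := Finset.univ.filter (· ∈ V))
      (g := fun x : Γ => x ^ 2) (fun x _ => by simpa using hsq x)]
    have h0 : (1 : Γ) ∈ Finset.univ.filter (· ∈ V) := by simp
    rw [← Finset.add_sum_erase _ _ h0, ← Finset.add_sum_erase _ f h0, add_sub_cancel_left,
      Finset.mul_sum]
    congr 1
    · rw [Finset.sum_congr rfl (g := fun _ => f 1) fun x hx => by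
        rw [(Finset.mem_filter.1 hx).2], Finset.sum_const, ← hcard V]
      simp [h1]
    · refine Finset.sum_congr rfl fun v hv => ?_
      obtain ⟨a1, a2⟩ := Finset.mem_erase.1 hv
      rw [Finset.sum_congr rfl (g := fun _ => f v) fun x hx => by
        rw [(Finset.mem_filter.1 hx).2], Finset.sum_const, hfib',
        hfib v (Finset.mem_filter.1 a2).2 _ (hsq x₀) a1 hv₀, ← hF]
      simp
  have hFV : Nat.card V < F := by
    rw [hF, ← hfib', ← hcard V]
    have hinj := Finset.card_image_of_injective (Finset.univ.filter (· ∈ V))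
      (mul_right_injective x₀)
    rw [← hinj]
    refine Finset.card_lt_card (Finset.ssubset_iff_of_subset ?_ |>.2 ⟨y₀, by simp [hxy], ?_⟩)
    · intro y hy
      obtain ⟨v, hv, rfl⟩ := Finset.mem_image.1 hy
      have hv := (Finset.mem_filter.1 hv).2
      have : Commute x₀ v := mem_center_iff.1 (hc hv) x₀
      simp [this.mul_pow, (h1 v).2 hv]
    · intro hy
      obtain ⟨v, hv, rfl⟩ := Finset.mem_image.1 hy
      exact hxy' (by simpa using hv)
  obtain ⟨m₀, hm₀, hm₀'⟩ : ∃ a ∈ V, a ∉ M := by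
    by_contra hh
    push Not at hh
    rw [relIndex_eq_one.2 hh] at hi
    omega
  have e1 := hfs fun _ => 1
  have e2 := hfs s
  rw [hsum V s hs ⟨m₀, hm₀, if_neg hm₀'⟩, hs1] at e2
  simp only [Finset.sum_const, Finset.card_univ, hcard, nsmul_eq_mul, mul_one,
    ← Nat.card_eq_fintype_card] at e1
  let R : Subgroup Γ :=
    { carrier := {z | ∀ x, ⁅z, x⁆ ∈ M}
      mul_mem' := fun {a b} ha hb x => by
        rw [Coprime.commutatorElement_mul_left_of_central hcc]; exact M.mul_mem (ha x) (hb x)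
      one_mem' := fun x => by simp
      inv_mem' := fun {a} ha x => by
        have := Coprime.commutatorElement_mul_left_of_central hcc a⁻¹ a x
        rw [inv_mul_cancel, commutatorElement_one_left] at this
        rw [eq_inv_of_mul_eq_one_left this.symm]
        exact M.inv_mem (ha x) }
  have hVR : V ≤ R := fun v hv x => by
    rw [commutatorElement_eq_one_iff_commute.2 (mem_center_iff.1 (hc hv) x).symm]
    exact M.one_mem
  have e3 : (∑ x, s (x ^ 2)) ^ 2 = Nat.card Γ * ∑ z with z ∈ R, s (z ^ 2) := by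
    rw [sq, Finset.sum_mul_sum]
    have : ∀ x : Γ, ∑ y, s (x ^ 2) * s (y ^ 2) = ∑ z, s (z ^ 2) * s ⁅z, x⁆ := fun x => by
      refine (Finset.sum_bijective (fun z => x * z) (Group.mulLeft_bijective x) (by simp)
        fun z _ => ?_).symm
      rw [mul_sq_eq hc hsq, hs _ (V.mul_mem (hsq _) (hsq _)) _ (hcm _ _), hs _ (hsq _) _ (hsq _),
        ← mul_assoc, ← mul_assoc, hss, one_mul]
    rw [Finset.sum_congr rfl fun x _ => this x, Finset.sum_comm, Finset.mul_sum, Finset.sum_filter]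
    refine Finset.sum_congr rfl fun z _ => ?_
    rw [← Finset.mul_sum]
    split_ifs with hz
    · rw [Finset.sum_congr rfl (g := fun _ => 1) fun x _ => if_pos (hz x)]
      simp [mul_comm]
    · obtain ⟨a, ha⟩ : ∃ a, ⁅z, a⁆ ∉ M := not_forall.1 hz
      have := hsum ⊤ (fun x => s ⁅z, x⁆) (fun a _ b _ => by
        rw [Coprime.commutatorElement_mul_right_of_central hcc, hs _ (hcm _ _) _ (hcm _ _)])
        ⟨a, mem_top a, if_neg ha⟩
      simp only [mem_top, Finset.filter_true] at this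
      rw [this, mul_zero]
  have e4 : ∑ z with z ∈ R, s (z ^ 2) = Nat.card R := by
    by_cases hh : ∃ a ∈ R, s (a ^ 2) = -1
    · rw [hsum R (fun z => s (z ^ 2)) (fun a _ b hb => by
        rw [mul_sq_eq hc hsq, hs _ (V.mul_mem (hsq _) (hsq _)) _ (hcm _ _), hs _ (hsq _) _ (hsq _),
          show s ⁅b, a⁆ = 1 from if_pos (hb a), mul_one]) hh, mul_zero, e2] at e3
      have := pow_eq_zero_iff (two_ne_zero) |>.1 e3
      omega
    · push Not at hh
      rw [Finset.sum_congr rfl (g := fun _ => 1) fun z hz => by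
        have := hh z (Finset.mem_filter.1 hz).2
        simp only [s] at this ⊢
        split_ifs at this ⊢ <;> simp_all]
      simp [hcard]
  obtain ⟨N, hN⟩ := IsPGroup.iff_card.1 hΓ
  obtain ⟨n, hn⟩ := IsPGroup.iff_card.1 (hΓ.to_subgroup V)
  obtain ⟨r, hr⟩ := IsPGroup.iff_card.1 (hΓ.to_subgroup R)
  obtain ⟨d, rfl⟩ := Nat.exists_eq_add_of_lt hFV
  have e5 : (d + 1) ^ 2 = 2 ^ (N + r) := by
    rw [e2, e4, hN, hr] at e3
    zify
    rw [pow_add]
    push_cast at e3
    linear_combination e3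
  obtain ⟨a, -, ha⟩ := (Nat.dvd_prime_pow Nat.prime_two).1
    (show d + 1 ∣ 2 ^ (N + r) from e5 ▸ Dvd.intro_left (d + 1) (sq _).symm)
  have e6 : a * 2 = N + r := Nat.pow_right_injective le_rfl (by
    change 2 ^ _ = 2 ^ _
    rw [pow_mul, ← ha, e5])
  have e7 : 2 ^ N + 2 ^ a = 2 ^ (n + n) + 2 ^ (n + a) := by
    rw [pow_add, pow_add, ← ha, ← hN, ← hn]
    zify
    push_cast at e1
    linear_combination e1
  have hn0 : n ≠ 0 := fun e => by
    rw [e, pow_zero, card_eq_one] at hn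
    exact hm₀' (mem_bot.1 (hn ▸ hm₀) ▸ M.one_mem)
  have e8 := two_pow_add_two_pow_inj e7
  have e9 : R = V := (eq_of_le_of_card_eq hVR (by rw [hn, hr]; congr 1; omega)).symm
  refine ⟨by rw [hN, hn, ← pow_mul]; congr 1; omega, fun z hz => e9 ▸ (show z ∈ R from hz)⟩

end Semi

end Cfsg.Agent.Core
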