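import Mathlib
import Cfsg.Agent.Lib.Core.OmegaTrans
import Cfsg.Agent.Lib.PGrp.Basic

/-!
# Isometries of semi-extraspecial 2-groups
-/

set_option autoImplicit false

namespace Cfsg.Agent.Core

open Subgroup
open scoped commutatorElement

variable {Γ : Type*} [Group Γ] [Finite Γ] {V : Subgroup Γ} (hc : V ≤ center Γ)
  (hsq : ∀ x : Γ, x ^ 2 ∈ V) (h1 : ∀ x : Γ, x ^ 2 = 1 ↔ x ∈ V)

include hc hsq h1 in
theorem semi_card_centralizer
    (hfib : ∀ v ∈ V, ∀ w ∈ V, v ≠ 1 → w ≠ 1 →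
      Nat.card {x : Γ // x ^ 2 = v} = Nat.card {x : Γ // x ^ 2 = w})
    (hk : ∃ x y : Γ, x ^ 2 = y ^ 2 ∧ x⁻¹ * y ∉ V) :
    Nat.card Γ = Nat.card V ^ 3 ∧
      ∀ z ∉ V, Nat.card (centralizer ({z} : Set Γ)) = Nat.card V ^ 2 := by
  have hcm := commutator_mem_of_sq_mem hsq
  have hcc : ∀ x y z : Γ, Commute ⁅x, y⁆ z := fun x y z => (mem_center_iff.1 (hc (hcm x y)) z).symm
  have hV : IsPGroup 2 V := fun x => ⟨1, Subtype.ext (by simpa using (h1 _).2 x.2)⟩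
  have hM : ∀ K : Subgroup Γ, ¬ V ≤ K → ∃ M : Subgroup Γ, K ⊓ V ≤ M ∧ M.relIndex V = 2 :=
    fun K hK => by
      obtain ⟨M, a1, a2, -⟩ := PGrp.exists_le_index_eq hV (H := K.subgroupOf V)
        (by rwa [Ne, subgroupOf_eq_top])
      refine ⟨M.map V.subtype, fun x hx => ⟨⟨x, hx.2⟩, a1 hx.1, rfl⟩, ?_⟩
      rwa [relIndex, subgroupOf, comap_map_eq_self_of_injective V.subtype_injective]
  have hcard : Nat.card Γ = Nat.card V ^ 3 := by
    obtain ⟨M, -, hM⟩ := hM ⊥ fun h => by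
      obtain ⟨x, y, -, hxy⟩ := hk
      exact hxy ((h1 _).1 (h (hsq _)))
    exact (semi_extraspecial hc hsq h1 hfib hk hM).1
  refine ⟨hcard, fun z hz => ?_⟩
  let ψ : Γ →* Γ := MonoidHom.mk' (fun x => ⁅z, x⁆)
    (Coprime.commutatorElement_mul_right_of_central hcc z)
  have hr : ψ.range = V := by
    refine le_antisymm (by rintro _ ⟨x, rfl⟩; exact hcm z x) (by_contra fun h => ?_)
    obtain ⟨M, a1, a2⟩ := hM _ h
    exact hz ((semi_extraspecial hc hsq h1 hfib hk a2).2 z fun x => a1 ⟨⟨x, rfl⟩, hcm z x⟩)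
  have hk : ψ.ker = centralizer {z} := by
    ext x
    rw [MonoidHom.mem_ker, mem_centralizer_singleton_iff, eq_comm (a := x * z)]
    exact commutatorElement_eq_one_iff_mul_comm
  have := ψ.ker.card_mul_index
  rw [index_ker, hr, hk, hcard, pow_succ] at this
  exact Nat.eq_of_mul_eq_mul_right Nat.card_pos this

include hc hsq in
omit [Finite Γ] in
theorem semi_disp {σ : MulAut Γ} (hσ : ∀ v ∈ V, σ v = v) (x : Γ) :
    (x⁻¹ * σ x) ^ 2 * ⁅x⁻¹ * σ x, x⁆ = 1 ∧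
      ∀ c, c⁻¹ * σ c ∈ V → c * (x⁻¹ * σ x) = (x⁻¹ * σ x) * c := by
  have hcm := commutator_mem_of_sq_mem hsq
  have hcc : ∀ x y z : Γ, Commute ⁅x, y⁆ z := fun x y z => (mem_center_iff.1 (hc (hcm x y)) z).symm
  constructor
  · have := mul_sq_eq hc hsq x (x⁻¹ * σ x)
    rw [mul_inv_cancel_left, ← map_pow, hσ _ (hsq x), mul_assoc] at this
    exact (left_eq_mul.1 this)
  · intro c hc'
    have h2 := hσ _ (hcm c x)
    rw [map_commutatorElement, show σ c = c * (c⁻¹ * σ c) by group,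
      show σ x = x * (x⁻¹ * σ x) by group, Coprime.commutatorElement_mul_left_of_central hcc,
      commutatorElement_eq_one_iff_mul_comm.2 (mem_center_iff.1 (hc hc') _).symm, mul_one,
      Coprime.commutatorElement_mul_right_of_central hcc] at h2
    exact commutatorElement_eq_one_iff_mul_comm.1 (mul_eq_left.1 h2)

variable [V.Normal] (hcard : Nat.card Γ = Nat.card V ^ 3)
  (hcen : ∀ z ∉ V, Nat.card (centralizer ({z} : Set Γ)) = Nat.card V ^ 2)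

include hsq in
omit [Finite Γ] in
theorem semi_quot_comm (a b : Γ ⧸ V) : a * b = b * a := by
  obtain ⟨a, rfl⟩ := QuotientGroup.mk_surjective a
  obtain ⟨b, rfl⟩ := QuotientGroup.mk_surjective b
  rw [← commutatorElement_eq_one_iff_mul_comm]
  exact (QuotientGroup.eq_one_iff _).2 (commutator_mem_of_sq_mem hsq a b)

include hsq in
omit [Finite Γ] in
theorem semi_quot_inv (a : Γ ⧸ V) : a⁻¹ = a := by
  obtain ⟨a, rfl⟩ := QuotientGroup.mk_surjective a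
  rw [inv_eq_iff_mul_eq_one, ← sq]
  exact (QuotientGroup.eq_one_iff _).2 (hsq a)

include hsq in
omit [Finite Γ] in
theorem semi_disp_fixed {σ : MulAut Γ} (hσ2 : ∀ x, x⁻¹ * σ (σ x) ∈ V) (x : Γ) :
    (x⁻¹ * σ x)⁻¹ * σ (x⁻¹ * σ x) ∈ V := by
  rw [← QuotientGroup.eq, map_mul, map_inv]
  simp only [QuotientGroup.mk_mul, QuotientGroup.mk_inv, semi_quot_inv hsq]
  rw [← QuotientGroup.eq.2 (hσ2 x), semi_quot_comm hsq]

include hc hsq h1 hcard hcen in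
theorem semi_fixed {σ : MulAut Γ} (hσ : ∀ v ∈ V, σ v = v) (hσ2 : ∀ x, x⁻¹ * σ (σ x) ∈ V)
    {c : Γ} (hcV : c ∉ V) (hσc : c⁻¹ * σ c ∈ V) (hσ1 : ∃ x, x⁻¹ * σ x ∉ V) :
    (∀ y, y * c = c * y → y⁻¹ * σ y ∈ V) ∧
      ∃ x, c⁻¹ * (x⁻¹ * σ x) ∈ V ∧ c ^ 2 * ⁅c, x⁆ = 1 := by
  have hcm := commutator_mem_of_sq_mem hsq
  have hcc : ∀ x y z : Γ, Commute ⁅x, y⁆ z := fun x y z => (mem_center_iff.1 (hc (hcm x y)) z).symm
  let φ : Γ →* Γ ⧸ V := MonoidHom.mk' (fun x => ((x⁻¹ * σ x : Γ) : Γ ⧸ V)) fun a b => by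
    simp only [map_mul, mul_inv_rev, QuotientGroup.mk_mul]
    rw [semi_quot_comm hsq (b⁻¹ : Γ), mul_assoc, mul_assoc, ← mul_assoc ((b⁻¹ : Γ) : Γ ⧸ V),
      semi_quot_comm hsq (b⁻¹ : Γ), mul_assoc]
  have hker : ∀ x, x ∈ φ.ker ↔ x⁻¹ * σ x ∈ V := fun x => QuotientGroup.eq_one_iff _
  have hVk : V ≤ φ.ker := fun v hv => (hker v).2 (by rw [hσ v hv, inv_mul_cancel]; exact V.one_mem)
  have a1 : φ.range ≤ φ.ker.map (QuotientGroup.mk' V) := by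
    rintro _ ⟨x, rfl⟩
    exact ⟨_, (hker _).2 (semi_disp_fixed hsq hσ2 x), rfl⟩
  obtain ⟨x₀, hx₀⟩ := hσ1
  have a2 : Nat.card φ.ker ≤ Nat.card V ^ 2 := hcen _ hx₀ ▸ card_le_of_le fun y hy =>
    mem_centralizer_singleton_iff.2 ((semi_disp hc hsq hσ x₀).2 y ((hker y).1 hy))
  have a3 := φ.ker.card_mul_index
  rw [index_ker, hcard] at a3
  have a4 : Nat.card V * Nat.card (φ.ker.map (QuotientGroup.mk' V)) = Nat.card φ.ker := by
    rw [card_map_mk_eq_relIndex, ← (V.subgroupOf φ.ker).card_mul_index,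
      Nat.card_congr (subgroupOfEquivOfLe hVk).toEquiv, relIndex]
  have a5 := card_le_of_le a1
  have hn : 0 < Nat.card V := Nat.card_pos
  have a6 : Nat.card V ≤ Nat.card φ.range := by
    refine Nat.le_of_mul_le_mul_left ?_ (pow_pos hn 2)
    rw [← pow_succ, ← a3]
    exact Nat.mul_le_mul_right _ a2
  have a7 : Nat.card (φ.ker.map (QuotientGroup.mk' V)) ≤ Nat.card V := by
    refine Nat.le_of_mul_le_mul_left ?_ hn
    rwa [a4, ← sq]
  have a8 : Nat.card φ.ker = Nat.card V ^ 2 := by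
    rw [← a4, sq]; congr 1; omega
  obtain ⟨x, hx⟩ : (c : Γ ⧸ V) ∈ φ.range := by
    rw [eq_of_le_of_card_ge a1 (by omega)]
    exact ⟨c, (hker c).2 hσc, rfl⟩
  have hx : c⁻¹ * (x⁻¹ * σ x) ∈ V := QuotientGroup.eq.1 hx.symm
  obtain ⟨v, hv⟩ : ∃ v, v = (c⁻¹ * (x⁻¹ * σ x))⁻¹ := ⟨_, rfl⟩
  have hvV : v ∈ V := hv ▸ V.inv_mem hx
  have hcv : c = (x⁻¹ * σ x) * v := by rw [hv]; group
  have hz := fun y => mem_center_iff.1 (hc hvV) y
  refine ⟨fun y hy => (hker y).1 ?_, x, hx, ?_⟩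
  · rw [eq_of_le_of_card_ge (H := φ.ker) (K := centralizer {c}) (fun y hy => ?_)
      (by rw [a8, hcen c hcV])]
    · exact mem_centralizer_singleton_iff.2 hy
    · rw [mem_centralizer_singleton_iff, hcv, ← mul_assoc,
        (semi_disp hc hsq hσ x).2 y ((hker y).1 hy), mul_assoc, hz, ← mul_assoc]
  · rw [hcv, (show Commute (x⁻¹ * σ x) v from hz _).mul_pow, (h1 v).2 hvV, mul_one,
      Coprime.commutatorElement_mul_left_of_central hcc,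
      commutatorElement_eq_one_iff_mul_comm.2 (hz x).symm, mul_one]
    exact (semi_disp hc hsq hσ x).1

include hc hsq h1 hcard hcen in
/-- Two commuting involutory isometries of a semi-extraspecial group agree modulo the centre. -/
theorem semi_isometry_eq {σ τ : MulAut Γ} (hσ : ∀ v ∈ V, σ v = v) (hσ2 : ∀ x, x⁻¹ * σ (σ x) ∈ V)
    (hσ1 : ∃ x, x⁻¹ * σ x ∉ V) (hτ : ∀ v ∈ V, τ v = v) (hτ2 : ∀ x, x⁻¹ * τ (τ x) ∈ V)
    (hτ1 : ∃ x, x⁻¹ * τ x ∉ V) (hστ : ∀ x, (σ (τ x))⁻¹ * τ (σ x) ∈ V) (x : Γ) :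
    (σ x)⁻¹ * τ x ∈ V := by
  have hcm := commutator_mem_of_sq_mem hsq
  have hcc : ∀ x y z : Γ, Commute ⁅x, y⁆ z := fun x y z => (mem_center_iff.1 (hc (hcm x y)) z).symm
  obtain ⟨c, c1, c2, c3⟩ : ∃ c, c ∉ V ∧ c⁻¹ * σ c ∈ V ∧ c⁻¹ * τ c ∈ V := by
    obtain ⟨y, hy⟩ := hσ1
    have h2 := semi_disp_fixed hsq hσ2 y
    generalize y⁻¹ * σ y = u at hy h2
    by_cases h3 : u⁻¹ * τ u ∈ V
    · exact ⟨u, hy, h2, h3⟩
    refine ⟨_, h3, ?_, semi_disp_fixed hsq hτ2 u⟩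
    have h4 : (τ u)⁻¹ * τ (σ u) ∈ V := by rw [← map_inv, ← map_mul, hτ _ h2]; exact h2
    rw [← QuotientGroup.eq] at h2 h4 ⊢
    rw [map_mul, map_inv]
    simp only [QuotientGroup.mk_mul, QuotientGroup.mk_inv]
    rw [QuotientGroup.eq.2 (hστ u), ← h4, ← h2]
  obtain ⟨s1, xs, s2, -⟩ := semi_fixed hc hsq h1 hcard hcen hσ hσ2 c1 c2 hσ1
  obtain ⟨t1, xt, t2, -⟩ := semi_fixed hc hsq h1 hcard hcen hτ hτ2 c1 c3 hτ1
  have key : ∀ {ρ : MulAut Γ}, (∀ v ∈ V, ρ v = v) → ∀ {z : Γ}, c⁻¹ * (z⁻¹ * ρ z) ∈ V →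
      ∀ y, y⁻¹ * ρ y ∈ V → y * c = c * y := fun {ρ} hρ {z} hz y hy => by
    have h2 := (semi_disp hc hsq hρ z).2 y hy
    have h3 := mem_center_iff.1 (hc hz) y
    generalize z⁻¹ * ρ z = u at h2 h3
    rw [← mul_assoc y, mul_assoc _ _ y, ← h2, ← mul_assoc] at h3
    exact (Commute.inv_right_iff.1 (show Commute y c⁻¹ from mul_right_cancel h3)).eq
  by_cases hx : x⁻¹ * σ x ∈ V
  · have := t1 x (key hσ s2 x hx)
    rw [← QuotientGroup.eq] at hx this ⊢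
    rw [← hx, this]
  · have h2 := t1 _ (key hσ s2 _ (semi_disp_fixed hsq hσ2 x))
    obtain ⟨u1, y, u2, u3⟩ := semi_fixed hc hsq h1 hcard hcen hτ hτ2 hx h2 hτ1
    have h3 := (semi_disp hc hsq hσ x).1
    have h4 : (y⁻¹ * x)⁻¹ * τ (y⁻¹ * x) ∈ V := u1 _ (by
      have h5 := mul_left_cancel (h3.trans u3.symm)
      have h6 := Coprime.commutatorElement_mul_right_of_central hcc (x⁻¹ * σ x) y (y⁻¹ * x)
      rw [mul_inv_cancel_left, h5, left_eq_mul] at h6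
      exact (commutatorElement_eq_one_iff_mul_comm.1 h6).symm)
    rw [← QuotientGroup.eq] at u2 h4 ⊢
    simp only [map_mul, map_inv, QuotientGroup.mk_mul, QuotientGroup.mk_inv,
      semi_quot_inv hsq] at u2 h4
    have h7 := semi_quot_inv hsq
    calc ((σ x : Γ) : Γ ⧸ V) = (x : Γ ⧸ V)⁻¹ * ((x : Γ ⧸ V) * (σ x : Γ)) := by group
      _ = ((y : Γ ⧸ V) * x)⁻¹ * ((τ y : Γ) : Γ ⧸ V)⁻¹ := by
        rw [u2, h7, h7, h7, ← mul_assoc, semi_quot_comm hsq (x : Γ ⧸ V)]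
      _ = _ := by rw [h4, semi_quot_comm hsq ((τ y : Γ) : Γ ⧸ V), h7 (_ * _)]; simp

end Cfsg.Agent.Core
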