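import Mathlib
import Cfsg.Agent.Lib.Core.SemiExtra
import Cfsg.Agent.Lib.Coprime.AxB
import Cfsg.Agent.Lib.PGrp.Frattini

/-!
# Solvable groups with one class of involutions have 2-length at most one
-/

set_option autoImplicit false

namespace Cfsg.Agent.Core

open Subgroup
open scoped commutatorElement

variable {G : Type*} [Group G] [Finite G]

/-- The elements acting trivially on `P V / V`. -/
def centMod (P V : Subgroup G) [V.Normal] : Subgroup G :=
  (centralizer (P.map (QuotientGroup.mk' V) : Set (G ⧸ V))).comap (QuotientGroup.mk' V)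

omit [Finite G] in
theorem mem_centMod {P V : Subgroup G} [V.Normal] {g : G} :
    g ∈ centMod P V ↔ ∀ x ∈ P, x⁻¹ * (g * x * g⁻¹) ∈ V := by
  simp only [centMod, mem_comap, mem_centralizer_iff, SetLike.mem_coe, mem_map,
    forall_exists_index, and_imp, forall_apply_eq_imp_iff₂, ← QuotientGroup.eq,
    QuotientGroup.mk'_apply, QuotientGroup.mk_mul, QuotientGroup.mk_inv, eq_mul_inv_iff_mul_eq]

omit [Finite G] in
theorem le_normalizer_centMod {B P V : Subgroup G} [V.Normal] (h : B ≤ normalizer (P : Set G)) :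
    B ≤ normalizer (centMod P V : Set G) :=
  le_trans (map_le_iff_le_comap.1 (le_normalizer_centralizer
    ((map_mono h).trans (le_normalizer_map _)))) (le_normalizer_comap _)

omit [Finite G] in
theorem exists_central_mod [Finite G] {p : ℕ} [hp : Fact p.Prime] {T C : Subgroup G}
    (hT : IsPGroup p T) (hn : T ≤ normalizer (C : Set G)) (h : ¬ T ≤ C) :
    ∃ z ∈ T, z ∉ C ∧ z ^ p ∈ C ∧ ∀ t ∈ T, ⁅z, t⁆ ∈ C := by
  have := Subgroup.normal_subgroupOf_of_le_normalizer hn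
  have hnt : Nontrivial (T ⧸ C.subgroupOf T) :=
    QuotientGroup.nontrivial_iff.2 (by rwa [Ne, subgroupOf_eq_top])
  have hQ := hT.to_quotient (C.subgroupOf T)
  have h1 := (nontrivial_iff_ne_bot _).1 hQ.center_nontrivial
  obtain ⟨n, hn⟩ := IsPGroup.iff_card.1 (hQ.to_subgroup (center _))
  obtain ⟨z, hz, ho⟩ := exists_mem_orderOf_eq_of_dvd_card (H := center (T ⧸ C.subgroupOf T))
    (p := p) (by
      rcases n with _ | n
      · exact absurd (card_eq_one.1 (by simpa using hn)) h1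
      · rw [hn]; exact dvd_pow_self p n.succ_ne_zero)
  obtain ⟨z, rfl⟩ := QuotientGroup.mk_surjective z
  refine ⟨z, z.2, fun hh => ?_, ?_, fun t ht => ?_⟩
  · rw [(QuotientGroup.eq_one_iff z).2 hh, orderOf_one] at ho
    exact hp.out.one_lt.ne ho
  · exact (QuotientGroup.eq_one_iff (N := C.subgroupOf T) (z ^ p)).1
      (by rw [QuotientGroup.mk_pow, ← ho, pow_orderOf_eq_one])
  · exact (QuotientGroup.eq_one_iff (N := C.subgroupOf T) ⁅z, ⟨t, ht⟩⁆).1
      (commutatorElement_eq_one_iff_mul_comm.2 (mem_center_iff.1 hz (⟨t, ht⟩ : T)).symm)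

theorem iso_step {V B A P : Subgroup G} [V.Normal] (hV : ∀ x, x ^ 2 = 1 ↔ x ∈ V)
    (hP : IsPGroup 2 P) (hBP : B ≤ normalizer (P : Set G)) (hAB : A ≤ B)
    (hAn : B ≤ normalizer (A : Set G)) (hAp : (Nat.card A).Coprime 2) (hnt : ⁅P, A⁆ ≠ ⊥)
    (hmin : ∀ U : Subgroup G, U < P → B ≤ normalizer (U : Set G) → ⁅U, A⁆ = ⊥)
    (hPV : P ≤ centralizer (V : Set G)) (hAV : A ≤ centralizer (V : Set G))
    (htr : ∀ v ∈ V, ∀ w ∈ V, v ≠ 1 → w ≠ 1 → ∃ b ∈ B, b * v * b⁻¹ = w) :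
    ¬ A ≤ centMod P V ∧ ∀ s ∈ B, ∀ t ∈ B, s ∈ centralizer (V : Set G) →
      t ∈ centralizer (V : Set G) → s ∉ centMod P V → t ∉ centMod P V → s ^ 2 ∈ centMod P V →
      t ^ 2 ∈ centMod P V → ⁅t, s⁆ ∈ centMod P V → t * s⁻¹ ∈ centMod P V := by
  have e1 := Coprime.minimal_commutator_eq hP hBP hAB hAn hAp hnt hmin
  have e2 := Coprime.minimal_frattini_eq hP hBP hAB hAn hAp hnt hmin
  have e3 := Coprime.minimal_class_two hP hBP hAB hAn hAp hnt hmin
  have e4 := ((PGrp.map_frattini_subtype_le_iff hP).1 e2.le).2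
  have hcc : ∀ x y z : P, Commute ⁅x, y⁆ z := fun x y z =>
    Subtype.ext (e3 (commutator_mem_commutator x.2 y.2) z z.2).symm
  have e5 : ⁅P, P⁆ ≤ V := commutator_le.2 fun x hx y hy => (hV _).1 (by
    have := Coprime.commutatorElement_mul_left_of_central hcc ⟨x, hx⟩ ⟨x, hx⟩ ⟨y, hy⟩
    have h2 : ⁅x * x, y⁆ = ⁅x, y⁆ * ⁅x, y⁆ := congrArg Subtype.val this
    rw [sq, ← h2, ← sq, commutatorElement_eq_one_iff_mul_comm]
    exact (e3 (e4 x hx) y hy).symm)
  have hAC : ¬ A ≤ centMod P V := fun h => hnt (by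
    have : P ≤ V := e1 ▸ commutator_le.2 fun x hx a ha => by
      simpa [commutatorElement_def, mul_assoc] using mem_centMod.1 (h ha) x⁻¹ (P.inv_mem hx)
    exact commutator_eq_bot_iff_le_centralizer.2 (this.trans (le_centralizer_iff.1 hAV)))
  refine ⟨hAC, fun s hs t ht hsV htV hsC htC hs2 ht2 hst => ?_⟩
  have hVP : V ≤ P := by
    obtain ⟨n, hn⟩ := IsPGroup.iff_card.1 hP
    obtain ⟨z, hz, ho⟩ := exists_mem_orderOf_eq_of_dvd_card (H := P) (p := 2) (by
      rcases n with _ | n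
      · exact absurd (by rw [card_eq_one.1 (show Nat.card P = 1 by simpa using hn), commutator_bot_left]) hnt
      · rw [hn]; exact dvd_pow_self 2 n.succ_ne_zero)
    intro v hv
    by_cases h1 : v = 1
    · exact h1 ▸ P.one_mem
    obtain ⟨b, hb, rfl⟩ := htr z ((hV z).1 (ho ▸ pow_orderOf_eq_one z)) v hv
      (fun e => by simp [e] at ho) h1
    exact (mem_normalizer_iff.1 (hBP hb) z).1 hz
  have hc : V.subgroupOf P ≤ center P := fun v hv =>
    mem_center_iff.2 fun x => Subtype.ext (hPV x.2 v hv).symm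
  have hsq : ∀ x : P, x ^ 2 ∈ V.subgroupOf P := fun x => e5 (e4 x x.2)
  have h1 : ∀ x : P, x ^ 2 = 1 ↔ x ∈ V.subgroupOf P := fun x => by
    rw [mem_subgroupOf, ← hV, Subtype.ext_iff]; rfl
  let φ : B →* MulAut P := P.normalizerMonoidHom.comp (inclusion hBP)
  have hφ : ∀ (b : B) (x : P), (φ b x : G) = b * x * (b : G)⁻¹ := fun _ _ => rfl
  obtain ⟨hcard, hcen⟩ := semi_card_centralizer hc hsq h1 (fun v hv w hw v1 w1 => by
    obtain ⟨b, hb, h⟩ := htr v hv w hw (fun e => v1 (Subtype.ext e)) (fun e => w1 (Subtype.ext e))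
    have h : φ ⟨b, hb⟩ v = w := Subtype.ext h
    exact Nat.card_congr ((φ ⟨b, hb⟩).toEquiv.subtypeEquiv fun x => by
      rw [← h]
      change _ ↔ (φ ⟨b, hb⟩ x) ^ 2 = _
      rw [← map_pow, (φ ⟨b, hb⟩).injective.eq_iff])) (by
    obtain ⟨a, ha, h⟩ := SetLike.not_le_iff_exists.1 hAC
    rw [mem_centMod] at h
    push Not at h
    obtain ⟨x, hx, h⟩ := h
    refine ⟨⟨x, hx⟩, φ ⟨a, hAB ha⟩ ⟨x, hx⟩, ?_, h⟩
    rw [← map_pow]
    refine Subtype.ext ?_
    rw [hφ, eq_mul_inv_iff_mul_eq]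
    exact hAV ha _ (hsq ⟨x, hx⟩))
  have k1 : ∀ s (hs : s ∈ B), s ∈ centralizer (V : Set G) → ∀ v ∈ V.subgroupOf P, φ ⟨s, hs⟩ v = v :=
    fun s hs h v hv => Subtype.ext (by rw [hφ, mul_inv_eq_iff_eq_mul]; exact (h _ hv).symm)
  have k2 : ∀ s (hs : s ∈ B), s ^ 2 ∈ centMod P V →
      ∀ x, x⁻¹ * φ ⟨s, hs⟩ (φ ⟨s, hs⟩ x) ∈ V.subgroupOf P := fun s hs h x => by
    have := mem_centMod.1 h x x.2
    rw [mem_subgroupOf, coe_mul, hφ, hφ]
    simpa [sq, mul_assoc] using this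
  have k3 : ∀ s (hs : s ∈ B), s ∉ centMod P V → ∃ x, x⁻¹ * φ ⟨s, hs⟩ x ∉ V.subgroupOf P :=
    fun s hs h => by
      rw [mem_centMod] at h
      push Not at h
      obtain ⟨x, hx, h⟩ := h
      exact ⟨⟨x, hx⟩, h⟩
  have key := semi_isometry_eq hc hsq h1 hcard hcen (k1 s hs hsV) (k2 s hs hs2) (k3 s hs hsC)
    (k1 t ht htV) (k2 t ht ht2) (k3 t ht htC) fun x => by
      have := mem_centMod.1 hst _ (φ ⟨s, hs⟩ (φ ⟨t, ht⟩ x)).2
      rw [mem_subgroupOf, coe_mul, coe_inv, hφ ⟨t, ht⟩, hφ ⟨s, hs⟩ x]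
      rw [hφ, hφ] at this ⊢
      simpa [commutatorElement_def, mul_assoc] using this
  refine mem_centMod.2 fun y hy => ?_
  have := key (φ (⟨s, hs⟩ : B)⁻¹ ⟨y, hy⟩)
  rw [mem_subgroupOf, coe_mul, coe_inv, hφ ⟨s, hs⟩, hφ ⟨t, ht⟩, hφ] at this
  simpa [mul_assoc] using this

theorem exists_omega_of_isConj (hG : IsPSolvable 2 G) (h0 : pPrimeCore 2 G = ⊥) [Nontrivial G]
    (hconj : ∀ x y : G, x ≠ 1 → x ^ 2 = 1 → y ≠ 1 → y ^ 2 = 1 → IsConj x y) :
    ∃ V : Subgroup G, V.Normal ∧ (∀ x, x ^ 2 = 1 ↔ x ∈ V) ∧ V ≤ pCore 2 G ∧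
      pCore 2 G ≤ centralizer (V : Set G) := by
  have hC := Coprime.centralizer_pCore_le hG h0
  have hQ := (Coprime.pCore_ne_bot_or hG).resolve_right (not_not.2 h0)
  have h1 := PGrp.inf_centralizer_ne_bot (isPGroup_pCore (G := G) 2) (isPGroup_pCore 2)
    le_normalizer hQ
  rw [inf_eq_right.2 hC] at h1
  obtain ⟨n, hn⟩ := IsPGroup.iff_card.1 ((isPGroup_pCore (G := G) 2).to_le hC)
  obtain ⟨z, hz, ho⟩ := exists_mem_orderOf_eq_of_dvd_card (H := centralizer (pCore 2 G : Set G))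
    (p := 2) (by
      rcases n with _ | n
      · exact absurd (card_eq_one.1 (by simpa using hn)) h1
      · rw [hn]; exact dvd_pow_self 2 n.succ_ne_zero)
  have h2 : ∀ x : G, x ^ 2 = 1 → x ∈ centralizer (pCore 2 G : Set G) := fun x hx => by
    by_cases h : x = 1
    · exact h ▸ one_mem _
    obtain ⟨c, rfl⟩ := isConj_iff.1 (hconj z x (fun e => by simp [e] at ho)
      (ho ▸ pow_orderOf_eq_one z) h hx)
    exact Normal.conj_mem inferInstance z hz c
  refine ⟨{ carrier := {x | x ^ 2 = 1}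
            mul_mem' := fun {a b} ha hb => ?_
            one_mem' := one_pow 2
            inv_mem' := fun {a} ha => ?_ }, ⟨fun x hx g => ?_⟩, fun x => Iff.rfl,
    fun x hx => hC (h2 x hx), le_centralizer_iff.1 fun x hx => h2 x hx⟩
  · have : Commute a b := h2 b hb a (hC (h2 a ha))
    change (a * b) ^ 2 = 1
    rw [this.mul_pow, ha, hb, one_mul]
  · change a⁻¹ ^ 2 = 1
    rw [inv_pow, ha, inv_one]
  · change (g * x * g⁻¹) ^ 2 = 1
    rw [conj_pow, hx]; simp

theorem coprime_index_pCore_of_isConj (hG : IsPSolvable 2 G) (h0 : pPrimeCore 2 G = ⊥) {a b : G}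
    (hab : a ≠ b) (ha : a ≠ 1) (ha2 : a ^ 2 = 1) (hb : b ≠ 1) (hb2 : b ^ 2 = 1)
    (hconj : ∀ x y : G, x ≠ 1 → x ^ 2 = 1 → y ≠ 1 → y ^ 2 = 1 → IsConj x y) :
    (pCore 2 G).index.Coprime 2 := by
  have : Nontrivial G := ⟨a, b, hab⟩
  obtain ⟨V, hVn, hV, hVQ, hQD⟩ := exists_omega_of_isConj hG h0 hconj
  have hC := Coprime.centralizer_pCore_le hG h0
  have hQ := isPGroup_pCore (G := G) 2
  have hV2 := hQ.to_le hVQ
  have hV1 : V ≠ ⊥ := fun e => ha (mem_bot.1 (e ▸ (hV a).1 ha2))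
  obtain ⟨D, hD⟩ : ∃ D, D = centralizer (V : Set G) := ⟨_, rfl⟩
  have hDn : D.Normal := hD ▸ inferInstance
  have hdich : ∀ N : Subgroup G, N.Normal → V ⊓ centralizer (N : Set G) = ⊥ ∨ N ≤ D := by
    intro N hN
    by_contra! h
    obtain ⟨⟨z, hz⟩, hz1⟩ := @exists_ne _ ((nontrivial_iff_ne_bot _).2 h.1) 1
    refine h.2 (hD ▸ le_centralizer_iff.1 fun v hv => ?_)
    by_cases h1 : v = 1
    · exact h1 ▸ one_mem _
    obtain ⟨c, rfl⟩ := isConj_iff.1 (hconj z v (fun e => hz1 (Subtype.ext e)) ((hV z).2 hz.1) h1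
      ((hV v).2 hv))
    exact Normal.conj_mem inferInstance z hz.2 c
  have hbot : ∀ (N : Subgroup G) [N.Normal] (K : Subgroup (G ⧸ N)),
      K.comap (QuotientGroup.mk' N) ≤ N → K = ⊥ := fun N _ K h => by
    rw [eq_bot_iff]
    intro y hy
    obtain ⟨y, rfl⟩ := QuotientGroup.mk_surjective y
    exact (QuotientGroup.eq_one_iff y).2 (h hy)
  have hle : ∀ (N : Subgroup G) [N.Normal] (K : Subgroup (G ⧸ N)),
      N ≤ K.comap (QuotientGroup.mk' N) := fun N _ K x hx => by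
    rw [mem_comap, QuotientGroup.mk'_apply, (QuotientGroup.eq_one_iff x).2 hx]
    exact one_mem _
  -- Step 1: `G / D` has odd order
  have hD2 : D.index.Coprime 2 := by
    rcases hdich ((pPrimeCore 2 (G ⧸ D)).comap (QuotientGroup.mk' D)) inferInstance with h | h
    · exact coprime_index_of_inf_centralizer_eq_bot hG hV2 (fun x => (hV x).1) (hle D _)
        (relIndex_comap_pPrimeCore D) hD.le h
    rcases subsingleton_or_nontrivial (G ⧸ D) with hs | hs
    · rw [index, Nat.card_of_subsingleton (1 : G ⧸ D)]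
      exact Nat.coprime_one_left 2
    exfalso
    refine (Coprime.pCore_ne_bot_or (Coprime.isPSolvable_quotient hG D)).resolve_right
      (not_not.2 (hbot D _ h)) (hbot D _ ((hdich _ inferInstance).resolve_left fun h1 => ?_))
    obtain ⟨T⟩ : Nonempty (Sylow 2 G) := inferInstance
    refine PGrp.inf_centralizer_ne_bot T.isPGroup' hV2 le_normalizer_of_normal hV1 ?_
    rw [eq_bot_iff, ← h1]
    refine le_inf inf_le_left (le_trans ?_ (centralizer_le (SetLike.coe_subset_coe.2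
      ((comap_mono (pCore_le_sylow (T.mapSurjective (QuotientGroup.mk'_surjective D)))).trans
        (comap_map_eq _ _).le))))
    rw [centralizer_sup_eq, QuotientGroup.ker_mk']
    exact le_inf inf_le_right (inf_le_left.trans (le_centralizer_iff.1 hD.le))
  -- Step 2
  obtain ⟨K, hK⟩ : ∃ K, K = (pPrimeCore 2 (G ⧸ pCore 2 G)).comap (QuotientGroup.mk' _) := ⟨_, rfl⟩
  have hKn : K.Normal := hK ▸ inferInstance
  have hQK : pCore 2 G ≤ K := hK ▸ hle _ _
  have hrel : ((pCore 2 G).relIndex K).Coprime 2 := hK ▸ relIndex_comap_pPrimeCore _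
  rcases hdich K hKn with h | hKD
  · exact coprime_index_of_inf_centralizer_eq_bot hG hV2 (fun x => (hV x).1) hQK hrel hQD h
  obtain ⟨R, hR⟩ := exists_pComplOf hG K
  have r1 := sup_eq_of_pComplOf hQK hrel hR
  have r2 := sup_normalizer_eq_top_of_pComplOf hG hR
  have r3 := coprime_of_pComplOf hR
  have hRK : R ≤ K := r1 ▸ le_sup_right
  obtain ⟨N, hN⟩ : ∃ N, N = normalizer (R : Set G) := ⟨_, rfl⟩
  rw [← hN] at r2
  obtain ⟨T, hT⟩ := Coprime.exists_isSylowIn 2 (N ⊓ D)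
  have t1 := hT.frattini_argument (G := N) inf_le_left
    (le_normalizer_inf le_normalizer le_normalizer_of_normal)
  obtain ⟨H, hH⟩ := exists_pComplOf hG (N ⊓ normalizer (T : Set G))
  have h1 : D ⊔ H = ⊤ := by
    have := sup_eq_of_pComplOf (D := D ⊓ (N ⊓ normalizer (T : Set G))) inf_le_right (by
      rw [inf_relIndex_right]
      exact hD2.coprime_dvd_left (relIndex_dvd_index_of_normal _ _)) hH
    rw [eq_top_iff, ← r2, ← t1, ← this]
    exact sup_le (hKD.trans le_sup_left) (sup_le (inf_le_right.trans le_sup_left)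
      (sup_le_sup_right inf_le_left _))
  have hHN := (Coprime.isPiHallOf_iff.1 hH).1
  have htr : ∀ v ∈ V, ∀ w ∈ V, v ≠ 1 → w ≠ 1 → ∃ b ∈ H, b * v * b⁻¹ = w := by
    intro v hv w hw v1 w1
    obtain ⟨c, rfl⟩ := isConj_iff.1 (hconj v w v1 ((hV v).2 hv) w1 ((hV w).2 hw))
    obtain ⟨h, hh, d, hd, rfl⟩ := mem_sup_of_normal_right.1
      (show c ∈ H ⊔ D by rw [sup_comm, h1]; exact mem_top c)
    refine ⟨h, hh, ?_⟩
    rw [mul_assoc h d, ← (hD ▸ hd : d ∈ centralizer (V : Set G)) v hv]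
    group
  by_cases hRT : ⁅R, T⁆ = ⊥
  · have h2 : T ≤ K := by
      rw [hK, ← map_le_iff_le_comap]
      refine le_trans ?_ (Coprime.centralizer_pPrimeCore_le (Coprime.isPSolvable_quotient hG _)
        pCore_quotient_pCore)
      rw [← map_comap_eq_self_of_surjective (QuotientGroup.mk'_surjective _) (pPrimeCore 2 _), ← hK,
        ← r1, Subgroup.map_sup, (Subgroup.map_eq_bot_iff _).2 (QuotientGroup.ker_mk' _).ge, bot_sup_eq,
        ← commutator_eq_bot_iff_le_centralizer, ← map_commutator, commutator_comm, hRT,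
        Subgroup.map_bot]
    have h3 : K ⊔ N ⊓ D = D := by
      refine le_antisymm (sup_le hKD inf_le_right) fun d hd => ?_
      obtain ⟨k, hk, n, hn, rfl⟩ := mem_sup_of_normal_left.1 (show d ∈ K ⊔ N from r2 ▸ mem_top d)
      exact mul_mem (mem_sup_left hk) (mem_sup_right
        (mem_inf.2 ⟨hn, (D.mul_mem_cancel_left (hKD hk)).1 hd⟩))
    have h4 : (K.relIndex D).Coprime 2 := by
      rw [← h3, relIndex_sup_left, Nat.coprime_comm, Nat.prime_two.coprime_iff_not_dvd]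
      exact fun h => hT.2.2 (h.trans (relIndex_dvd_of_le_left _ h2))
    rw [← relIndex_mul_index hQK, ← relIndex_mul_index hKD]
    exact Nat.Coprime.mul_left hrel (Nat.Coprime.mul_left h4 hD2)
  exfalso
  have hTN : T ≤ normalizer (R : Set G) := hN ▸ hT.1.trans inf_le_left
  have hA : ⁅R, T⁆ ≤ R := Coprime.commutator_le_of_le_normalizer hTN
  obtain ⟨B, hB⟩ : ∃ B, B = normalizer ((⁅R, T⁆ : Subgroup G) : Set G) := ⟨_, rfl⟩
  have hNB : N ⊓ normalizer (T : Set G) ≤ B :=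
    hB ▸ le_normalizer_commutator (hN ▸ inf_le_left) inf_le_right
  have hTB : T ≤ B := (le_inf (hN ▸ hTN) le_normalizer).trans hNB
  have hRB : R ≤ B := hB ▸ normalizer_commutator_ge_left R T
  have hA2 : (Nat.card (⁅R, T⁆ : Subgroup G)).Coprime 2 := r3.coprime_dvd_left (card_dvd_of_le hA)
  obtain ⟨P, hPQ, ⟨p1, p2⟩, p3⟩ := exists_minimal_le
    (P := fun P => B ≤ normalizer (P : Set G) ∧ ⁅P, ⁅R, T⁆⁆ ≠ ⊥) (H := pCore 2 G)
    ⟨le_normalizer_of_normal, fun h => hRT (by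
      rw [eq_bot_iff, ← inf_eq_bot_of_isPGroup_of_coprime hQ hA2]
      exact le_inf ((le_centralizer_iff.1 (commutator_eq_bot_iff_le_centralizer.1 h)).trans hC)
        le_rfl)⟩
  obtain ⟨i1, i2⟩ := iso_step hV (hQ.to_le hPQ) p1 (hA.trans hRB) hB.le hA2 p2
    (fun U hU hU' => by_contra fun h => hU.ne (p3 U ⟨hU', h⟩ hU.le)) (hPQ.trans hQD)
    (hD ▸ hA.trans (hRK.trans hKD))
    fun v hv w hw v1 w1 => (htr v hv w hw v1 w1).imp fun b hb => ⟨hNB (hHN hb.1), hb.2⟩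
  have hBC := le_normalizer_centMod (V := V) p1
  obtain ⟨z, z1, z2, z3, z4⟩ := exists_central_mod hT.2.1 (hTB.trans hBC) fun h =>
    i1 ((commutator_mono le_rfl h).trans (by
      rw [commutator_comm]; exact Coprime.commutator_le_of_le_normalizer (hRB.trans hBC)))
  have hTD : T ≤ centralizer (V : Set G) := hD ▸ hT.1.trans inf_le_right
  have hHT : H ≤ normalizer (T : Set G) := hHN.trans inf_le_right
  have hHC := (hHN.trans hNB).trans hBC
  have hTC := hT.2.1.to_le (inf_le_left (a := T) (b := centMod P V))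
  obtain ⟨n, hn, hzn⟩ := Coprime.exists_mul_mem_centralizer (A := H) (N := T ⊓ centMod P V)
    (le_normalizer_inf hHT hHC) (Coprime.coprime_card_of_isPGroup (coprime_of_pComplOf hH) hTC)
    (Or.inr (by have := hTC.isNilpotent; infer_instance)) (g := z⁻¹) fun h hh => by
      have a1 := (mem_normalizer_iff.1 (hHT hh) z).1 z1
      have : z⁻¹⁻¹ * (h * z⁻¹ * h⁻¹) = z * (h * z * h⁻¹)⁻¹ := by group
      rw [this]
      exact mem_inf.2 ⟨T.mul_mem z1 (T.inv_mem a1), i2 _ (hTB a1) _ (hTB z1) (hTD a1) (hTD z1)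
        (fun e => z2 ((mem_normalizer_iff.1 (hHC hh) z).2 e)) z2
        (by rw [conj_pow]; exact (mem_normalizer_iff.1 (hHC hh) _).1 z3) z3 (z4 _ a1)⟩
  have h5 : T ⊓ centralizer (H : Set G) ≠ ⊥ := fun e => by
    have : z⁻¹ * n ∈ T ⊓ centralizer (H : Set G) := mem_inf.2 ⟨T.mul_mem (T.inv_mem z1) hn.1, hzn⟩
    rw [e, mem_bot, inv_mul_eq_one] at this
    exact z2 (this ▸ hn.2)
  obtain ⟨m, hm⟩ := IsPGroup.iff_card.1
    (hT.2.1.to_le (inf_le_left (a := T) (b := centralizer (H : Set G))))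
  obtain ⟨v, hv, ho⟩ := exists_mem_orderOf_eq_of_dvd_card (H := T ⊓ centralizer (H : Set G))
    (p := 2) (by
      rcases m with _ | m
      · exact absurd (card_eq_one.1 (by simpa using hm)) h5
      · rw [hm]; exact dvd_pow_self 2 m.succ_ne_zero)
  have h6 : ∀ w : G, w ≠ 1 → w ^ 2 = 1 → w = v := fun w w1 w2 => by
    obtain ⟨h, hh, rfl⟩ := htr v ((hV v).1 (ho ▸ pow_orderOf_eq_one v)) w ((hV w).1 w2)
      (fun e => by simp [e] at ho) w1
    rw [hv.2 h hh, mul_inv_cancel_right]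
  exact hab ((h6 a ha ha2).trans (h6 b hb hb2).symm)

end Cfsg.Agent.Core
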