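import Mathlib
import Cfsg.Agent.Lib.Core.Flavell
import Cfsg.Agent.Lib.Core.Fitting
import Cfsg.Agent.Lib.Cls.Basic
import Cfsg.Agent.Lib.Coprime.IndexBound
import Cfsg.Agent.Lib.Core.InvConj

/-!
# Elements of odd order inverted by an involution bound the order of the group
-/

set_option autoImplicit false

namespace Cfsg.Agent.Core.InvOdd

open Subgroup Cls

universe u

variable {Γ : Type*} [Group Γ] {Γ' : Type*} [Group Γ']

/-- the elements of odd order inverted by `a` -/
def J (a : Γ) : Set Γ := {g | Odd (orderOf g) ∧ a * g * a⁻¹ = g⁻¹}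

theorem conj_zpow_inv {a g : Γ} (h : a * g * a⁻¹ = g⁻¹) {u : Γ} (hu : u ∈ zpowers g) :
    a * u * a⁻¹ = u⁻¹ := by
  obtain ⟨i, rfl⟩ := hu
  change a * g ^ i * a⁻¹ = (g ^ i)⁻¹
  rw [← conj_zpow, h, inv_zpow]

theorem mem_J_of_zpowers {a g u : Γ} (h : g ∈ J a) (hu : u ∈ zpowers g) : u ∈ J a :=
  ⟨h.1.of_dvd_nat (orderOf_dvd_of_mem_zpowers hu), conj_zpow_inv h.2 hu⟩

theorem exists_sqrt {g : Γ} (h : Odd (orderOf g)) : ∃ y ∈ zpowers g, y * y = g := by
  obtain ⟨k, hk⟩ := h
  refine ⟨g ^ (k + 1), npow_mem_zpowers g _, ?_⟩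
  rw [← pow_add, show k + 1 + (k + 1) = orderOf g + 1 by omega, pow_succ, pow_orderOf_eq_one,
    one_mul]

theorem map_mem_J (f : Γ →* Γ') {a g : Γ} (h : g ∈ J a) : f g ∈ J (f a) :=
  ⟨h.1.of_dvd_nat (orderOf_map_dvd f g), by rw [← map_inv, ← map_mul, ← map_mul, h.2, map_inv]⟩

theorem comm_inv {a : Γ} (ha : a * a = 1) (y : Γ) :
    a * (y * a * y⁻¹ * a⁻¹) * a⁻¹ = (y * a * y⁻¹ * a⁻¹)⁻¹ := by
  have : a⁻¹ = a := inv_eq_of_mul_eq_one_right ha
  simp only [mul_inv_rev, inv_inv, this, mul_assoc, ha, mul_one]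

theorem lift [Finite Γ] {f : Γ →* Γ'} (hf : Function.Surjective f) {a : Γ} (ha : a * a = 1)
    {u : Γ'} (hu : u ∈ J (f a)) : ∃ x ∈ J a, f x = u := by
  obtain ⟨y, hy, e⟩ := exists_sqrt hu.1
  obtain ⟨y, rfl⟩ := hf y
  have h1 : f (y * a * y⁻¹ * a⁻¹) = u := by
    have := conj_zpow_inv hu.2 (inv_mem hy)
    rw [map_mul, map_mul, map_mul, map_inv, map_inv, mul_assoc, mul_assoc, ← mul_assoc (f a), this,
      inv_inv, e]
  obtain ⟨x, hx, h2, h3⟩ := exists_coprime_lift (n := 2) f (y * a * y⁻¹ * a⁻¹)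
    (by rw [h1]; exact (Nat.coprime_two_right).2 hu.1)
  exact ⟨x, ⟨Nat.coprime_two_right.1 h3, conj_zpow_inv (comm_inv ha y) hx⟩, h2.trans h1⟩

theorem ncard_J_map [Finite Γ] {f : Γ →* Γ'} (hf : Function.Surjective f) {a : Γ}
    (ha : a * a = 1) : (J (f a)).ncard ≤ (J a).ncard :=
  le_trans (Set.ncard_le_ncard (t := f '' J a) (fun _ hu => lift hf ha hu)
    ((Set.toFinite _).image _)) (Set.ncard_image_le (Set.toFinite _))

theorem gen_map {f : Γ →* Γ'} (hf : Function.Surjective f) {a : Γ}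
    (h : closure (insert a (J a)) = ⊤) : closure (insert (f a) (J (f a))) = ⊤ := by
  rw [eq_top_iff, ← map_top_of_surjective f hf, ← h, MonoidHom.map_closure]
  refine closure_mono ?_
  rintro _ ⟨x, rfl | hx, rfl⟩
  · exact Set.mem_insert _ _
  · exact Set.mem_insert_of_mem _ (map_mem_J f hx)

theorem card_cent_le [Finite Γ] {a : Γ} (h : closure (insert a (J a)) = ⊤) (hZ : center Γ = ⊥)
    {m : ℕ} (hm : (J a).ncard ≤ m) : Nat.card (centralizer ({a} : Set Γ)) ≤ m ^ m := by
  have hJ : ∀ c : centralizer ({a} : Set Γ), ∀ x ∈ J a, c.1 * x * c.1⁻¹ ∈ J a := fun c x hx => by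
    have hc := mem_centralizer_single.1 c.2
    refine ⟨by rw [← MulAut.conj_apply, MulEquiv.orderOf_eq]; exact hx.1, ?_⟩
    rw [conj_inv, ← hx.2, ← mul_assoc, ← mul_assoc, ← hc, mul_assoc _ _ a⁻¹, ← mul_inv_rev, ← hc]
    group
  have h1 := Nat.card_le_card_of_injective
    (fun c : centralizer ({a} : Set Γ) => fun x : J a => (⟨_, hJ c x x.2⟩ : J a)) (fun c d e => by
      have h2 : (⊤ : Subgroup Γ) ≤ centralizer ({d.1⁻¹ * c.1} : Set Γ) := by
        rw [← h, closure_le]
        rintro x (rfl | hx)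
        · exact mem_centralizer_single.2 (mem_centralizer_single.1 (d⁻¹ * c).2).symm
        · have := congrArg Subtype.val (congrFun e ⟨x, hx⟩)
          change c.1 * x * c.1⁻¹ = d.1 * x * d.1⁻¹ at this
          refine mem_centralizer_single.2 ?_
          calc x * (d.1⁻¹ * c.1) = d.1⁻¹ * (d.1 * x * d.1⁻¹) * c.1 := by group
            _ = d.1⁻¹ * c.1 * x := by rw [← this]; group
      have h3 := centralizer_single_eq_top_iff.1 (top_le_iff.1 h2)
      rw [hZ, mem_bot, inv_mul_eq_one] at h3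
      exact Subtype.ext h3.symm)
  rw [Nat.card_fun, Nat.card_coe_set_eq] at h1
  have h1' : 1 ≤ (J a).ncard := (Set.ncard_pos (Set.toFinite _)).2 ⟨1, by simp [J]⟩
  exact h1.trans ((Nat.pow_le_pow_left hm _).trans (Nat.pow_le_pow_right (by omega) hm))

/-- Brauer-Fowler -/
theorem exists_small [Finite Γ] [Nontrivial Γ] {a : Γ} (ha : a * a = 1)
    (h : closure (insert a (J a)) = ⊤) {m : ℕ} (hm : (J a).ncard ≤ m) :
    ∃ y : Γ, y ≠ 1 ∧ (centralizer ({y} : Set Γ)).index ≤ 2 * (m ^ m) ^ 2 := by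
  classical
  have h0 : 1 ≤ m ^ m := by
    rcases Nat.eq_zero_or_pos m with rfl | h0
    · simp
    · exact Nat.one_le_pow _ _ h0
  by_cases hZ : center Γ = ⊥
  swap
  · obtain ⟨y, hy, y1⟩ := (bot_or_exists_ne_one _).resolve_left hZ
    refine ⟨y, y1, ?_⟩
    rw [index_centralizer_eq_one_iff.2 hy]
    nlinarith
  have hn := card_cent_le h hZ hm
  have := Fintype.ofFinite Γ
  obtain ⟨y₀, y₀1⟩ := exists_ne (1 : Γ)
  obtain ⟨y, hy, hmax⟩ := Finset.exists_max_image (Finset.univ.filter fun y : Γ => y ≠ 1)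
    (fun y => Nat.card (centralizer ({y} : Set Γ))) ⟨y₀, by simpa using y₀1⟩
  refine ⟨y, by simpa using hy, ?_⟩
  set K := (conjugatesOf a).toFinset with hK
  have hKc : K.card = (centralizer ({a} : Set Γ)).index := by
    rw [← ncard_conjugatesOf, Set.ncard_eq_toFinset_card']
  have hK2 : ∀ u ∈ K, u * u = 1 := fun u hu => by
    obtain ⟨g, rfl⟩ := isConj_iff.1 (show IsConj a u from (Set.mem_toFinset (s := conjugatesOf a)).1 hu)
    rw [conj_mul, ha]; group
  have hN : 2 ≤ K.card := by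
    by_contra hc
    have h1 : (centralizer ({a} : Set Γ)).index ≠ 0 := index_ne_zero_of_finite
    have h2 := index_centralizer_eq_one_iff.1 (show (centralizer ({a} : Set Γ)).index = 1 by omega)
    rw [hZ, mem_bot] at h2
    refine y₀1 (mem_bot.1 ?_)
    refine (show closure (insert a (J a)) ≤ ⊥ from (closure_le _).2 ?_) (h ▸ mem_top _)
    rintro x (rfl | hx)
    · exact h2
    · obtain ⟨z, hz, e⟩ := exists_sqrt hx.1
      have h3 := conj_zpow_inv hx.2 hz
      rw [h2, one_mul, inv_one, mul_one] at h3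
      exact e.symm.trans (mul_eq_one_iff_eq_inv.2 h3)
  have h1 := Finset.card_le_mul_card_image_of_maps_to (f := fun p : Γ × Γ => p.1 * p.2)
    (s := K.offDiag) (t := Finset.univ) (fun _ _ => Finset.mem_univ _)
    (Nat.card (centralizer ({y} : Set Γ))) (fun z _ => by
      rcases (K.offDiag.filter fun p => p.1 * p.2 = z).eq_empty_or_nonempty with e | ⟨p, hp⟩
      · rw [e]; exact Nat.zero_le _
      have hi : ∀ q ∈ K.offDiag.filter fun p => p.1 * p.2 = z, q.1 * z * q.1⁻¹ = z⁻¹ := by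
        intro q hq
        obtain ⟨hq, e⟩ := Finset.mem_filter.1 hq
        obtain ⟨q1, q2, -⟩ := Finset.mem_offDiag.1 hq
        rw [← e, mul_inv_rev, ← mul_assoc, hK2 _ q1, one_mul,
          inv_eq_of_mul_eq_one_right (hK2 _ q2)]
      have z1 : z ≠ 1 := fun e => by
        obtain ⟨hq, e'⟩ := Finset.mem_filter.1 hp
        obtain ⟨q1, -, q3⟩ := Finset.mem_offDiag.1 hq
        exact q3 (mul_left_cancel ((hK2 _ q1).trans (e'.trans e).symm))
      refine le_trans ?_ (hmax z (by simpa using z1))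
      rw [← Nat.card_eq_finsetCard]
      refine Nat.card_le_card_of_injective (fun q => ⟨p.1⁻¹ * q.1.1, mem_centralizer_single.2 ?_⟩)
        fun q r e => ?_
      · calc p.1⁻¹ * q.1.1 * z = p.1⁻¹ * (q.1.1 * z * q.1.1⁻¹) * q.1.1 := by group
          _ = p.1⁻¹ * (p.1 * z * p.1⁻¹) * q.1.1 := by rw [hi _ q.2, hi _ hp]
          _ = _ := by group
      · have e1 : q.1.1 = r.1.1 := mul_left_cancel (congrArg Subtype.val e)
        refine Subtype.ext (Prod.ext e1 (mul_left_cancel (a := q.1.1) ?_))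
        rw [(Finset.mem_filter.1 q.2).2, e1, (Finset.mem_filter.1 r.2).2])
  rw [Finset.offDiag_card, Finset.card_univ, ← Nat.card_eq_fintype_card,
    ← index_mul_card (centralizer ({a} : Set Γ)), hKc] at h1
  rw [hKc] at hN
  have e := (index_mul_card (centralizer ({a} : Set Γ))).trans
    (index_mul_card (centralizer ({y} : Set Γ))).symm
  have hc : 0 < Nat.card (centralizer ({y} : Set Γ)) := Nat.card_pos
  generalize (centralizer ({a} : Set Γ)).index = N at *
  generalize Nat.card (centralizer ({a} : Set Γ)) = n at *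
  generalize (centralizer ({y} : Set Γ)).index = i at *
  generalize Nat.card (centralizer ({y} : Set Γ)) = c at *
  generalize m ^ m = M at *
  obtain ⟨N, rfl⟩ : ∃ k, N = k + 1 := ⟨N - 1, by omega⟩
  have h2 : (N + 1) * N ≤ (N + 1) * (c * n) := by
    rw [Nat.mul_succ, Nat.add_sub_cancel] at h1; nlinarith
  have h3 : N ≤ c * n := Nat.le_of_mul_le_mul_left h2 (by omega)
  have h4 : i * c ≤ 2 * n ^ 2 * c := by nlinarith
  have h5 := Nat.le_of_mul_le_mul_right h4 hc
  nlinarith

/-- the intersection of the kernels of all actions on `t` points -/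
def Rk (Γ : Type*) [Group Γ] (t : ℕ) : Subgroup Γ := ⨅ ψ : Γ →* Equiv.Perm (Fin t), ψ.ker

instance (t : ℕ) : (Rk Γ t).Normal := ⟨fun _ hx g => mem_iInf.2 fun ψ =>
  ψ.normal_ker.conj_mem _ (mem_iInf.1 hx ψ) g⟩

theorem Rk_le [Finite Γ] {t : ℕ} {H : Subgroup Γ} (h : H.index ≤ t) : Rk Γ t ≤ H := by
  have := Fintype.ofFinite (Γ ⧸ H)
  obtain ⟨ι⟩ : Nonempty ((Γ ⧸ H) ↪ Fin t) := Function.Embedding.nonempty_of_card_le (by
    rw [Fintype.card_fin, ← Nat.card_eq_fintype_card]; exact h)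
  refine le_trans ?_ H.normalCore_le
  rw [normalCore_eq_ker]
  intro x hx
  exact Equiv.Perm.viaEmbeddingHom_injective ι ((mem_iInf.1 hx
    ((Equiv.Perm.viaEmbeddingHom ι).comp (MulAction.toPermHom Γ (Γ ⧸ H)))).trans (map_one _).symm)

theorem index_Rk [Finite Γ] {S : Set Γ} (h : closure S = ⊤) {d : ℕ} (hd : S.ncard ≤ d) (t : ℕ) :
    (Rk Γ t).index ≤ t.factorial ^ t.factorial ^ d := by
  have : Finite (Γ →* Equiv.Perm (Fin t)) := Finite.of_injective _ DFunLike.coe_injective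
  have := Fintype.ofFinite (Γ →* Equiv.Perm (Fin t))
  have hp : Nat.card (Equiv.Perm (Fin t)) = t.factorial := by
    rw [Nat.card_perm, Nat.card_fin]
  have h1 : Nat.card (Γ →* Equiv.Perm (Fin t)) ≤ t.factorial ^ d := by
    have := Nat.card_le_card_of_injective (fun ψ : Γ →* Equiv.Perm (Fin t) => fun x : S => ψ x)
      fun ψ ψ' e => MonoidHom.eq_of_eqOn_dense h fun x hx => congrFun e ⟨x, hx⟩
    rw [Nat.card_fun, hp, Nat.card_coe_set_eq] at this
    exact this.trans (Nat.pow_le_pow_right t.factorial_pos hd)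
  refine (index_iInf_le _).trans ((Finset.prod_le_pow_card _ _ t.factorial fun ψ _ => ?_).trans
    (Nat.pow_le_pow_right t.factorial_pos ?_))
  · rw [index_ker, ← hp]; exact card_le_card_group _
  · rwa [Finset.card_univ, ← Nat.card_eq_fintype_card]

theorem nilpotent_Rk [Finite Γ] {a : Γ} (ha : a * a = 1) (h : closure (insert a (J a)) = ⊤)
    {m : ℕ} (hm : (J a).ncard ≤ m) : Group.IsNilpotent (Rk Γ (2 * (m ^ m) ^ 2)) := by
  set R := Rk Γ (2 * (m ^ m) ^ 2)
  have key : ∀ N : Subgroup Γ, N.Normal → ∃ k, R.lowerCentralSeries k ≤ N := by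
    intro N
    induction N using subgroup_induction_gt with
    | h N ih =>
      intro hN
      by_cases hT : N = ⊤
      · exact ⟨0, hT ▸ le_top⟩
      have hf := QuotientGroup.mk'_surjective N
      have : Nontrivial (Γ ⧸ N) := QuotientGroup.nontrivial_iff.2 hT
      obtain ⟨y, y1, hy⟩ := exists_small (a := QuotientGroup.mk' N a)
        (by rw [← map_mul, ha, map_one]) (gen_map hf h) ((ncard_J_map hf ha).trans hm)
      have : (R.map (QuotientGroup.mk' N)).Normal := Normal.map inferInstance _ hf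
      obtain ⟨y, rfl⟩ := hf y
      obtain ⟨k, hk⟩ := ih ((centralizer ((R.map (QuotientGroup.mk' N) : Subgroup (Γ ⧸ N)) :
          Set (Γ ⧸ N))).comap (QuotientGroup.mk' N)) (lt_of_le_of_ne (fun x hx => by
          rw [mem_comap, show QuotientGroup.mk' N x = 1 from (QuotientGroup.eq_one_iff x).2 hx]
          exact one_mem _) fun e => y1 ((QuotientGroup.eq_one_iff y).2 (by
          rw [e]
          rintro _ ⟨r, hr, rfl⟩
          rw [← index_comap_of_surjective _ (QuotientGroup.mk'_surjective N)] at hy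
          exact mem_centralizer_single.1 (Rk_le hy hr)))) inferInstance
      refine ⟨k + 1, commutator_le.2 fun x hx r hr => (QuotientGroup.eq_one_iff _).1 ?_⟩
      change QuotientGroup.mk' N _ = 1
      rw [map_commutatorElement, commutatorElement_eq_one_iff_mul_comm]
      exact (hk hx _ ⟨r, hr, rfl⟩).symm
  obtain ⟨k, hk⟩ := key ⊥ inferInstance
  exact isNilpotent_of_lowerCentralSeries_eq_bot (n := k) (le_bot_iff.1 hk)

/-- two elements of odd order in a coset of an elementary abelian normal 2-subgroup are conjugate -/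
theorem exists_conj_of_odd {W : Subgroup Γ} [hW : W.Normal] (hc : ∀ v ∈ W, ∀ w ∈ W, v * w = w * v)
    (h2 : ∀ w ∈ W, w * w = 1) {u u' : Γ} (hu : Odd (orderOf u)) (hu' : Odd (orderOf u'))
    (h : u⁻¹ * u' ∈ W) : ∃ v ∈ W, u' = v * u * v⁻¹ := by
  let _ : CommGroup W := { (inferInstance : Group W) with
    mul_comm := fun v w => Subtype.ext (hc _ v.2 _ w.2) }
  have hm : ∀ i : ℕ, u' ^ i * (u ^ i)⁻¹ ∈ W := fun i => by
    rw [← QuotientGroup.eq_one_iff, QuotientGroup.mk_mul, QuotientGroup.mk_inv,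
      QuotientGroup.mk_pow, QuotientGroup.mk_pow, QuotientGroup.eq.2 h, mul_inv_cancel]
  let c : ℕ → W := fun i => ⟨_, hm i⟩
  let τ : W →* W := (MulAut.conjNormal u).toMonoidHom
  let d : W := (c 1)⁻¹
  have h3 : ∀ i, τ (c i) = d * c (i + 1) := fun i => Subtype.ext (by
    change u * (u' ^ i * (u ^ i)⁻¹) * u⁻¹ = (u' ^ 1 * (u ^ 1)⁻¹)⁻¹ * (u' ^ (i + 1) * (u ^ (i + 1))⁻¹)
    rw [pow_succ' u', pow_succ' u]; group)
  set n := orderOf u * orderOf u' with hn
  have h4 : c n = c 0 := Subtype.ext (by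
    change u' ^ n * (u ^ n)⁻¹ = u' ^ 0 * (u ^ 0)⁻¹
    rw [orderOf_dvd_iff_pow_eq_one.1 (Dvd.intro _ hn.symm),
      orderOf_dvd_iff_pow_eq_one.1 (Dvd.intro_left _ hn.symm), pow_zero, pow_zero])
  have h5 : τ (∏ i ∈ Finset.range n, c i) = d * ∏ i ∈ Finset.range n, c i := by
    rw [map_prod, Finset.prod_congr rfl fun i _ => h3 i, Finset.prod_mul_distrib,
      Finset.prod_const, Finset.card_range]
    congr 1
    · obtain ⟨k, hk⟩ := hu.mul hu'
      rw [hn, hk, pow_succ, pow_mul, pow_two, show d * d = 1 from Subtype.ext (h2 _ d.2), one_pow,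
        one_mul]
    · refine mul_right_cancel (b := c 0) ?_
      rw [← Finset.prod_range_succ', Finset.prod_range_succ, h4]
  refine ⟨_, (∏ i ∈ Finset.range n, c i).2, ?_⟩
  have h6 := congrArg Subtype.val h5
  change u * _ * u⁻¹ = (u' ^ 1 * (u ^ 1)⁻¹)⁻¹ * _ at h6
  generalize ((∏ i ∈ Finset.range n, c i : W) : Γ) = v at h6
  calc u' = u' * (u⁻¹ * (u * v * u⁻¹) * u) * v⁻¹ := by group
    _ = v * u * v⁻¹ := by rw [h6]; group

theorem relIndex_le_sq [Finite Γ] {W : Subgroup Γ} [hW : W.Normal]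
    (hc : ∀ v ∈ W, ∀ w ∈ W, v * w = w * v) (h2 : ∀ w ∈ W, w * w = 1) {a x : Γ} (ha : a * a = 1)
    (hx : x ∈ J a) :
    (centralizer ({x} : Set Γ)).relIndex W ≤ {u | u ∈ J a ∧ x⁻¹ * u ∈ W}.ncard ^ 2 := by
  let _ : CommGroup W := { (inferInstance : Group W) with
    mul_comm := fun v w => Subtype.ext (hc _ v.2 _ w.2) }
  let φ : W →* W := MonoidHom.id W * (MulAut.conjNormal a).toMonoidHom
  have hφ : ∀ w : W, (φ w : Γ) = w * (a * w * a⁻¹) := fun w => rfl
  set W₀ := (centralizer ({x} : Set Γ)).subgroupOf W with hW₀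
  have ha' : a⁻¹ = a := inv_eq_of_mul_eq_one_right ha
  have h01 : W₀ ≤ W₀.comap φ := fun w hw => by
    have h1 : w.1 ∈ centralizer ({x} : Set Γ) := hw
    change (φ w : Γ) ∈ centralizer ({x} : Set Γ)
    rw [hφ]
    refine mul_mem h1 ?_
    rw [← centralizer_single_inv, ← hx.2, centralizer_single_conj]
    exact conj_mem_map_conj h1
  have hr : φ.range ≤ W₀.comap φ := by
    rintro _ ⟨w, rfl⟩
    have : φ (φ w) = 1 := Subtype.ext (by
      rw [hφ, hφ, ← conj_mul]
      calc w.1 * (a * w * a⁻¹) * (a * w * a⁻¹ * (a * (a * w * a⁻¹) * a⁻¹))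
          = w.1 * (a * w * a⁻¹ * (a * w * a⁻¹)) * (a * a * w * (a * a)⁻¹) := by group
        _ = 1 := by rw [h2 _ (hW.conj_mem _ w.2 a), ha]; simpa using h2 _ w.2)
    rw [mem_comap, this]; exact one_mem _
  have h3 : (W₀.comap φ).index ≤ W₀.relIndex (W₀.comap φ) := by
    rw [index_comap]
    exact relIndex_le_of_le_right hr index_ne_zero_of_finite
  have h4 : W₀.relIndex (W₀.comap φ) ≤ {u | u ∈ J a ∧ x⁻¹ * u ∈ W}.ncard := by
    rw [hW₀, ← comap_subtype, relIndex_comap, Coprime.relIndex_centralizer_eq_ncard]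
    refine Set.ncard_le_ncard ?_ (Set.toFinite _)
    rintro _ ⟨_, ⟨w, hw, rfl⟩, rfl⟩
    have h5 : (φ w : Γ) ∈ centralizer ({x} : Set Γ) := hw
    rw [hφ, mem_centralizer_single] at h5
    change _ ∈ J a ∧ x⁻¹ * (w.1 * x * w.1⁻¹) ∈ W
    refine ⟨⟨by rw [← MulAut.conj_apply, MulEquiv.orderOf_eq]; exact hx.1, ?_⟩, ?_⟩
    · change a * (w.1 * x * w.1⁻¹) * a⁻¹ = (w.1 * x * w.1⁻¹)⁻¹
      have h6 : w.1⁻¹ = w.1 := inv_eq_of_mul_eq_one_right (h2 _ w.2)
      have h7 : a * w * a⁻¹ = w.1⁻¹ * (w.1 * (a * w * a⁻¹)) := by group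
      calc a * (w.1 * x * w.1⁻¹) * a⁻¹ = a * w * a⁻¹ * (a * x * a⁻¹) * (a * w * a⁻¹)⁻¹ := by group
        _ = w.1⁻¹ * (w.1 * (a * w * a⁻¹) * x * (w.1 * (a * w * a⁻¹))⁻¹)⁻¹ * w.1 := by
          rw [hx.2]; group
        _ = _ := by rw [h5, mul_inv_cancel_right, conj_inv, h6]
    · rw [show x⁻¹ * (w.1 * x * w.1⁻¹) = x⁻¹ * w.1 * x⁻¹⁻¹ * w.1⁻¹ by group]
      exact mul_mem (hW.conj_mem _ w.2 _) (inv_mem w.2)
  calc _ = W₀.index := rfl
    _ = _ := (relIndex_mul_index h01).symm
    _ ≤ _ := by rw [pow_two]; exact Nat.mul_le_mul h4 (h3.trans h4)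

theorem ncard_le_mul {α β : Type*} (f : α → β) {s : Set α} {t : Set β} (hs : s.Finite)
    (ht : t.Finite) (h : ∀ a ∈ s, f a ∈ t) (n : ℕ) (hn : ∀ b ∈ t, {a | a ∈ s ∧ f a = b}.ncard ≤ n) :
    s.ncard ≤ n * t.ncard := by
  classical
  rw [Set.ncard_eq_toFinset_card s hs, Set.ncard_eq_toFinset_card t ht]
  refine Finset.card_le_mul_card_image_of_maps_to (f := f) (by simpa using h) n fun b hb => ?_
  rw [← Set.ncard_coe_finset]
  convert hn b (by simpa using hb) using 2
  ext; simp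

theorem mul_ncard_le {α β : Type*} (f : α → β) {s : Set α} {t : Set β} (hs : s.Finite)
    (ht : t.Finite) (h : ∀ a ∈ s, f a ∈ t) (n : ℕ) (hn : ∀ b ∈ t, n ≤ {a | a ∈ s ∧ f a = b}.ncard) :
    n * t.ncard ≤ s.ncard := by
  classical
  rw [Set.ncard_eq_toFinset_card s hs, Set.ncard_eq_toFinset_card t ht]
  refine Finset.mul_card_image_le_card_of_maps_to (f := f) (by simpa using h) n fun b hb => ?_
  rw [← Set.ncard_coe_finset]
  convert hn b (by simpa using hb) using 2
  ext; simp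

theorem two (n : ℕ) : ∀ (Γ : Type u) [Group Γ] [Finite Γ] (T : Subgroup Γ) [T.Normal] (a x : Γ),
    Nat.card Γ = n → IsPGroup 2 T → a * a = 1 → x ∈ J a →
    {u | Odd (orderOf u) ∧ x⁻¹ * u ∈ T}.ncard ≤ {u | u ∈ J a ∧ x⁻¹ * u ∈ T}.ncard ^ 2 := by
  induction n using Nat.strong_induction_on with
  | _ n ih =>
    intro Γ _ _ T hT a x hn h2 ha hx
    by_cases hb : T = ⊥
    · have e : ∀ p : Γ → Prop, p x → {u | p u ∧ x⁻¹ * u ∈ T} = {x} := fun p hp => by
        ext u
        simp only [hb, mem_bot, inv_mul_eq_one, Set.mem_singleton_iff, Set.mem_ofPred_eq]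
        exact ⟨fun h => h.2.symm, fun h => ⟨h ▸ hp, h.symm⟩⟩
      rw [e _ hx.1, e (fun u => u ∈ J a) hx]; simp
    let W : Subgroup Γ :=
      { carrier := {w | w ∈ T ∧ (∀ s ∈ T, s * w = w * s) ∧ w * w = 1}
        one_mem' := ⟨one_mem _, by simp, by simp⟩
        mul_mem' := fun {v w} hv hw => ⟨mul_mem hv.1 hw.1, fun s hs => by
          rw [← mul_assoc, hv.2.1 s hs, mul_assoc, hw.2.1 s hs, mul_assoc], by
          rw [mul_assoc, ← mul_assoc w, hv.2.1 w hw.1, mul_assoc, hw.2.2, mul_one, hv.2.2]⟩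
        inv_mem' := fun {w} hw => by rw [inv_eq_of_mul_eq_one_right hw.2.2]; exact hw }
    have hW : W.Normal := ⟨fun w hw g => ⟨hT.conj_mem _ hw.1 g, fun s hs => by
      have := hw.2.1 _ (hT.conj_mem _ hs g⁻¹)
      calc s * (g * w * g⁻¹) = g * (g⁻¹ * s * g⁻¹⁻¹ * w) * g⁻¹ := by group
        _ = _ := by rw [this]; group, by rw [conj_mul, hw.2.2]; group⟩⟩
    have hc : ∀ v ∈ W, ∀ w ∈ W, v * w = w * v := fun v hv w hw => hw.2.1 v hv.1
    have hWb : W ≠ ⊥ := by
      obtain ⟨z, h1, h3, h4, h5⟩ := exists_central_mod (C := ⊥) h2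
        (by rw [normalizer_eq_top_iff.2 inferInstance]; exact le_top) (fun e => hb (le_bot_iff.1 e))
      refine fun e => h3 (e ▸ ⟨h1, fun s hs => ?_, by rw [← pow_two]; exact h4⟩)
      exact (commutatorElement_eq_one_iff_mul_comm.1 (h5 s hs)).symm
    let f := QuotientGroup.mk' W
    have hf : Function.Surjective f := QuotientGroup.mk'_surjective W
    have : (T.map f).Normal := hT.map _ hf
    have hTf : ∀ y, f y ∈ T.map f ↔ y ∈ T := fun y => ⟨fun ⟨z, hz, e⟩ => by
      have := mul_mem hz (QuotientGroup.eq.1 e).1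
      rwa [mul_inv_cancel_left] at this, fun h => ⟨y, h, rfl⟩⟩
    have ih' := ih _ (hn ▸ card_quotient_lt hWb) (Γ ⧸ W) (T.map f) (f a) (f x) rfl (h2.map f)
      (by rw [← map_mul, ha, map_one]) (map_mem_J f hx)
    have hcc : ∀ u, x⁻¹ * u ∈ T → (centralizer ({u} : Set Γ)).relIndex W =
        (centralizer ({x} : Set Γ)).relIndex W := fun u hu => by
      refine congrArg index (Subgroup.ext fun w => ?_)
      rw [mem_subgroupOf, mem_subgroupOf, mem_centralizer_single, mem_centralizer_single]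
      have h3 := w.2.2.1 _ hu
      rw [← mul_inv_cancel_left x u]
      generalize x⁻¹ * u = s at h3
      rw [mul_assoc x, h3, ← mul_assoc, ← mul_assoc, mul_left_inj]
    set c := (centralizer ({x} : Set Γ)).relIndex W
    have hs : ∃ s, c ≤ s ^ 2 := ⟨c, Nat.le_self_pow two_ne_zero c⟩
    have h3 := ncard_le_mul f (s := {u | Odd (orderOf u) ∧ x⁻¹ * u ∈ T})
      (t := {u | Odd (orderOf u) ∧ (f x)⁻¹ * u ∈ T.map f}) (Set.toFinite _) (Set.toFinite _)
      (fun u hu => ⟨hu.1.of_dvd_nat (orderOf_map_dvd f u), by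
        rw [← map_inv, ← map_mul]; exact ⟨_, hu.2, rfl⟩⟩) c (fun b _ => by
        rcases Set.eq_empty_or_nonempty {u | u ∈ {u | Odd (orderOf u) ∧ x⁻¹ * u ∈ T} ∧ f u = b}
          with e | ⟨u, hu⟩
        · rw [e]; simp
        rw [← hcc u hu.1.2, Coprime.relIndex_centralizer_eq_ncard]
        exact Set.ncard_le_ncard (fun u' hu' => exists_conj_of_odd hc (fun w hw => hw.2.2) hu.1.1
          hu'.1.1 (QuotientGroup.eq.1 (hu.2.trans hu'.2.symm))) (Set.toFinite _))
    have h4 := mul_ncard_le f (s := {u | u ∈ J a ∧ x⁻¹ * u ∈ T})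
      (t := {u | u ∈ J (f a) ∧ (f x)⁻¹ * u ∈ T.map f}) (Set.toFinite _) (Set.toFinite _)
      (fun u hu => ⟨map_mem_J f hu.1, by
        rw [← map_inv, ← map_mul]; exact ⟨_, hu.2, rfl⟩⟩) (Nat.find hs) (fun b hb => by
        obtain ⟨y, hy, rfl⟩ := lift hf ha hb.1
        have hy' : x⁻¹ * y ∈ T := (hTf _).1 (by rw [map_mul, map_inv]; exact hb.2)
        refine (Nat.find_min' hs ((hcc y hy').ge.trans
          (relIndex_le_sq hc (fun w hw => hw.2.2) ha hy))).trans
          (Set.ncard_le_ncard (fun u hu => ⟨⟨hu.1, ?_⟩, (QuotientGroup.eq.2 hu.2).symm⟩)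
            (Set.toFinite _))
        have := mul_mem hy' hu.2.1
        rwa [mul_assoc, mul_inv_cancel_left] at this)
    calc _ ≤ _ := h3
      _ ≤ _ := Nat.mul_le_mul (Nat.find_spec hs) ih'
      _ ≤ _ := by rw [← mul_pow]; exact Nat.pow_le_pow_left h4 2

/-- bound for the class sizes -/
def cb (m : ℕ) : ℕ :=
  ((2 * (m ^ m) ^ 2).factorial ^ (2 * (m ^ m) ^ 2).factorial ^ (m + 1) * m) ^ 2 * m ^ 2

theorem index_cent_le [Finite Γ] {a : Γ} (ha : a * a = 1) (h : closure (insert a (J a)) = ⊤)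
    {m : ℕ} (hm : (J a).ncard ≤ m) {x : Γ} (hx : x ∈ J a) :
    (centralizer ({x} : Set Γ)).index ≤ cb m := by
  set R := Rk Γ (2 * (m ^ m) ^ 2)
  have hR : R.index ≤ _ := index_Rk h (d := m + 1)
    ((Set.ncard_insert_le _ _).trans (by omega)) (2 * (m ^ m) ^ 2)
  let T := pCore 2 Γ
  let f := QuotientGroup.mk' T
  have hf : Function.Surjective f := QuotientGroup.mk'_surjective T
  have ha' : f a * f a = 1 := by rw [← map_mul, ha, map_one]
  have hodd : ∀ r ∈ R.map f, Odd (orderOf r) := by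
    rintro _ ⟨r, hr, rfl⟩
    obtain ⟨u, hu, v, -, e, ⟨k, hk⟩, hv⟩ := exists_p_part Nat.prime_two r
    have h1 : u ∈ T := le_pCore_of_le_nilpotent_normal (nilpotent_Rk ha h hm)
      (IsPGroup.of_card ((Nat.card_zpowers u).trans hk)) (zpowers_le.2 (zpowers_le.2 hr hu))
      (mem_zpowers u)
    rw [e, map_mul, show f u = 1 from (QuotientGroup.eq_one_iff u).2 h1, one_mul]
    exact (Nat.coprime_two_right.1 hv).of_dvd_nat (orderOf_map_dvd f v)
  have hRn : (R.map f).Normal := Normal.map inferInstance _ hf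
  have h1 : (centralizer ({f a} : Set (Γ ⧸ T))).relIndex (R.map f) ≤ m := by
    rw [Coprime.relIndex_centralizer_eq_ncard]
    refine le_trans (Set.ncard_le_ncard_of_injOn (fun y => y * (f a)⁻¹) ?_
      (fun _ _ _ _ e => mul_right_cancel e) (Set.toFinite _)) ((ncard_J_map hf ha).trans hm)
    rintro _ ⟨r, hr, rfl⟩
    refine ⟨hodd _ ?_, comm_inv ha' r⟩
    rw [show r * f a * r⁻¹ * (f a)⁻¹ = r * (f a * r⁻¹ * (f a)⁻¹) by group]
    exact mul_mem hr (hRn.conj_mem _ (inv_mem hr) _)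
  have h2 : (centralizer ({f a} : Set (Γ ⧸ T))).index ≤ R.index * m := by
    refine (Nat.le_of_dvd (Nat.pos_of_ne_zero index_ne_zero_of_finite)
      (index_dvd_of_le (inf_le_left (b := R.map f)))).trans ?_
    rw [← relIndex_mul_index inf_le_right, inf_relIndex_right, mul_comm]
    exact Nat.mul_le_mul (Nat.le_of_dvd (Nat.pos_of_ne_zero index_ne_zero_of_finite)
      (index_map_dvd _ hf)) h1
  have h3 : (centralizer ({f x} : Set (Γ ⧸ T))).index ≤ (R.index * m) ^ 2 := by
    obtain ⟨y, hy, e⟩ := exists_sqrt (map_mem_J f hx).1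
    have h4 := conj_zpow_inv (map_mem_J f hx).2 (inv_mem hy)
    have h5 : f x = y * f a * y⁻¹ * (f a)⁻¹ := by
      rw [mul_assoc, mul_assoc, ← mul_assoc (f a), h4, inv_inv, e]
    refine (Nat.le_of_dvd (Nat.pos_of_ne_zero index_ne_zero_of_finite) (index_dvd_of_le
      (H := centralizer {y * f a * y⁻¹} ⊓ centralizer {f a}) fun g hg => ?_)).trans
      (index_inf_le.trans ?_)
    · rw [h5, mem_centralizer_single_commute]
      exact (mem_centralizer_single_commute.1 hg.1).mul_right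
        (mem_centralizer_single_commute.1 hg.2).inv_right
    · rw [index_centralizer_conj, pow_two]; exact Nat.mul_le_mul h2 h2
  have h4 : (centralizer ({x} : Set Γ)).relIndex ((centralizer {f x}).comap f) ≤ m ^ 2 := by
    rw [Coprime.relIndex_centralizer_eq_ncard]
    refine le_trans (Set.ncard_le_ncard ?_ (Set.toFinite _))
      ((two _ Γ T a x rfl (isPGroup_pCore 2) ha hx).trans (Nat.pow_le_pow_left
        ((Set.ncard_le_ncard (fun u hu => hu.1) (Set.toFinite _)).trans hm) 2))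
    rintro _ ⟨g, hg, rfl⟩
    refine ⟨by rw [← MulAut.conj_apply, MulEquiv.orderOf_eq]; exact hx.1, QuotientGroup.eq.1 ?_⟩
    change f x = f (g * x * g⁻¹)
    rw [map_mul, map_mul, map_inv, mem_centralizer_single.1 hg, mul_inv_cancel_right]
  rw [← relIndex_mul_index (K := (centralizer {f x}).comap f)
    (map_le_iff_le_comap.1 (map_centralizer_single_le f x)), index_comap_of_surjective _ hf, mul_comm]
  exact Nat.mul_le_mul (h3.trans (Nat.pow_le_pow_left (Nat.mul_le_mul_right m hR) 2)) h4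

/-- the final bound -/
def fb (m : ℕ) : ℕ := cb m ^ m * (cb m ^ m * m.factorial) ^ (cb m ^ m * m)

theorem card_le_of_gen {G : Type*} [Group G] [Finite G] {S : Set G} (h : closure S = ⊤) {m b : ℕ}
    (hm : S.ncard ≤ m) (ho : ∀ x ∈ S, orderOf x ≤ m) (hb0 : 0 < b)
    (hb : ∀ x ∈ S, (centralizer ({x} : Set G)).index ≤ b) :
    Nat.card G ≤ b ^ m * (b ^ m * m.factorial) ^ (b ^ m * m) := by
  classical
  have := Fintype.ofFinite S
  let _ : CommGroup (center G) := { (inferInstance : Group (center G)) with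
    mul_comm := fun v w => Subtype.ext (mem_center_iff.1 w.2 v) }
  have h1 : (center G).index ≤ b ^ m := by
    refine (Nat.le_of_dvd (Nat.pos_of_ne_zero index_ne_zero_of_finite) (index_dvd_of_le
      (H := ⨅ x : S, centralizer ({x.1} : Set G)) fun g hg => ?_)).trans ((index_iInf_le _).trans
      ((Finset.prod_le_pow_card _ _ b fun (x : S) _ => hb x x.2).trans (Nat.pow_le_pow_right hb0 ?_)))
    · rw [← centralizer_single_eq_top_iff, eq_top_iff, ← h, closure_le]
      exact fun x hx => mem_centralizer_single.2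
        (mem_centralizer_single.1 (mem_iInf.1 hg ⟨x, hx⟩)).symm
    · rwa [Finset.card_univ, ← Nat.card_eq_fintype_card, Nat.card_coe_set_eq]
  have h2 : ∀ g : G, MonoidHom.transferCenterPow G g ^ m.factorial = 1 := fun g => by
    have : (⊤ : Subgroup G) ≤
        ((powMonoidHom m.factorial).comp (MonoidHom.transferCenterPow G)).ker := by
      rw [← h, closure_le]
      intro x hx
      change MonoidHom.transferCenterPow G x ^ m.factorial = 1
      rw [← map_pow, orderOf_dvd_iff_pow_eq_one.1 (Nat.dvd_factorial (orderOf_pos x) (ho x hx)),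
        map_one]
    exact this (mem_top g)
  have h3 := card_dvd_exponent_pow_rank' (center G) (n := (center G).index * m.factorial)
    fun z => Subtype.ext (by
      have := congrArg Subtype.val (h2 z)
      change (z : G) ^ ((center G).index * m.factorial) = 1
      rw [pow_mul]; exact this)
  have h4 : Group.rank (center G) ≤ b ^ m * m := (rank_le_index_mul_rank _).trans
    (Nat.mul_le_mul h1 ((Group.rank_le (S := S.toFinset) (by rwa [Set.coe_toFinset])).trans
      (by rwa [← Set.ncard_eq_toFinset_card'])))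
  have h5 : 0 < (center G).index * m.factorial :=
    Nat.mul_pos (Nat.pos_of_ne_zero index_ne_zero_of_finite) m.factorial_pos
  rw [← index_mul_card (center G)]
  exact Nat.mul_le_mul h1 ((Nat.le_of_dvd (Nat.pow_pos h5) h3).trans
    ((Nat.pow_le_pow_right h5 h4).trans (Nat.pow_le_pow_left (Nat.mul_le_mul_right _ h1) _)))

theorem card_le {G : Type u} [Group G] [Finite G] (α : MulAut G) (hα : α * α = 1)
    (hG : closure (Set.range (fun c : G => c * (α c)⁻¹)) = ⊤) :
    Nat.card G ≤ fb (Nat.card {g : G // Odd (orderOf g) ∧ α g = g⁻¹}) := by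
  set S : Set G := {g | Odd (orderOf g) ∧ α g = g⁻¹} with hS
  change Nat.card G ≤ fb S.ncard
  have hαα : ∀ c, α (α c) = c := fun c => DFunLike.congr_fun hα c
  have hgen : closure S = ⊤ := by
    rw [eq_top_iff, ← Flav.iter_gen_aut α hG (Nat.card G + 1) (by omega)]
    refine closure_mono ?_
    rintro _ ⟨c, rfl⟩
    have h1 : ∀ y : G, α y = y⁻¹ → ∀ k, (fun c : G => c * (α c)⁻¹)^[k] y = y ^ 2 ^ k := by
      intro y hy k
      induction k with
      | zero => simp
      | succ k ih =>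
        rw [Function.iterate_succ_apply', ih, map_pow, hy, inv_pow, inv_inv, ← pow_add, pow_succ,
          mul_two]
    have h2 : α (c * (α c)⁻¹) = (c * (α c)⁻¹)⁻¹ := by
      rw [map_mul, map_inv, hαα, mul_inv_rev, inv_inv]
    rw [Function.iterate_succ_apply, h1 _ h2]
    refine ⟨?_, by rw [map_pow, h2, inv_pow]⟩
    obtain ⟨u, hu, v, hv, e, ⟨k, hk⟩, hv'⟩ := exists_p_part Nat.prime_two (c * (α c)⁻¹)
    have hk' : k ≤ Nat.card G :=
      (Nat.lt_two_pow_self.le.trans hk.ge).trans orderOf_le_card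
    rw [e, (commute_of_mem_zpowers hu hv).mul_pow,
      orderOf_dvd_iff_pow_eq_one.1 (hk ▸ pow_dvd_pow 2 hk'), one_mul]
    exact (Nat.coprime_two_right.1 hv').of_dvd_nat (orderOf_pow_dvd _)
  let Γ := G ⋊[(zpowers α).subtype] zpowers α
  have : Finite Γ := Finite.of_equiv _ SemidirectProduct.equivProd.symm
  let a : Γ := SemidirectProduct.inr ⟨α, mem_zpowers α⟩
  let ι : G →* Γ := SemidirectProduct.inl
  have hι : Function.Injective ι := SemidirectProduct.inl_injective
  have ha : a * a = 1 := by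
    rw [← map_mul, ← map_one (SemidirectProduct.inr (φ := (zpowers α).subtype))]
    exact congrArg _ (Subtype.ext hα)
  have hconj : ∀ c, a * ι c * a⁻¹ = ι (α c) := fun c => by
    rw [← map_inv]
    exact (SemidirectProduct.inl_aut (φ := (zpowers α).subtype) ⟨α, mem_zpowers α⟩ c).symm
  have hJ : J a = ι '' S := by
    ext x
    constructor
    · intro hx
      have h1 : x.right = 1 := by
        have h2 : orderOf x.right ∣ 2 := (_root_.orderOf_dvd_natCard _).trans (by
          rw [Nat.card_zpowers]; exact orderOf_dvd_of_pow_eq_one ((pow_two α).trans hα))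
        have h3 : Odd (orderOf x.right) :=
          hx.1.of_dvd_nat (orderOf_map_dvd SemidirectProduct.rightHom x)
        exact orderOf_eq_one_iff.1 (Nat.eq_one_of_dvd_coprimes
          (Nat.coprime_two_right.2 h3) dvd_rfl h2)
      have h2 : x = ι x.left := by
        conv_lhs => rw [← SemidirectProduct.inl_left_mul_inr_right x, h1, map_one, mul_one]
      refine ⟨x.left, ⟨?_, hι ?_⟩, h2.symm⟩
      · rw [← orderOf_injective ι hι, ← h2]; exact hx.1
      · rw [← hconj, map_inv, ← h2]; exact hx.2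
    · rintro ⟨c, hc, rfl⟩
      exact ⟨by rw [orderOf_injective ι hι]; exact hc.1, by rw [hconj, hc.2, map_inv]⟩
  have hgen' : closure (insert a (J a)) = ⊤ := by
    refine top_le_iff.1 fun x _ => ?_
    rw [← SemidirectProduct.inl_left_mul_inr_right x]
    refine mul_mem ?_ ?_
    · refine closure_mono (Set.subset_insert _ _) ?_
      rw [hJ, ← MonoidHom.map_closure, hgen]
      exact ⟨x.left, mem_top _, rfl⟩
    · obtain ⟨i, hi⟩ := x.right.2
      have : x.right = (⟨α, mem_zpowers α⟩ : zpowers α) ^ i := Subtype.ext hi.symm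
      rw [this, map_zpow]
      exact zpow_mem (subset_closure (Set.mem_insert _ _)) i
  have hm : (J a).ncard ≤ S.ncard := by rw [hJ]; exact Set.ncard_image_le (Set.toFinite _)
  have hb : ∀ x ∈ S, (centralizer ({x} : Set G)).index ≤ cb S.ncard := fun x hx => by
    refine le_trans ?_ (index_cent_le ha hgen' hm (x := ι x) (hJ ▸ ⟨x, hx, rfl⟩))
    have : centralizer ({x} : Set G) = (centralizer {ι x}).comap ι := Subgroup.ext fun g => by
      rw [mem_comap, mem_centralizer_single, mem_centralizer_single, ← map_mul, ← map_mul, hι.eq_iff]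
    rw [this, index_comap, ← relIndex_top_right]
    exact relIndex_le_of_le_right le_top index_ne_zero_of_finite
  refine card_le_of_gen hgen le_rfl (fun x hx => ?_)
    ((Nat.pos_of_ne_zero index_ne_zero_of_finite).trans_le (hb 1 (by simp [hS]))) hb
  rw [← Nat.card_zpowers]
  exact Set.ncard_le_ncard (s := (zpowers x : Set G)) (fun u hu =>
    ⟨hx.1.of_dvd_nat (orderOf_dvd_of_mem_zpowers hu), by
      obtain ⟨i, rfl⟩ := hu
      change α (x ^ i) = (x ^ i)⁻¹
      rw [map_zpow, hx.2, inv_zpow]⟩) (Set.toFinite _)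

end Cfsg.Agent.Core.InvOdd
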