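import Mathlib
import Cfsg.Agent.Lib.Core.Primitive
import Cfsg.Agent.Lib.Perm.Cover

/-!
# Core/Engel: a refined zipper lemma, Baer's theorem on left Engel elements
-/

set_option autoImplicit false

namespace Cfsg.Agent.Core

open Subgroup
open scoped commutatorElement

variable {G : Type*} [Group G]

/-- Zipper lemma with the extra information that an element of `K` conjugating `S` into the unique
maximal overgroup `M` lies in `M`. -/
theorem zipper_in_conj [Finite G] {S K : Subgroup G} (hSK : S ≤ K)
    (h : ∀ H : Subgroup G, S ≤ H → H < K → SubnormalIn S H) (hS : ¬ SubnormalIn S K) :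
    ∃ M : Subgroup G, S ≤ M ∧ M < K ∧ (∀ H : Subgroup G, S ≤ H → H < K → H ≤ M) ∧
      ∀ x ∈ K, S.map (MulAut.conj x).toMonoidHom ≤ M → x ∈ M := by
  obtain ⟨M, hSM, hMK, hM⟩ := zipper_in hSK h hS
  refine ⟨M, hSM, hMK, hM, fun x hx hle => ?_⟩
  have h1 : M.map (MulAut.conj x⁻¹).toMonoidHom ≤ M := by
    refine hM _ (map_conj_le_iff.1 hle) (lt_of_le_of_ne (map_conj_le_of_mem hMK.le (inv_mem hx)) ?_)
    intro he
    have := card_map_conj x⁻¹ M
    rw [he] at this
    exact hMK.ne (eq_of_le_of_card_eq hMK.le this.symm)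
  have h2 : x ∈ normalizer (M : Set G) := inv_mem_iff.1 (mem_normalizer_of_map_conj_le h1)
  have h3 : K ⊓ normalizer (M : Set G) < K := by
    refine lt_of_le_of_ne inf_le_left fun he => hS ?_
    exact (h M hSM hMK).trans (subnormalIn_of_le_normalizer hMK.le (he.ge.trans inf_le_right))
  exact hM _ (le_inf hSK (hSM.trans le_normalizer)) h3 ⟨hx, h2⟩

/-- A refinement of Wielandt's criterion. -/
theorem subnormalIn_of_forall_conj_conj [Finite G] {S K : Subgroup G} (hSK : S ≤ K)
    (h : ∀ a ∈ S, ∀ g ∈ K, SubnormalIn S (S ⊔ S.map (MulAut.conj (g⁻¹ * a * g)).toMonoidHom)) :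
    SubnormalIn S K := by
  induction K using subgroup_induction_lt with
  | h K ih =>
    by_contra hS
    have hsub : ∀ H : Subgroup G, S ≤ H → H < K → SubnormalIn S H :=
      fun H hSH hHK => ih H hHK hSH fun a ha g hg => h a ha g (hHK.le hg)
    obtain ⟨M, hSM, hMK, hM, hconj⟩ := zipper_in_conj hSK hsub hS
    have key : ∀ g ∈ K, S.map (MulAut.conj g).toMonoidHom ≤ M := by
      rintro g hg _ ⟨a, ha, rfl⟩
      have hx : g⁻¹⁻¹ * a * g⁻¹ ∈ K := mul_mem (mul_mem (inv_mem (inv_mem hg)) (hSK ha)) (inv_mem hg)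
      have hle : S ⊔ S.map (MulAut.conj (g⁻¹⁻¹ * a * g⁻¹)).toMonoidHom ≤ K :=
        sup_le hSK (map_conj_le_of_mem hSK hx)
      have := hconj _ hx (le_sup_right.trans (hM _ le_sup_left (lt_of_le_of_ne hle fun he =>
        hS (he ▸ h a ha g⁻¹ (inv_mem hg)))))
      rwa [inv_inv] at this
    exact hMK.ne (le_antisymm hMK.le fun g hg => hconj g hg (key g hg))

theorem foldl_replicate_succ {α : Type*} (f : α → α → α) (g x : α) (n : ℕ) :
    (List.replicate (n + 1) g).foldl f x = f ((List.replicate n g).foldl f x) g := by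
  rw [List.replicate_succ', List.foldl_append, List.foldl_cons, List.foldl_nil]

/-- The cyclic group generated by a left Engel element is subnormal. -/
theorem subnormalIn_zpowers_of_engel [Finite G] {g : G} {K : Subgroup G} (hg : g ∈ K)
    (h : ∀ x ∈ K, ∃ n : ℕ, (List.replicate n g).foldl (fun a b => a * b * a⁻¹ * b⁻¹) x = 1) :
    SubnormalIn (zpowers g) K := by
  induction K using subgroup_induction_lt with
  | h K ih =>
    by_contra hS
    have hSK : zpowers g ≤ K := zpowers_le.2 hg
    have hsub : ∀ H : Subgroup G, zpowers g ≤ H → H < K → SubnormalIn (zpowers g) H :=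
      fun H hSH hHK => ih H hHK (zpowers_le.1 hSH) fun x hx => h x (hHK.le hx)
    obtain ⟨M, hSM, hMK, -, hconj⟩ := zipper_in_conj hSK hsub hS
    refine hMK.ne (le_antisymm hMK.le fun x hx => ?_)
    obtain ⟨n, hn⟩ := h x hx
    have key : ∀ n : ℕ, ∀ x ∈ K,
        (List.replicate n g).foldl (fun a b => a * b * a⁻¹ * b⁻¹) x ∈ M → x ∈ M := by
      intro n
      induction n with
      | zero => exact fun x _ h => h
      | succ n ihn =>
        intro x hx h1
        rw [List.replicate_succ, List.foldl_cons] at h1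
        have h2 := ihn _ (mul_mem (mul_mem (mul_mem hx hg) (inv_mem hx)) (inv_mem hg)) h1
        refine hconj x hx ?_
        rw [MonoidHom.map_zpowers, zpowers_le]
        have := mul_mem h2 (zpowers_le.1 hSM)
        rwa [inv_mul_cancel_right] at this
    exact key n x hx (by rw [hn]; exact one_mem _)

/-- **Baer**: left Engel elements lie in the Fitting subgroup. -/
theorem mem_fitting_of_engel [Finite G] {g : G}
    (h : ∀ x : G, ∃ n : ℕ, (List.replicate n g).foldl (fun a b => a * b * a⁻¹ * b⁻¹) x = 1) :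
    g ∈ fittingSubgroup G :=
  zpowers_le.1 (le_fitting_of_isSubnormal
    (subnormalIn_top_iff.1 (subnormalIn_zpowers_of_engel (mem_top g) fun x _ => h x))
    isNilpotent_of_isMulCommutative)

theorem engel_of_mem_nilpotent_normal {N : Subgroup G} [hN : N.Normal] (h : Group.IsNilpotent N)
    {g : G} (hg : g ∈ N) (x : G) :
    ∃ n : ℕ, (List.replicate n g).foldl (fun a b => a * b * a⁻¹ * b⁻¹) x = 1 := by
  obtain ⟨c, hc⟩ := (isNilpotent_iff_lowerCentralSeries (S := N)).1 h
  have key : ∀ n : ℕ, (List.replicate (n + 1) g).foldl (fun a b => a * b * a⁻¹ * b⁻¹) x ∈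
      N.lowerCentralSeries n := by
    intro n
    induction n with
    | zero => exact mul_mem (hN.conj_mem g hg x) (inv_mem hg)
    | succ n ih =>
      rw [foldl_replicate_succ, Subgroup.lowerCentralSeries_succ]
      exact commutator_mem_commutator ih hg
  exact ⟨c + 1, by have := key c; rwa [hc, mem_bot] at this⟩

/-- An element centralizing a Sylow `p`-subgroup and all `p'`-elements is central. -/
theorem mem_center_of_centralizes_sylow [Finite G] {p : ℕ} [hp : Fact p.Prime] (P : Sylow p G)
    {w : G} (h1 : w ∈ centralizer ((P : Subgroup G) : Set G))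
    (h2 : w ∈ centralizer {z : G | (orderOf z).Coprime p}) : w ∈ center G := by
  have : centralizer ({w} : Set G) = ⊤ := by
    refine eq_top_of_forall_sylow_le fun q hq => ?_
    by_cases hqp : q = p
    · subst hqp
      exact ⟨P, fun x hx => mem_centralizer_singleton_iff.2 (h1 x hx)⟩
    · refine ⟨default, fun x hx => mem_centralizer_singleton_iff.2 (h2 x ?_)⟩
      obtain ⟨k, hk⟩ := exists_orderOf_eq_pow_of_mem (default : Sylow q G).isPGroup' hx
      show (orderOf x).Coprime p
      rw [hk]
      exact ((Nat.coprime_primes hq.out hp.out).2 hqp).pow_left k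
  exact mem_center_iff.2 fun x => mem_centralizer_singleton_iff.1 (this.ge (mem_top x))

instance normal_centralizer_coprime (p : ℕ) :
    (centralizer {z : G | (orderOf z).Coprime p}).Normal := by
  refine ⟨fun w hw g z hz => ?_⟩
  have h1 : g⁻¹ * z * g⁻¹⁻¹ ∈ {z : G | (orderOf z).Coprime p} := by
    show (orderOf _).Coprime p
    rw [← MulAut.conj_apply, MulEquiv.orderOf_eq]
    exact hz
  have h2 := hw _ h1
  calc z * (g * w * g⁻¹) = g * (g⁻¹ * z * g⁻¹⁻¹ * w) * g⁻¹ := by group
    _ = g * (w * (g⁻¹ * z * g⁻¹⁻¹)) * g⁻¹ := by rw [h2]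
    _ = g * w * g⁻¹ * z := by group

/-- If a nontrivial normal `p`-subgroup centralizes all `p'`-elements, the center is nontrivial. -/
theorem inf_center_ne_bot_of_le_centralizer_coprime [Finite G] {p : ℕ} [hp : Fact p.Prime]
    {W : Subgroup G} [W.Normal] (hW : IsPGroup p W) (hne : W ≠ ⊥)
    (h : W ≤ centralizer {z : G | (orderOf z).Coprime p}) : W ⊓ center G ≠ ⊥ := by
  let P : Sylow p G := default
  have h1 := inf_centralizer_ne_bot_of_isNilpotent (N := W) (K := P) P.isPGroup'.isNilpotent
    ((le_pCore hW).trans (pCore_le_sylow P)) (by rw [normalizer_eq_top]; exact le_top) hne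
  refine fun hb => h1 (eq_bot_iff.2 fun w hw => ?_)
  rw [← hb]
  exact ⟨hw.1, mem_center_of_centralizes_sylow P hw.2 (h hw.1)⟩

theorem center_ne_bot_of_forall_isNilpotent_closure [Finite G] {g : G} (hg : g ≠ 1)
    (h : ∀ x : G, Group.IsNilpotent (closure ({x, g} : Set G))) : center G ≠ ⊥ := by
  obtain ⟨p, hp, hpg⟩ := Nat.exists_prime_and_dvd (fun h1 => hg (orderOf_eq_one_iff.1 h1))
  have := Fact.mk hp
  set y := g ^ (orderOf g / p) with hy
  have hyo : orderOf y = p := by
    rw [hy, orderOf_pow_of_dvd (Nat.div_ne_zero_iff.2 ⟨hp.ne_zero,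
      Nat.le_of_dvd (orderOf_pos g) hpg⟩) (Nat.div_dvd_of_dvd hpg),
      Nat.div_div_self hpg (orderOf_pos g).ne']
  have h' : ∀ x : G, Group.IsNilpotent (closure ({x, y} : Set G)) := fun x =>
    isNilpotent_of_le (h x) ((closure_le _).2 (by
      rintro z (rfl | rfl)
      · exact subset_closure (Or.inl rfl)
      · exact pow_mem (Subgroup.subset_closure (k := {x, g}) (Or.inr rfl)) _))
  have hyp : IsPGroup p (zpowers y) := isPGroup_zpowers_of_orderOf (k := 1) (by rw [hyo, pow_one])
  have hyF : y ∈ fittingSubgroup G := mem_fitting_iff_forall_closure.2 fun x => by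
    rw [Set.pair_comm]; exact h' _
  have hyO : y ∈ pCore p G := zpowers_le.1 (le_pCore_of_le_fitting hyp (zpowers_le.2 hyF))
  have hyC : y ∈ centralizer {z : G | (orderOf z).Coprime p} := fun z hz =>
    (Perm.commute_of_coprime_of_mem (h' z) (subset_closure (Or.inl rfl))
      (subset_closure (Or.inr rfl)) (by rw [hyo]; exact hz)).eq
  have h1 := inf_center_ne_bot_of_le_centralizer_coprime
    (W := pCore p G ⊓ centralizer {z : G | (orderOf z).Coprime p})
    (IsPGroup.to_le (isPGroup_pCore p) inf_le_left) (fun hb => by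
      have : y ∈ (⊥ : Subgroup G) := hb ▸ (⟨hyO, hyC⟩ : y ∈ pCore p G ⊓ _)
      rw [mem_bot] at this
      rw [this, orderOf_one] at hyo
      exact hp.one_lt.ne hyo) inf_le_right
  exact fun hb => h1 (by rw [hb, inf_bot_eq])

universe u in
theorem exists_mem_upperCentralSeries_of_forall_isNilpotent_closure {G : Type u} [Group G]
    [Finite G] (g : G) (h : ∀ x : G, Group.IsNilpotent (closure ({x, g} : Set G))) :
    ∃ n, g ∈ Subgroup.upperCentralSeries G n := by
  revert g
  refine induction_on_card (P := fun G _ _ => ∀ g : G,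
    (∀ x : G, Group.IsNilpotent (closure ({x, g} : Set G))) → ∃ n, g ∈ Subgroup.upperCentralSeries G n)
    (fun G _ _ ih => ?_) G
  intro g h
  by_cases hg : g = 1
  · exact ⟨0, by rw [hg]; exact one_mem _⟩
  obtain ⟨n, hn⟩ := ih (G ⧸ center G)
    (card_quotient_lt (center_ne_bot_of_forall_isNilpotent_closure hg h))
    (QuotientGroup.mk' _ g) fun x => by
      obtain ⟨x, rfl⟩ := QuotientGroup.mk'_surjective _ x
      have := isNilpotent_map (h x) (QuotientGroup.mk' (center G))
      rwa [MonoidHom.map_closure, Set.image_pair] at this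
  exact ⟨n + 1, by rw [← Subgroup.comap_upperCentralSeries_quotient_center]; exact hn⟩

theorem upperCentralSeries_subgroupOf_le (H : Subgroup G) (n : ℕ) :
    (Subgroup.upperCentralSeries G n).subgroupOf H ≤ Subgroup.upperCentralSeries H n := by
  induction n with
  | zero => intro x hx; simpa using hx
  | succ n ih =>
    intro x hx
    rw [Subgroup.mem_upperCentralSeries_succ_iff]
    exact fun y => ih (Subgroup.mem_upperCentralSeries_succ_iff.1 hx y)

/-- If `G / Z_n(G)` is nilpotent then so is `G`. -/
theorem isNilpotent_of_quotient_upperCentralSeries (n : ℕ)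
    (h : Group.IsNilpotent (G ⧸ Subgroup.upperCentralSeries G n)) : Group.IsNilpotent G := by
  obtain ⟨c, hc⟩ := Subgroup.nilpotent_iff_lowerCentralSeries.1 h
  have h1 : (⊤ : Subgroup G).lowerCentralSeries c ≤ Subgroup.upperCentralSeries G n := by
    rw [← map_mk_eq_bot_iff, map_lowerCentralSeries,
      map_top_of_surjective _ (QuotientGroup.mk'_surjective _), hc]
  have h2 : ∀ k, k ≤ n → (⊤ : Subgroup G).lowerCentralSeries (c + k) ≤
      Subgroup.upperCentralSeries G (n - k) := by
    intro k
    induction k with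
    | zero => exact fun _ => h1
    | succ k ih =>
      intro hk
      rw [← add_assoc, Subgroup.lowerCentralSeries_succ]
      refine (commutator_mono (ih (by omega)) le_rfl).trans ?_
      rw [show n - k = n - (k + 1) + 1 by omega]
      exact commutator_upperCentralSeries_top_le G _
  have h3 := h2 n le_rfl
  rw [Nat.sub_self, Subgroup.upperCentralSeries_zero, le_bot_iff] at h3
  exact Subgroup.nilpotent_iff_lowerCentralSeries.2 ⟨_, h3⟩

/-- The join of a nilpotent subgroup and a subgroup of the hypercenter is nilpotent. -/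
theorem isNilpotent_sup_of_le_upperCentralSeries {H K : Subgroup G} (hH : Group.IsNilpotent H)
    {n : ℕ} (hK : K ≤ Subgroup.upperCentralSeries G n) : Group.IsNilpotent ↥(H ⊔ K) := by
  refine isNilpotent_of_quotient_upperCentralSeries n ?_
  set L := H ⊔ K
  have h1 := isNilpotent_map (isNilpotent_subgroupOf hH L)
    (QuotientGroup.mk' (Subgroup.upperCentralSeries L n))
  have h2 : (H.subgroupOf L).map (QuotientGroup.mk' (Subgroup.upperCentralSeries L n)) = ⊤ := by
    have h3 : (K.subgroupOf L).map (QuotientGroup.mk' (Subgroup.upperCentralSeries L n)) = ⊥ :=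
      (map_mk_eq_bot_iff _ _).2 ((comap_mono hK).trans (upperCentralSeries_subgroupOf_le L n))
    have h4 : H.subgroupOf L ⊔ K.subgroupOf L = ⊤ := by
      rw [← subgroupOf_sup le_sup_left le_sup_right, subgroupOf_self]
    rw [← map_top_of_surjective _ (QuotientGroup.mk'_surjective _), ← h4, Subgroup.map_sup, h3,
      sup_bot_eq]
  rwa [h2, Group.isNilpotent_top] at h1

end Cfsg.Agent.Core
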