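import Cfsg.Agent.Lib.Core.MixA

/-! # Groups whose `p'`-subgroups of order divisible by `q` are `q`-groups, II: the simple case -/

set_option autoImplicit false
set_option linter.unusedSectionVars false

namespace Cfsg.Agent.Mix

open Subgroup Cfsg.Agent.Coprime Cfsg.Agent.OO
open scoped Pointwise commutatorElement

universe u

variable {G : Type u} [Group G] [Finite G]

variable {p : ℕ} {H K P Q W Y : Subgroup G} {s t u v w x y g : G}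

/-- A simple minimal counterexample. -/
structure Min (p : ℕ) (G : Type u) [Group G] : Prop where
  hyp : Hyp p 2 G
  p2 : p ≠ 2
  ab : ∀ P : Subgroup G, IsPGroup p P → Ab P
  simple : ∀ N : Subgroup G, N.Normal → N = ⊥ ∨ N = ⊤
  npi : ¬ PiGrp {2, p} (⊤ : Subgroup G)
  proper : ∀ H : Subgroup G, H ≠ ⊤ → 2 ∣ ♯H → PiGrp {2, p} H
  npnil : ¬ PNil 2 (⊤ : Subgroup G)

/-- A Sylow `2`-subgroup with a `p`-group acting nontrivially. -/
structure Good (p : ℕ) (Q Y : Subgroup G) : Prop where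
  syl : Syl 2 Q ⊤
  pgrp : IsPGroup p Y
  norm : Y ≤ 𝐍(Q)
  ncent : ¬ Y ≤ 𝐂(Q)

variable [hp : Fact p.Prime]

theorem Min.card_trans (h : Min p G) (hQ : Good p Q Y) : ♯Q = p + 1 ∧ Trans Y Q :=
  trans_of_small hQ.pgrp hQ.norm hQ.ncent (h.hyp.small Q hQ.syl.isPGroup)

theorem Min.exists_good (h : Min p G) (hH : ¬ PNil 2 H) : ∃ Q ≤ H, ∃ Y ≤ H, Good p Q Y := by
  obtain ⟨Q, h1, h2, r, hr, hr2, Y, h3, h4, h5, h6⟩ := exists_of_not_pnil hH
  have hY : Y ≠ ⊥ := fun e => h6 (e ▸ bot_le)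
  have hQ : Q ≠ ⊥ := fun e => h6 (le_cent_symm (e ▸ bot_le))
  obtain rfl := h.hyp.eq_of_norm h.p2 hr hr2 h2 h4 hQ hY (Or.inl h5)
  have h7 := (trans_of_small h4 h5 h6 (h.hyp.small Q h2)).1
  obtain ⟨S, hS, -⟩ := exists_syl_ge (le_top : Q ≤ ⊤) h2
  exact ⟨Q, h1, Y, h3, hS.of_card_le le_top h2 (h7 ▸ h.hyp.small S hS.isPGroup), h4, h5, h6⟩

theorem Min.good_of_syl (h : Min p G) (hQ : Syl 2 Q ⊤) : ∃ Y, Good p Q Y := by
  obtain ⟨S, -, Y, -, hS⟩ := h.exists_good h.npnil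
  obtain ⟨g, -, rfl⟩ := hS.syl.exists_conj' hQ
  exact ⟨g •ᶜ Y, hQ, isPGroup_conj.2 hS.pgrp, conj_le_norm_conj.2 hS.norm,
    fun e => hS.ncent (conj_le_cent_conj.1 e)⟩

theorem Min.card_syl (h : Min p G) (hQ : Syl 2 Q ⊤) : ♯Q = p + 1 :=
  let ⟨_, hY⟩ := h.good_of_syl hQ; (h.card_trans hY).1

theorem Min.three_le (h : Min p G) : 3 ≤ p := by
  have := hp.out.two_le
  have := h.p2
  omega

theorem Min.sq_of_mem (h : Min p G) (hQ : IsPGroup 2 Q) (hx : x ∈ Q) : x * x = 1 := by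
  obtain ⟨S, hS, h1⟩ := exists_syl_ge (le_top : Q ≤ ⊤) hQ
  obtain ⟨Y, hY⟩ := h.good_of_syl hS
  by_cases h2 : x = 1
  · simp [h2]
  obtain ⟨t, ht, h3⟩ := cauchy Nat.prime_two
    (dvd_card_of_isPGroup hS.isPGroup fun e => h2 (by simpa [e] using h1 hx))
  obtain ⟨z, -, rfl⟩ := (h.card_trans hY).2 t ht (by rintro rfl; simp at h3) x (h1 hx) h2
  have h4 : t * t = 1 := by rw [← sq, ← h3, pow_orderOf_eq_one]
  calc z * t * z⁻¹ * (z * t * z⁻¹) = z * (t * t) * z⁻¹ := by group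
    _ = 1 := by rw [h4]; group

theorem Min.ab2 (h : Min p G) (hQ : IsPGroup 2 Q) : Ab Q := by
  refine ab_iff.2 fun a ha b hb => ?_
  have h1 := h.sq_of_mem hQ (mul_mem ha hb)
  have h2 := inv_eq_of_mul_eq_one_right (h.sq_of_mem hQ ha)
  have h3 := inv_eq_of_mul_eq_one_right (h.sq_of_mem hQ hb)
  rw [← inv_eq_of_mul_eq_one_right h1, mul_inv_rev, h2, h3]

theorem exists_syl_mem (ht : t * t = 1) : ∃ Q, Syl 2 Q (⊤ : Subgroup G) ∧ t ∈ Q :=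
  let ⟨Q, h1, h2⟩ := exists_syl_ge (le_top : zpowers t ≤ ⊤) (isPGroup_inv2 ht)
  ⟨Q, h1, h2 (mem_zpowers t)⟩

theorem Min.conj_inv (h : Min p G) (ht : t * t = 1) (h1 : t ≠ 1) (hu : u * u = 1) (h2 : u ≠ 1) :
    ∃ g, u = g * t * g⁻¹ := by
  obtain ⟨Q, hQ, h3⟩ := exists_syl_mem ht
  obtain ⟨g, -, h4⟩ := hQ.exists_conj_le (le_top : zpowers u ≤ ⊤) (isPGroup_inv2 hu)
  obtain ⟨Y, hY⟩ := h.good_of_syl hQ
  obtain ⟨z, -, h5⟩ := (h.card_trans hY).2 t h3 h1 _ (h4 (conj_mem_conj (mem_zpowers u)))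
    (conj_ne_one.2 h2)
  exact ⟨g⁻¹ * z, by rw [mul_inv_rev, inv_inv, mul_assoc, mul_assoc, ← mul_assoc t,
    ← mul_assoc z, ← mul_assoc z, ← h5]; group⟩

theorem Min.norm_ne_top (h : Min p G) (h1 : W ≠ ⊥) (h2 : PiGrp {2, p} W) : 𝐍(W) ≠ ⊤ := by
  intro e
  rcases h.simple W (normalizer_eq_top_iff.1 e) with h3 | h3
  · exact h1 h3
  · exact h.npi (h3 ▸ h2)

theorem pi2 (h : IsPGroup 2 W) : PiGrp {2, p} W := piGrp_of_isPGroup h (by simp)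

theorem pip (h : IsPGroup p W) : PiGrp {2, p} W := piGrp_of_isPGroup h (by simp)

theorem Min.cent_ne_top (h : Min p G) (ht : t * t = 1) (h1 : t ≠ 1) : 𝐂[t] ≠ ⊤ := fun e =>
  h.norm_ne_top (W := zpowers t) (by simpa using h1) (pi2 (isPGroup_inv2 ht))
    (top_le_iff.1 (by rw [← e, ← cent_zpowers]; exact cent_le_norm _))

theorem syl_of_pnil (h2 : p ≠ 2) (hH : PiGrp {2, p} H) (h : PNil 2 H) : Syl p (Op p H) H := by
  have h1 : Hall {p} (Op' 2 H) H := IsPiHallOf.congr h fun r hr hd => by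
    have := hH r hr hd
    simp only [Set.mem_insert_iff, Set.mem_singleton_iff, Set.mem_compl_iff] at this ⊢
    rcases this with rfl | rfl
    · simp [h2.symm]
    · simp [h2]
  exact syl_Op_of_normal_syl h1.syl (Opi_normal _ H).norm

theorem Min.not_syl_Op (h : Min p G) (hQ : Good p Q Y) (h1 : Q ≤ H) (h2 : Y ≤ H) :
    ¬ Syl p (Op p H) H := fun e => hQ.ncent <| by
  rw [← OO.commutator_eq_bot_iff, ← le_bot_iff, ← inf_eq_bot_of_coprime_card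
    (coprime_of_isPGroup_ne (Op_isPGroup p H) hQ.syl.isPGroup h.p2)]
  exact le_inf ((commutator_mono (le_Op_of_syl e h2 hQ.pgrp) le_rfl).trans
    (commutator_le_left' (h1.trans (Op_normal p H).norm))) (commutator_le_right' hQ.norm)

theorem Min.dich (h : Min p G) (hH : H ≠ ⊤) (h2 : 2 ∣ ♯H) :
    Syl p (Op p H) H ∨ ∃ Q, Syl 2 Q (⊤ : Subgroup G) ∧ Q ⊴ H := by
  have hπ := h.proper H hH h2
  by_cases h3 : PNil 2 H
  · exact Or.inl (syl_of_pnil h.p2 hπ h3)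
  obtain ⟨Q, hQ, Y, hY, hg⟩ := h.exists_good h3
  have h4 : Op 2 H ≤ Q := Op_le_syl (hg.syl.mono hQ le_top)
  by_cases h5 : Op 2 H = ⊥
  · left
    have h6 : Op' p H = ⊥ := by
      rw [← le_bot_iff, ← h5]
      refine le_Op (Opi_normal _ H) (PiGrp.isPGroup fun r hr hd => ?_)
      have h1 := Op'_piGrp p H r hr hd
      have h2 := hπ r hr (hd.trans (card_dvd (Opi_le _ H)))
      simp only [Set.mem_compl_iff, Set.mem_singleton_iff, Set.mem_insert_iff] at h1 h2 ⊢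
      exact h2.resolve_right h1
    obtain ⟨P, hP⟩ := exists_syl p H
    have h7 : P ≤ Op p H := (le_inf hP.le (le_cent_mono (Ab.le_cent (h.ab P hP.isPGroup)) le_rfl
      (Op_le_syl hP))).trans (cent_Op_le_of_Op'_eq_bot (sol_of_pi hπ) h6)
    rwa [← le_antisymm h7 (Op_le_syl hP)]
  · obtain ⟨u, hu, hu1⟩ := exists_mem_ne_one h5
    have h6 : Q ≤ Op 2 H := fun v hv => by
      by_cases h6 : v = 1
      · rw [h6]; exact one_mem _
      obtain ⟨z, hz, rfl⟩ := (h.card_trans hg).2 u (h4 hu) hu1 v hv h6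
      exact (Op_normal 2 H).conj_mem (hY hz) hu
    exact Or.inr ⟨Q, hg.syl, le_antisymm h4 h6 ▸ Op_normal 2 H⟩

theorem Min.syl_ne_bot (h : Min p G) (hQ : Syl 2 Q ⊤) : Q ≠ ⊥ := fun e => by
  have := h.card_syl hQ
  have := h.three_le
  rw [e, card_bot] at *
  omega

theorem Min.le_norm_of_good (h : Min p G) (hH : H ≠ ⊤) (hQ : Good p Q Y) (h1 : Q ≤ H)
    (h2 : Y ≤ H) : H ≤ 𝐍(Q) := by
  rcases h.dich hH ((dvd_card_of_isPGroup hQ.syl.isPGroup (h.syl_ne_bot hQ.syl)).trans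
    (card_dvd h1)) with h3 | ⟨S, hS, h3⟩
  · exact absurd h3 (h.not_syl_Op hQ h1 h2)
  · rw [(hS.mono h3.le le_top).eq_of_normal h3.norm (hQ.syl.mono h1 le_top)]
    exact h3.norm

theorem Min.le_cent_of_fix (h : Min p G) (hQ : Syl 2 Q ⊤) (hY : IsPGroup p Y) (hn : Y ≤ 𝐍(Q))
    (hs : s ∈ Q) (h1 : s ≠ 1) (hc : Y ≤ 𝐂[s]) : Y ≤ 𝐂(Q) := by
  by_contra h2
  have h3 := (h.card_trans ⟨hQ, hY, hn, h2⟩).2
  refine h2 (le_cent_symm fun v hv => ?_)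
  by_cases h4 : v = 1
  · rw [h4]; exact one_mem _
  obtain ⟨z, hz, rfl⟩ := h3 s hs h1 v hv h4
  rw [mem_cent1_iff_conj.1 (hc hz)]
  exact le_cent1_iff.1 hc

theorem Min.syl_cent (h : Min p G) (ht : t * t = 1) (h1 : t ≠ 1) : Syl p (Op p 𝐂[t]) 𝐂[t] := by
  refine syl_of_pnil h.p2 (h.proper _ (h.cent_ne_top ht h1)
    (two_dvd_of_mem ht h1 (mem_cent1_self t))) ?_
  by_contra h2
  obtain ⟨Q, hQ, Y, hY, hg⟩ := h.exists_good h2
  exact hg.ncent (h.le_cent_of_fix hg.syl hg.pgrp hg.norm (hg.syl.mem_of_mem_norm trivial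
    (cent_le_norm Q (le_cent1_iff.1 hQ)) (isPGroup_zpowers_iff.1 (isPGroup_inv2 ht))) h1 hY)

theorem Min.uniq_syl (h : Min p G) (hW : IsPGroup p W) (h0 : W ≠ ⊥) (ht : t * t = 1) (h1 : t ≠ 1)
    (hn : t ∈ 𝐍(W)) (hc : ∀ Q, Syl 2 Q (⊤ : Subgroup G) → t ∈ Q → ¬ W ≤ 𝐂(Q)) (hP : Syl p P ⊤)
    (hWP : W ≤ P) : 𝐍(W) ≤ 𝐍(P) := by
  rcases h.dich (h.norm_ne_top h0 (pip hW)) (two_dvd_of_mem ht h1 hn) with h2 | ⟨Q, hQ, h2⟩
  · rw [eq_Op_of_syl h2 (hP.mono (le_norm_of_ab (h.ab P hP.isPGroup) hWP) le_top)]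
    exact (Op_normal p _).norm
  · refine absurd (le_cent_of_coprime ((le_norm_self W).trans h2.norm) h2.le
      (coprime_of_isPGroup_ne hW hQ.isPGroup h.p2)) (hc Q hQ ?_)
    exact hQ.mem_of_mem_norm trivial (h2.norm hn) (isPGroup_zpowers_iff.1 (isPGroup_inv2 ht))

theorem Min.eq_one_of_inv (h : Min p G) (hx : PiElt {p} x) (h1 : x = x⁻¹) : x = 1 :=
  hx.eq_one (isPGroup_zpowers_iff.1 (isPGroup_inv2 (mul_eq_one_iff_eq_inv.2 h1)) |>.mono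
    (by simpa using h.p2))

theorem Min.norm_of_inv (h : Min p G) (hx : PiElt {p} x) (h0 : x ≠ 1) (ht : t * t = 1)
    (hi : t * x * t⁻¹ = x⁻¹) (hP : Syl p P ⊤) (hxP : x ∈ P) : 𝐍(zpowers x) ≤ 𝐍(P) := by
  have h1 : t ∉ 𝐂[x] := fun e => h0 (h.eq_one_of_inv hx (by rw [← hi, mem_cent1_iff_conj.1 e]))
  refine h.uniq_syl (isPGroup_zpowers_iff.2 hx) (by simpa using h0) ht
    (by rintro rfl; exact h1 (one_mem _)) (mem_norm_of_inv hi) (fun Q _ h2 h3 => h1 ?_) hP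
    (zpowers_le.2 hxP)
  rw [← cent_zpowers]
  exact le_cent_symm h3 h2

theorem Min.piElt_of_inv (h : Min p G) (ht : t * t = 1) (h1 : t ≠ 1) (hi : t * g * t⁻¹ = g⁻¹) :
    PiElt {2, p} g := by
  intro r hr hd
  obtain ⟨w, hw, h2⟩ := cauchy (H := zpowers g) hr (by rwa [Nat.card_zpowers])
  by_cases h3 : r = 2
  · simp [h3]
  have := h.hyp.eq_of_norm (Q := zpowers t) (Y := zpowers w) h.p2 hr h3 (isPGroup_inv2 ht)
    (isPGroup_of_card_prime_pow (n := 1) (by rw [Nat.card_zpowers, h2, pow_one]))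
    (by simpa using h1) (by rw [ne_eq, zpowers_eq_bot]; rintro rfl; simp at h2; exact hr.ne_one h2.symm)
    (Or.inr (zpowers_le.2 (mem_norm_of_inv (inv_of_mem_zpowers hi hw))))
  simp [this]

theorem Min.piElt_two (h : Min p G) (hg : PiElt {2, p} g) (h1 : constt {p} g = 1) : g * g = 1 := by
  refine h.sq_of_mem (isPGroup_zpowers_iff.2 fun r hr hd => ?_) (mem_zpowers g)
  have h2 := hg r hr hd
  have h3 := constt_eq_one_iff.1 h1 r hr hd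
  simp only [Set.mem_compl_iff, Set.mem_singleton_iff, Set.mem_insert_iff] at h2 h3 ⊢
  exact h2.resolve_right h3

theorem piElt_p (hg : PiElt {2, p} g) (h1 : constt {2} g = 1) : PiElt {p} g := by
  intro r hr hd
  have h2 := hg r hr hd
  have h3 := constt_eq_one_iff.1 h1 r hr hd
  simp only [Set.mem_compl_iff, Set.mem_singleton_iff, Set.mem_insert_iff] at h2 h3 ⊢
  exact h2.resolve_left h3

theorem comm_of_sq (ht : t * t = 1) (hu : u * u = 1) (h : t * u * (t * u) = 1) : t * u = u * t := by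
  rw [← inv_eq_of_mul_eq_one_right h, mul_inv_rev, inv_eq_of_mul_eq_one_right ht,
    inv_eq_of_mul_eq_one_right hu]

theorem Min.exists_inv (h : Min p G) (ht : t * t = 1) (h1 : t ≠ 1) :
    ∃ x, PiElt {p} x ∧ x ≠ 1 ∧ t * x * t⁻¹ = x⁻¹ := by
  by_contra h2
  push Not at h2
  have h3 : ∀ g : G, g * t * g⁻¹ ∈ 𝐂[t] := fun g => by
    have h3 : g * t * g⁻¹ * (g * t * g⁻¹) = 1 := by
      calc g * t * g⁻¹ * (g * t * g⁻¹) = g * (t * t) * g⁻¹ := by group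
        _ = 1 := by rw [ht]; group
    have h4 := inv_left ht h3
    refine mem_cent1.2 (comm_of_sq ht h3 (h.piElt_two (h.piElt_of_inv ht h1 h4) ?_)).symm
    by_contra h5
    exact h2 _ (piElt_constt _ _) h5 (inv_of_mem_zpowers h4 (constt_mem_zpowers _ _))
  rcases h.simple (normalClosure {t}) inferInstance with h4 | h4
  · exact h1 (by simpa [h4] using subset_normalClosure (s := {t}) rfl)
  · refine h.cent_ne_top ht h1 (top_le_iff.1 ?_)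
    rw [← h4, normalClosure, closure_le]
    intro y hy
    obtain ⟨_, rfl, h5⟩ := Group.mem_conjugatesOfSet_iff.1 hy
    obtain ⟨g, rfl⟩ := isConj_iff.1 h5
    exact h3 g

/-- No nontrivial `p`-element centralizes a Sylow `2`-subgroup. -/
theorem Min.case1 (h : Min p G) (hQ : Syl 2 Q ⊤) (hw : PiElt {p} w) (hc : w ∈ 𝐂(Q)) : w = 1 := by
  by_contra h0
  have hC : ∀ Q : Subgroup G, Syl 2 Q ⊤ → Syl p (Op p 𝐂(Q)) 𝐂(Q) := fun Q hQ => by
    obtain ⟨s, hs, h1⟩ := exists_mem_ne_one (h.syl_ne_bot hQ)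
    exact syl_Op_of_le (h.syl_cent (h.sq_of_mem hQ.isPGroup hs) h1) (cent_le_cent1 hs)
  have hA : ∀ Q : Subgroup G, Syl 2 Q ⊤ → ∀ W ≤ Op p 𝐂(Q), W ≠ ⊥ → 𝐍(W) ≤ 𝐍(Q) := by
    intro Q hQ W hW hW0
    obtain ⟨Y, hY⟩ := h.good_of_syl hQ
    refine h.le_norm_of_good (h.norm_ne_top hW0 (pip ((Op_isPGroup p _).to_le hW))) hY
      (le_norm_of_le_cent (le_cent_symm (hW.trans (Op_le p _)))) (le_norm_of_le_cent ?_)
    exact le_cent_mono (Ab.le_cent (h.ab _ (isPGroup_sup hY.pgrp (Op_isPGroup p 𝐂(Q))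
      (Or.inl (le_norm_Op p (le_norm_cent hY.norm)))))) le_sup_left (hW.trans le_sup_right)
  have hA' : ∀ Q : Subgroup G, Syl 2 Q ⊤ → ∀ w, PiElt {p} w → w ≠ 1 → w ∈ 𝐂(Q) →
      𝐍(zpowers w) ≤ 𝐍(Q) := fun Q hQ w hw h0 hc =>
    hA Q hQ _ (le_Op_of_syl (hC Q hQ) (zpowers_le.2 hc) (isPGroup_zpowers_iff.2 hw))
      (by simpa using h0)
  obtain ⟨t, ht, h1⟩ := exists_mem_ne_one (h.syl_ne_bot hQ)
  have ht2 := h.sq_of_mem hQ.isPGroup ht
  obtain ⟨x, hx, hx1, hi⟩ := h.exists_inv ht2 h1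
  obtain ⟨P, hP, hxP⟩ := exists_syl_ge (le_top : zpowers x ≤ ⊤) (isPGroup_zpowers_iff.2 hx)
  have htP : t ∈ 𝐍(P) := h.norm_of_inv hx hx1 ht2 hi hP (hxP (mem_zpowers x)) (mem_norm_of_inv hi)
  have h2 : P ⊓ 𝐂[t] = ⊥ := by
    by_contra h2
    obtain ⟨z, hz, hz1⟩ := exists_mem_ne_one h2
    have h3 : Op p 𝐂(Q) ≤ Op p 𝐂[t] :=
      le_Op_of_syl (h.syl_cent ht2 h1) ((Op_le p _).trans (cent_le_cent1 ht)) (Op_isPGroup p _)
    have h4 : Op p 𝐂[t] ≤ 𝐂(Q) := by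
      refine h.le_cent_of_fix hQ (Op_isPGroup p _) (le_trans ?_ (hA Q hQ _ le_rfl fun e => h0 ?_))
        ht h1 (Op_le p _)
      · exact le_norm_of_ab (h.ab _ (Op_isPGroup p _)) h3
      · simpa [e] using le_Op_of_syl (hC Q hQ) (zpowers_le.2 hc) (isPGroup_zpowers_iff.2 hw)
    have h5 : P ≤ 𝐍(Q) := (le_norm_of_ab (h.ab P hP.isPGroup) (zpowers_le.2 hz.1)).trans
      (hA' Q hQ z (hP.piGrp.piElt hz.1) hz1 (h4 (le_Op_of_syl (h.syl_cent ht2 h1) inf_le_right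
        hP.isPGroup.to_inf_left hz)))
    have h6 : P ≤ 𝐂(zpowers t) := by
      rw [← OO.commutator_eq_bot_iff, ← le_bot_iff, ← inf_eq_bot_of_coprime_card
        (coprime_of_isPGroup_ne hP.isPGroup hQ.isPGroup h.p2)]
      exact le_inf (commutator_le_left' (zpowers_le.2 htP))
        ((commutator_mono le_rfl (zpowers_le.2 ht)).trans (commutator_le_right' h5))
    rw [cent_zpowers] at h6
    exact hx1 (h.eq_one_of_inv hx
      (by rw [← hi, mem_cent1_iff_conj.1 (mem_cent1_comm.1 (h6 (hxP (mem_zpowers x))))]))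
  obtain ⟨g, -, hg⟩ := hP.exists_conj_le (le_top : zpowers w ≤ ⊤) (isPGroup_zpowers_iff.2 hw)
  have h3 : g * w * g⁻¹ ∈ P := hg (conj_mem_conj (mem_zpowers w))
  have h4 : g * w * g⁻¹ ∈ 𝐂(g •ᶜ Q) := by rw [cent_conj]; exact conj_mem_conj hc
  have h5 := hQ.conj_of_mem (mem_top g)
  have h6 : t ∈ g •ᶜ Q := h5.mem_of_mem_norm trivial (hA' _ h5 _ (hw.conj g) (conj_ne_one.2 h0) h4
    (mem_norm_of_inv (inverts_of_fpf (h.ab P hP.isPGroup) ht2 htP h2 h3)))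
    (isPGroup_zpowers_iff.1 (isPGroup_inv2 ht2))
  have h7 : g * w * g⁻¹ ∈ P ⊓ 𝐂[t] := ⟨h3, cent_le_cent1 h6 h4⟩
  rw [h2, mem_bot] at h7
  exact conj_ne_one.2 h0 h7

end Cfsg.Agent.Mix
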