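import Cfsg.Agent.Lib.Core.MixB

/-! # Groups whose `p'`-subgroups of order divisible by `q` are `q`-groups, III: the theorem -/

set_option autoImplicit false
set_option linter.unusedSectionVars false

namespace Cfsg.Agent.Mix

open Subgroup Cfsg.Agent.Coprime Cfsg.Agent.OO
open scoped Pointwise commutatorElement

universe u

variable {G : Type u} [Group G] [Finite G]

variable {p q : ℕ} {H K P P' Q W Y : Subgroup G} {s t u v w x y g : G}

variable [hp : Fact p.Prime]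

theorem Min.norm_le (h : Min p G) (hw : PiElt {p} w) (h0 : w ≠ 1) (hs : s * s = 1) (h1 : s ≠ 1)
    (hn : s ∈ 𝐍(zpowers w)) (hP : Syl p P ⊤) (hwP : w ∈ P) : 𝐍(zpowers w) ≤ 𝐍(P) :=
  h.uniq_syl (isPGroup_zpowers_iff.2 hw) (by simpa using h0) hs h1 hn
    (fun _ hQ _ e => h0 (h.case1 hQ hw (e (mem_zpowers w)))) hP (zpowers_le.2 hwP)

theorem Min.syl_eq (h : Min p G) (h0 : w ≠ 1) (hs : s * s = 1) (h1 : s ≠ 1)
    (hn : s ∈ 𝐍(zpowers w)) (hP : Syl p P ⊤) (hwP : w ∈ P) (hP' : Syl p P' ⊤) (hwP' : w ∈ P') :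
    P = P' :=
  hP.eq_of_le_syl hP' (hP'.le_of_norm le_top hP.isPGroup (Or.inr
    ((le_norm_of_ab (h.ab P hP.isPGroup) (zpowers_le.2 hwP)).trans
      (h.norm_le (hP.piGrp.piElt hwP) h0 hs h1 hn hP' hwP'))))

theorem mem_norm_of_cent (h : w ∈ 𝐂[s]) : s ∈ 𝐍(zpowers w) :=
  cent_le_norm _ (by rw [cent_zpowers]; exact mem_cent1_comm.1 h)

theorem sq_conj (ht : t * t = 1) (g : G) : g * t * g⁻¹ * (g * t * g⁻¹) = 1 := by
  calc g * t * g⁻¹ * (g * t * g⁻¹) = g * (t * t) * g⁻¹ := by group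
    _ = 1 := by rw [ht]; group

/-- The Sylow `p`-subgroup `P` meets the centralizer of the involution `s`. -/
structure Rel (p : ℕ) (s : G) (P : Subgroup G) : Prop where
  sq : s * s = 1
  ne : s ≠ 1
  syl : Syl p P ⊤
  meet : P ⊓ 𝐂[s] ≠ ⊥

theorem Rel.conj (h : Rel p s P) (g : G) : Rel p (g * s * g⁻¹) (g •ᶜ P) :=
  ⟨sq_conj h.sq g, conj_ne_one.2 h.ne, h.syl.conj_of_mem trivial, by
    rw [cent1_conj, ← conj_inf]; exact fun e => h.meet (conj_eq_bot_iff.1 e)⟩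

theorem Min.rel_uniq (h : Min p G) (h1 : Rel p s P) (h2 : Rel p s P') : P = P' := by
  obtain ⟨S, hS, h3⟩ := exists_syl_ge (le_top : Op p 𝐂[s] ≤ ⊤) (Op_isPGroup p _)
  have key : ∀ P, Rel p s P → P = S := fun P hP => by
    obtain ⟨w, hw, hw1⟩ := exists_mem_ne_one hP.meet
    exact h.syl_eq hw1 hP.sq hP.ne (mem_norm_of_cent hw.2) hP.syl hw.1 hS (h3 (le_Op_of_syl
      (h.syl_cent hP.sq hP.ne) inf_le_right hP.syl.isPGroup.to_inf_left hw))
  rw [key P h1, key P' h2]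

theorem Min.rel_norm (h : Min p G) (h1 : Rel p s P) : 𝐂[s] ≤ 𝐍(P) := fun g hg => by
  have h2 := h1.conj g
  rw [mem_cent1_iff_conj.1 hg] at h2
  exact conj_eq_self_iff.1 (h.rel_uniq h2 h1)

theorem Min.le_cent1 (h : Min p G) (hQ : IsPGroup 2 Q) (hs : s ∈ Q) : Q ≤ 𝐂[s] :=
  (Ab.le_cent (h.ab2 hQ)).trans (cent_le_cent1 hs)

theorem Min.rel_inj (h : Min p G) (h1 : Rel p s P) (h2 : Rel p v P) (hQ : Syl 2 Q ⊤) (hs : s ∈ Q)
    (hv : v ∈ Q) : v = s := by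
  obtain ⟨Y, hY⟩ := h.good_of_syl hQ
  obtain ⟨z, hz, rfl⟩ := (h.card_trans hY).2 s hs h1.ne v hv h2.ne
  have h3 : z ∈ P := h1.syl.mem_of_mem_norm trivial
    (conj_eq_self_iff.1 (h.rel_uniq (h1.conj z) h2)) ((piGrp_singleton hY.pgrp).piElt hz)
  have h4 : zpowers z ≤ 𝐂(Q) := by
    rw [← OO.commutator_eq_bot_iff, ← le_bot_iff, ← inf_eq_bot_of_coprime_card
      (coprime_of_isPGroup_ne h1.syl.isPGroup hQ.isPGroup h.p2)]
    exact le_inf ((commutator_mono (zpowers_le.2 h3) le_rfl).trans (commutator_le_left'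
      ((h.le_cent1 hQ.isPGroup hs).trans (h.rel_norm h1))))
      (commutator_le_right' (zpowers_le.2 (hY.norm hz)))
  exact mem_cent_iff_conj.1 (h4 (mem_zpowers z)) s hs

theorem Min.rel_inverts (h : Min p G) (h1 : Rel p s P) (hQ : Syl 2 Q ⊤) (hs : s ∈ Q) (hv : v ∈ Q)
    (hv1 : v ≠ 1) (hvs : v ≠ s) (hw : w ∈ P) : v * w * v⁻¹ = w⁻¹ := by
  have h2 := h.sq_of_mem hQ.isPGroup hv
  refine inverts_of_fpf (h.ab P h1.syl.isPGroup) h2 (h.rel_norm h1 (h.le_cent1 hQ.isPGroup hs hv))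
    ?_ hw
  by_contra h3
  exact hvs (h.rel_inj h1 ⟨h2, hv1, h1.syl, h3⟩ hQ hs hv)

theorem Min.exists_third (h : Min p G) (hQ : Syl 2 Q ⊤) (hs : s * s = 1) :
    ∃ v ∈ Q, v ≠ 1 ∧ v ≠ s := by
  by_contra h1
  push Not at h1
  have h2 : Q ≤ zpowers s := fun v hv => by
    by_cases h2 : v = 1
    · rw [h2]; exact one_mem _
    · rw [h1 v hv h2]; exact mem_zpowers s
  have h3 := card_le h2
  have h4 : orderOf s ≤ 2 := orderOf_le_of_pow_eq_one two_pos (by rw [sq, hs])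
  rw [Nat.card_zpowers, h.card_syl hQ] at h3
  have := h.three_le
  omega

theorem cent_of_inv_inv (h1 : u * w * u⁻¹ = w⁻¹) (h2 : v * w * v⁻¹ = w⁻¹) : w ∈ 𝐂[u * v] := by
  refine mem_cent1_comm.1 (mem_cent1_iff_conj.2 ?_)
  calc u * v * w * (u * v)⁻¹ = u * (v * w * v⁻¹) * u⁻¹ := by group
    _ = (u * w * u⁻¹)⁻¹ := by rw [h2]; group
    _ = w := by rw [h1, inv_inv]

theorem Min.rel_cent (h : Min p G) (h1 : Rel p s P) : P ≤ 𝐂[s] := fun w hw => by
  obtain ⟨Q, hQ, hs⟩ := exists_syl_mem h1.sq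
  obtain ⟨v, hv, h2, h3⟩ := h.exists_third hQ h1.sq
  have h4 := h.sq_of_mem hQ.isPGroup hv
  have h5 := cent_of_inv_inv (h.rel_inverts h1 hQ hs hv h2 h3 hw)
    (h.rel_inverts h1 hQ hs (mul_mem hv hs) (fun e => h3 (by
      rw [eq_inv_of_mul_eq_one_left e, inv_eq_of_mul_eq_one_right h1.sq])) (by simpa using h2) hw)
  rwa [← mul_assoc, h4, one_mul] at h5

theorem Min.rel_norm_le (h : Min p G) (h1 : Rel p s P) : 𝐍(P) ≤ 𝐂[s] := by
  obtain ⟨Q, hQ, hs⟩ := exists_syl_mem h1.sq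
  have h2 := (h.le_cent1 hQ.isPGroup hs).trans (h.rel_norm h1)
  have h3 := h.proper _ (h.norm_ne_top (fun e => h1.meet (by simp [e])) (pip h1.syl.isPGroup))
    (two_dvd_of_mem h1.sq h1.ne (h2 hs))
  refine le_of_forall_syl fun r hr hd => ?_
  rcases h3 r hr hd with rfl | rfl
  · exact ⟨Q, hQ.mono h2 le_top, h.le_cent1 hQ.isPGroup hs⟩
  · exact ⟨P, h1.syl.mono (le_norm_self P) le_top, h.rel_cent h1⟩

theorem exists_syl_of_comm (hs : s * s = 1) (ht : t * t = 1) (hu : u * u = 1) (h1 : t ∈ 𝐂[s])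
    (h2 : u ∈ 𝐂[s]) (h3 : u ∈ 𝐂[t]) : ∃ Q, Syl 2 Q (⊤ : Subgroup G) ∧ s ∈ Q ∧ t ∈ Q ∧ u ∈ Q := by
  obtain ⟨Q, hQ, h4⟩ := exists_syl_ge (le_top : zpowers s ⊔ zpowers t ⊔ zpowers u ≤ ⊤)
    (isPGroup_sup (isPGroup_sup (isPGroup_inv2 hs) (isPGroup_inv2 ht)
      (Or.inl (zpowers_le.2 (mem_norm_of_cent h1)))) (isPGroup_inv2 hu)
      (Or.inl (sup_le (zpowers_le.2 (mem_norm_of_cent h2)) (zpowers_le.2 (mem_norm_of_cent h3)))))
  exact ⟨Q, hQ, h4 (mem_sup_left (mem_sup_left (mem_zpowers s))),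
    h4 (mem_sup_left (mem_sup_right (mem_zpowers t))), h4 (mem_sup_right (mem_zpowers u))⟩

theorem Min.rel_inj' (h : Min p G) (h1 : Rel p s P) (h2 : Rel p v P) : v = s := by
  have h3 : v ∈ 𝐂[s] := h.rel_norm_le h1 (h.rel_norm h2 (mem_cent1_self v))
  obtain ⟨Q, hQ, h4, h5, -⟩ := exists_syl_of_comm h1.sq h2.sq h2.sq h3 h3 (mem_cent1_self v)
  exact h.rel_inj h1 h2 hQ h4 h5

theorem Min.case2b (h : Min p G) {s0 : G} {P0 : Subgroup G} (h0 : Rel p s0 P0) : False := by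
  have e1 : ∀ s : G, s * s = 1 → s ≠ 1 → ∃ P, Rel p s P := fun s hs h1 => by
    obtain ⟨g, rfl⟩ := h.conj_inv h0.sq h0.ne hs h1
    exact ⟨_, h0.conj g⟩
  have e2 : ∀ P : Subgroup G, Syl p P ⊤ → ∃ s, Rel p s P := fun P hP => by
    obtain ⟨g, -, rfl⟩ := h0.syl.exists_conj' hP
    exact ⟨_, h0.conj g⟩
  let I := {t : G // t * t = 1 ∧ t ≠ 1}
  have : Nonempty I := ⟨⟨s0, h0.sq, h0.ne⟩⟩
  let r : I → I → Prop := fun a b => a.1 ≠ b.1 ∧ a.1 ∈ 𝐂[b.1]
  refine friendship r (fun a b hab => ⟨hab.1.symm, mem_cent1_comm.1 hab.2⟩) (fun a ha => ha.1 rfl)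
    ?_ (d := {c | r c ⟨s0, h0.sq, h0.ne⟩}.ncard) ?_ ?_
  · rintro ⟨t, ht, ht1⟩ ⟨u, hu, hu1⟩ hne
    have h1 : t ≠ u := fun e => hne (Subtype.ext e)
    have hg1 : t * u ≠ 1 := fun e => h1 (by
      rw [eq_inv_of_mul_eq_one_left e, inv_eq_of_mul_eq_one_right hu])
    have i1 := inv_left ht hu
    have i2 := inv_right ht hu
    have hπ := h.piElt_of_inv ht ht1 i1
    have hex : ∃ s : G, s * s = 1 ∧ s ≠ 1 ∧ (s ≠ t ∧ s ∈ 𝐂[t]) ∧ s ≠ u ∧ s ∈ 𝐂[u] := by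
      by_cases h2 : constt {2} (t * u) = 1
      · have h3 := piElt_p hπ h2
        obtain ⟨P, hP, h4⟩ := exists_syl_ge (le_top : zpowers (t * u) ≤ ⊤)
          (isPGroup_zpowers_iff.2 h3)
        obtain ⟨s, hs⟩ := e2 P hP
        have h5 := (h.norm_of_inv h3 hg1 ht i1 hP (h4 (mem_zpowers _))).trans (h.rel_norm_le hs)
        have h6 := mem_cent1_iff_conj.1 (mem_cent1_comm.1 (h.rel_cent hs (h4 (mem_zpowers _))))
        refine ⟨s, hs.sq, hs.ne, ⟨?_, mem_cent1_comm.1 (h5 (mem_norm_of_inv i1))⟩, ?_,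
          mem_cent1_comm.1 (h5 (mem_norm_of_inv i2))⟩
        · rintro rfl; exact hg1 (h.eq_one_of_inv h3 (h6.symm.trans i1))
        · rintro rfl; exact hg1 (h.eq_one_of_inv h3 (h6.symm.trans i2))
      · have h3 := h.sq_of_mem (isPGroup_zpowers_iff.2 (piElt_constt {2} (t * u))) (mem_zpowers _)
        have h4 := constt_mem_zpowers {2} (t * u)
        have h5 : ∀ a : G, a * (t * u) * a⁻¹ = (t * u)⁻¹ → a ≠ t * u →
            constt {2} (t * u) ≠ a ∧ constt {2} (t * u) ∈ 𝐂[a] := fun a ha ha' => by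
          refine ⟨fun e => ha' ?_, mem_cent1_comm.1 (mem_cent1_iff_conj.2 ?_)⟩
          · have h5 := (commute_constt {2} (t * u)).eq
            rw [e] at h5
            rw [h5, mul_inv_cancel_right] at ha
            rw [← e]
            exact constt_eq_self (isPGroup_zpowers_iff.1 (isPGroup_inv2
              (mul_eq_one_iff_eq_inv.2 ha)))
          · rw [inv_of_mem_zpowers ha h4, inv_eq_of_mul_eq_one_right h3]
        exact ⟨_, h3, h2, h5 t i1 (by simpa using hu1), h5 u i2 (by simpa using ht1)⟩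
    obtain ⟨s, hs, hs1, hs2⟩ := hex
    refine ⟨⟨s, hs, hs1⟩, hs2, ?_⟩
    rintro ⟨s', hs', hs1'⟩ hs2'
    refine Subtype.ext (?_ : s' = s)
    have hc : ∀ a : G, a ∈ 𝐂[t] → a ∈ 𝐂[u] → t * u ∈ 𝐂[a] := fun a h2 h3 =>
      mul_mem (mem_cent1_comm.1 h2) (mem_cent1_comm.1 h3)
    by_cases h2 : constt {p} (t * u) = 1
    · have h3 := mem_cent1.2 (comm_of_sq ht hu (h.piElt_two hπ h2)).symm
      have key : ∀ a : G, a * a = 1 → a ≠ 1 → (a ≠ t ∧ a ∈ 𝐂[t]) ∧ a ≠ u ∧ a ∈ 𝐂[u] →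
          t * u = a := fun a ha ha1 ha2 => by
        obtain ⟨Q, hQ, h4, h5, h6⟩ := exists_syl_of_comm ha ht hu (mem_cent1_comm.1 ha2.1.2)
          (mem_cent1_comm.1 ha2.2.2) h3
        obtain ⟨P, hP⟩ := e1 a ha ha1
        refine h.rel_inj' hP ⟨h.piElt_two hπ h2, hg1, hP.syl, fun e => hP.meet ?_⟩
        rw [← le_bot_iff, ← e]
        exact inf_le_left.trans (le_inf le_rfl fun w hw => cent_of_inv_inv
          (h.rel_inverts hP hQ h4 h5 ht1 ha2.1.1.symm hw)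
          (h.rel_inverts hP hQ h4 h6 hu1 ha2.2.1.symm hw))
      rw [← key s hs hs1 hs2, ← key s' hs' hs1' hs2']
    · obtain ⟨P, hP, h4⟩ := exists_syl_ge (le_top : zpowers (constt {p} (t * u)) ≤ ⊤)
        (isPGroup_zpowers_iff.2 (piElt_constt _ _))
      have key : ∀ a : G, a * a = 1 → a ≠ 1 → a ∈ 𝐂[t] → a ∈ 𝐂[u] → Rel p a P :=
        fun a ha ha1 h5 h6 => ⟨ha, ha1, hP, fun e => h2 (mem_bot.1 (e ▸
          ⟨h4 (mem_zpowers _), constt_mem _ (hc a h5 h6)⟩))⟩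
      exact h.rel_inj' (key s hs hs1 hs2.1.2 hs2.2.2) (key s' hs' hs1' hs2'.1.2 hs2'.2.2)
  · rintro ⟨t, ht, ht1⟩
    obtain ⟨g, rfl⟩ := h.conj_inv h0.sq h0.ne ht ht1
    symm
    refine Set.ncard_congr (fun c _ => ⟨g * c.1 * g⁻¹, sq_conj c.2.1 g, conj_ne_one.2 c.2.2⟩)
      (fun c hc => ⟨by simpa using hc.1, by rw [cent1_conj]; exact conj_mem_conj hc.2⟩)
      (fun a b _ _ e => Subtype.ext (by simpa using congrArg Subtype.val e)) fun c hc => ?_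
    refine ⟨⟨g⁻¹ * c.1 * g⁻¹⁻¹, sq_conj c.2.1 _, conj_ne_one.2 c.2.2⟩, ⟨fun e => hc.1 ?_, ?_⟩,
      Subtype.ext (by simp [mul_assoc])⟩
    · change c.1 = g * s0 * g⁻¹
      rw [← show g⁻¹ * c.1 * g⁻¹⁻¹ = s0 from e]; group
    · have := hc.2
      change c.1 ∈ 𝐂[g * s0 * g⁻¹] at this
      rw [cent1_conj, mem_conj] at this
      simpa using this
  · obtain ⟨Q, hQ, hs⟩ := exists_syl_mem h0.sq
    obtain ⟨v, hv, h2, h3⟩ := h.exists_third hQ h0.sq
    obtain ⟨w, ⟨hw, hw'⟩, hw1⟩ := exists_mem_ne_one h0.meet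
    have h4 := h.sq_of_mem hQ.isPGroup hv
    have h5 : w ∉ Q := fun e => hw1 (mem_bot.1 (inf_eq_bot_of_coprime_card
      (coprime_of_isPGroup_ne h0.syl.isPGroup hQ.isPGroup h.p2) ▸ (⟨hw, e⟩ : w ∈ P0 ⊓ Q)))
    have h6 : v * w ∉ Q := fun e => h5 ((mul_mem_cancel_left hv).1 e)
    have h7 := h.rel_inverts h0 hQ hs hv h2 h3 hw
    have h8 := h.le_cent1 hQ.isPGroup hs
    have h9 : v * s0 ≠ 1 := fun e => h3 (by
      rw [eq_inv_of_mul_eq_one_left e, inv_eq_of_mul_eq_one_right h0.sq])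
    refine (Set.two_lt_ncard_iff (Set.toFinite _)).2 ⟨⟨v, h4, h2⟩,
      ⟨v * s0, h.sq_of_mem hQ.isPGroup (mul_mem hv hs), h9⟩, ⟨v * w, ?_, fun e => h6 (e ▸ one_mem _)⟩,
      ⟨h3, h8 hv⟩, ⟨by simpa using h2, h8 (mul_mem hv hs)⟩, ⟨fun e => h6 ?_, mul_mem (h8 hv) hw'⟩,
      fun e => h0.ne (by simpa using congrArg Subtype.val e), fun e => h6 ?_, fun e => h6 ?_⟩
    · rw [inv_eq_of_mul_eq_one_right h4] at h7
      rw [← mul_assoc, h7, inv_mul_cancel]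
    · rw [show v * w = s0 from e]; exact hs
    · rw [← show v = v * w from congrArg Subtype.val e]; exact hv
    · rw [← show v * s0 = v * w from congrArg Subtype.val e]; exact mul_mem hv hs

theorem Min.case2a (h : Min p G) (h0 : ∀ (s : G) (P : Subgroup G), ¬ Rel p s P) : False := by
  classical
  have := Fintype.ofFinite G
  obtain ⟨Q, hQ⟩ := exists_syl 2 (⊤ : Subgroup G)
  obtain ⟨u, huQ, hu1⟩ := exists_mem_ne_one (h.syl_ne_bot hQ)
  have hu := h.sq_of_mem hQ.isPGroup huQ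
  have c1 : ∀ s : G, s * s = 1 → s ≠ 1 → IsPGroup 2 𝐂[s] := fun s hs h1 => by
    refine h.hyp.mix _ (fun e => ?_) (two_dvd_of_mem hs h1 (mem_cent1_self s))
    obtain ⟨S, hS, h3⟩ := exists_syl_ge (le_top : Op p 𝐂[s] ≤ ⊤) (Op_isPGroup p _)
    exact h0 s S ⟨hs, h1, hS, fun e' => (h.syl_cent hs h1).ne_bot e
      (le_bot_iff.1 (e' ▸ le_inf h3 (Op_le p _)))⟩
  have c2 : 𝐂[u] = Q := hQ.eq_of_le (h.le_cent1 hQ.isPGroup huQ) le_top (c1 u hu hu1)
  have c3 : ∀ P : Subgroup G, Syl p P ⊤ → ∀ t, t * t = 1 → t ≠ 1 → t ∈ 𝐍(P) → ∀ w ∈ P,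
      t * w * t⁻¹ = w⁻¹ := fun P hP t ht ht1 hn w hw =>
    inverts_of_fpf (h.ab P hP.isPGroup) ht hn (by_contra fun e => h0 t P ⟨ht, ht1, hP, e⟩) hw
  obtain ⟨x0, hx0, hx1, hi0⟩ := h.exists_inv hu hu1
  obtain ⟨P, hP, h1⟩ := exists_syl_ge (le_top : zpowers x0 ≤ ⊤) (isPGroup_zpowers_iff.2 hx0)
  have huP : u ∈ 𝐍(P) := h.norm_of_inv hx0 hx1 hu hi0 hP (h1 (mem_zpowers _)) (mem_norm_of_inv hi0)
  have hP0 : P ≠ ⊥ := fun e => hx1 (by simpa [e] using h1)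
  have hPQ : ∀ w ∈ P, w ∈ Q → w = 1 := fun w h2 h3 => mem_bot.1 (inf_eq_bot_of_coprime_card
    (coprime_of_isPGroup_ne hP.isPGroup hQ.isPGroup h.p2) ▸ (⟨h2, h3⟩ : w ∈ P ⊓ Q))
  have c4 : 𝐂(P) ≤ P := by
    have h3 := h.proper _ (h.norm_ne_top hP0 (pip hP.isPGroup)) (two_dvd_of_mem hu hu1 huP)
    refine le_of_forall_syl fun r hr hd => ?_
    rcases h3 r hr (hd.trans (card_dvd (cent_le_norm P))) with rfl | rfl
    · obtain ⟨t, ht, h4⟩ := cauchy hr hd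
      have h5 : t * t = 1 := by rw [← sq, ← h4, pow_orderOf_eq_one]
      exact absurd ⟨h5, by rintro rfl; simp at h4, hP, by
        rwa [inf_eq_left.2 (le_cent1_iff.2 ht)]⟩ (h0 t P)
    · exact ⟨P, hP.mono (Ab.le_cent (h.ab P hP.isPGroup)) le_top, le_rfl⟩
  let E : Set G := {x | u * x * u⁻¹ = x⁻¹}
  have hQE : (Q : Set G) ⊆ E := fun x hx => by
    change u * x * u⁻¹ = x⁻¹
    rw [mem_cent1_iff_conj.1 (mem_cent1_comm.1 (c2.ge hx)),
      inv_eq_of_mul_eq_one_right (h.sq_of_mem hQ.isPGroup hx)]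
  have hE : E.ncard = 𝐂[u].index + 1 := by
    have e1 : E = (fun v => u * v) '' insert 1 (conjugatesOf u) := by
      ext x
      constructor
      · intro hx
        have h2 : u * x * (u * x) = 1 := by
          have h2 : u * x * u⁻¹ = x⁻¹ := hx
          rw [inv_eq_of_mul_eq_one_right hu] at h2
          rw [← mul_assoc, h2, inv_mul_cancel]
        refine ⟨u * x, ?_, by simp only [← mul_assoc, hu, one_mul]⟩
        by_cases h3 : u * x = 1
        · exact Or.inl h3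
        · obtain ⟨g, hg⟩ := h.conj_inv hu hu1 h2 h3
          exact Or.inr (isConj_iff.2 ⟨g, hg.symm⟩)
      · rintro ⟨v, hv | hv, rfl⟩
        · exact inv_left hu (by simp [hv])
        · obtain ⟨g, rfl⟩ := isConj_iff.1 hv
          exact inv_left hu (sq_conj hu g)
    rw [e1, Set.ncard_image_of_injective _ (mul_right_injective u), Set.ncard_insert_of_notMem
      (show (1 : G) ∉ conjugatesOf u from fun e => hu1 (isConj_one_left.1 e)), Cls.ncard_conjugatesOf]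
  have hd : p ∣ (E \ Q).ncard := by
    have h2 : p ∣ 𝐂[u].index := by
      have h3 := (dvd_card_of_isPGroup hP.isPGroup hP0).trans (card_subgroup_dvd_card P)
      rw [← 𝐂[u].index_mul_card] at h3
      refine ((Nat.Prime.dvd_mul hp.out).1 h3).resolve_right ?_
      exact (piGrp_compl_singleton hp.out).1 (piGrp_compl_of_isPGroup (c1 u hu hu1) h.p2.symm)
    have h3 := Set.ncard_sdiff_add_ncard_of_subset hQE
    rw [hE, show (Q : Set G).ncard = p + 1 from h.card_syl hQ] at h3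
    exact (Nat.dvd_add_left dvd_rfl).1 (show p ∣ (E \ Q).ncard + p by
      rw [show (E \ Q).ncard + p = 𝐂[u].index by omega]; exact h2)
  have c5 : ∀ x ∈ E, ∀ c ∈ Q, c * x * c⁻¹ ∈ E := fun x hx c hc => by
    have h2 := mem_cent1.1 (c2.ge hc)
    change u * (c * x * c⁻¹) * u⁻¹ = (c * x * c⁻¹)⁻¹
    calc u * (c * x * c⁻¹) * u⁻¹ = (u * c) * x * (u * c)⁻¹ := by group
      _ = c * (u * x * u⁻¹) * c⁻¹ := by rw [← h2]; group
      _ = (c * x * c⁻¹)⁻¹ := by rw [show u * x * u⁻¹ = x⁻¹ from hx]; group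
  have c6 : ∀ x ∈ E \ Q, ∃ c ∈ Q, c * x * c⁻¹ ∈ P := by
    rintro x ⟨hx, hxQ⟩
    have h2 : PiElt {p} x := by
      refine piElt_p (h.piElt_of_inv hu hu1 hx) (by_contra fun e => hxQ (c2.le ?_))
      have h3 := h.sq_of_mem (c1 _ (h.sq_of_mem (isPGroup_zpowers_iff.2 (piElt_constt {2} x))
        (mem_zpowers _)) e) (mem_cent1.2 (commute_constt {2} x).eq.symm)
      refine mem_cent1_comm.1 (mem_cent1_iff_conj.2 ?_)
      rw [show u * x * u⁻¹ = x⁻¹ from hx, inv_eq_of_mul_eq_one_right h3]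
    have h3 : x ≠ 1 := fun e => hxQ (e ▸ one_mem Q)
    obtain ⟨g, -, hg⟩ := hP.exists_conj_le (le_top : zpowers x ≤ ⊤) (isPGroup_zpowers_iff.2 h2)
    have h4 : g * x * g⁻¹ ∈ P := hg (conj_mem_conj (mem_zpowers x))
    have h5 : g * u * g⁻¹ * (g * x * g⁻¹) * (g * u * g⁻¹)⁻¹ = (g * x * g⁻¹)⁻¹ := by
      calc _ = g * (u * x * u⁻¹) * g⁻¹ := by group
        _ = _ := by rw [show u * x * u⁻¹ = x⁻¹ from hx]; group
    have h6 : g * u * g⁻¹ ∈ 𝐍(P) := h.norm_of_inv (h2.conj g) (conj_ne_one.2 h3) (sq_conj hu g) h5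
      hP h4 (mem_norm_of_inv h5)
    have h7 : u * (g * u * g⁻¹) ∈ P := c4 (le_cent_symm (fun w hw => by
      rw [cent_zpowers]
      exact cent_of_inv_inv (c3 P hP u hu hu1 huP w hw)
        (c3 P hP _ (sq_conj hu g) (conj_ne_one.2 hu1) h6 w hw)) (mem_zpowers _))
    obtain ⟨w, hw, h8⟩ : ∃ w ∈ P, w * w = u * (g * u * g⁻¹) := by
      have h8 : (Nat.card P).Coprime 2 := (Nat.coprime_primes Nat.prime_two hp.out).2 h.p2.symm
        |>.symm |> fun e => by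
          obtain ⟨k, hk⟩ := IsPGroup.iff_card.1 hP.isPGroup
          rw [hk]; exact e.pow_left k
      obtain ⟨w, h9⟩ := (powCoprime h8).surjective ⟨_, h7⟩
      exact ⟨w, w.2, by rw [← sq]; exact congrArg Subtype.val h9⟩
    have h9 := c3 P hP u hu hu1 huP w hw
    have h10 : w * g ∈ Q := by
      refine c2.le (mem_cent1_iff_conj.2 ?_)
      have h11 : g * u * g⁻¹ = u * (w * w) := by rw [h8, ← mul_assoc u u, hu, one_mul]
      calc w * g * u * (w * g)⁻¹ = w * (g * u * g⁻¹) * w⁻¹ := by group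
        _ = w * (u * w * u⁻¹) * u := by rw [h11]; group
        _ = u := by rw [h9]; group
    refine ⟨w * g, h10, ?_⟩
    rw [show w * g * x * (w * g)⁻¹ = w * (g * x * g⁻¹) * w⁻¹ by group]
    exact mul_mem (mul_mem hw h4) (inv_mem hw)
  have key := Finset.card_mul_eq_card_mul (s := (Q : Set G).toFinset) (t := (E \ Q).toFinset)
    (m := ♯P - 1) (n := ♯(Q ⊓ 𝐍(P))) (fun c x => c * x * c⁻¹ ∈ P) (fun c hc => ?_) fun x hx => ?_
  · rw [← Set.ncard_eq_toFinset_card', ← Set.ncard_eq_toFinset_card',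
      show (Q : Set G).ncard = p + 1 from h.card_syl hQ] at key
    have h2 := hd.mul_right ♯(Q ⊓ 𝐍(P))
    rw [← key] at h2
    have h3 := dvd_card_of_isPGroup hP.isPGroup hP0
    rcases (Nat.Prime.dvd_mul hp.out).1 h2 with h4 | h4
    · exact hp.out.not_dvd_one ((Nat.dvd_add_right dvd_rfl).1 h4)
    · exact hp.out.not_dvd_one ((Nat.dvd_sub_iff_right (card_pos' P) h3).1 h4)
  · rw [Set.mem_toFinset] at hc
    rw [← ncard_sharp, ← Set.ncard_coe_finset]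
    refine Set.ncard_congr (fun x _ => c * x * c⁻¹) (fun x hx => ?_)
      (fun a b _ _ e => by simpa using e) fun w hw => ⟨c⁻¹ * w * c⁻¹⁻¹, ?_, by group⟩
    · simp only [Finset.coe_bipartiteAbove, Set.mem_ofPred_eq, Set.mem_toFinset] at hx
      exact mem_sharp_iff.2 ⟨hx.2, conj_ne_one.2 fun e => hx.1.2 (e ▸ one_mem Q)⟩
    · obtain ⟨hw, hw1⟩ := mem_sharp_iff.1 hw
      simp only [Finset.coe_bipartiteAbove, Set.mem_ofPred_eq, Set.mem_toFinset]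
      refine ⟨⟨c5 w (c3 P hP u hu hu1 huP w hw) _ (inv_mem hc), fun e => hw1 (hPQ w hw ?_)⟩,
        by simpa [mul_assoc] using hw⟩
      simpa [mul_assoc] using mul_mem (mul_mem hc e) (inv_mem hc)
  · rw [Set.mem_toFinset] at hx
    obtain ⟨c0, hc0, h2⟩ := c6 x hx
    rw [← Set.ncard_coe_finset]
    symm
    refine Set.ncard_congr (s := ((Q ⊓ 𝐍(P) : Subgroup G) : Set G)) (fun n _ => n * c0)
      (fun n hn => ?_) (fun a b _ _ e => by simpa using e) fun c hc => ⟨c * c0⁻¹, ?_, by group⟩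
    · simp only [Finset.coe_bipartiteBelow, Set.mem_ofPred_eq, Set.mem_toFinset]
      refine ⟨mul_mem hn.1 hc0, ?_⟩
      rw [show n * c0 * x * (n * c0)⁻¹ = n * (c0 * x * c0⁻¹) * n⁻¹ by group]
      exact conj_mem_of_norm hn.2 h2
    · simp only [Finset.coe_bipartiteBelow, Set.mem_ofPred_eq, Set.mem_toFinset] at hc
      refine ⟨Q.mul_mem hc.1 (Q.inv_mem hc0), conj_eq_self_iff.1 (h.syl_eq (w := c * x * c⁻¹)
        (conj_ne_one.2 fun e => hx.2 (e ▸ one_mem Q)) hu hu1 (mem_norm_of_inv (c5 x hx.1 c hc.1))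
        (hP.conj_of_mem trivial) ?_ hP hc.2)⟩
      rw [show c * x * c⁻¹ = c * c0⁻¹ * (c0 * x * c0⁻¹) * (c * c0⁻¹)⁻¹ by group]
      exact conj_mem_conj h2

theorem Min.false (h : Min p G) : False :=
  h.case2a fun _ _ => h.case2b

theorem Hyp.piGrp_aux [hq : Fact q.Prime] (hpq : p ≠ q) (hp2 : p ≠ 2) (n : ℕ) :
    ∀ (G : Type u) [Group G] [Finite G], Nat.card G = n → Hyp p q G → q ∣ Nat.card G →
      IsPiNum {q, p} (Nat.card G) := by
  induction n using Nat.strong_induction_on with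
  | _ n ih =>
  intro G _ _ hn h hd
  by_contra h0
  have h0' : ¬ PiGrp {q, p} (⊤ : Subgroup G) := by rwa [PiGrp, card_top]
  have h1 : ∀ H : Subgroup G, H ≠ ⊤ → q ∣ ♯H → PiGrp {q, p} H := fun H hH h1 =>
    ih _ (by rw [← hn, ← card_top (G := G)]; exact card_lt (lt_top_iff_ne_top.2 hH)) H rfl
      (h.subgroup H) h1
  have h2 : ∀ N : Subgroup G, N.Normal → N = ⊥ ∨ N = ⊤ := fun N hN => by
    by_contra h2
    rw [not_or] at h2
    have frat : ∀ (r t : ℕ) [Fact t.Prime], r.Prime → r ∣ N.index → t ∣ ♯N →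
        ∃ T R : Subgroup G, IsPGroup t T ∧ IsPGroup r R ∧ T ≠ ⊥ ∧ R ≠ ⊥ ∧ R ≤ 𝐍(T) := by
      intro r t _ hr h3 h4
      obtain ⟨T, hT⟩ := exists_syl t N
      have h5 := (hT.frattini (normalIn_top.2 hN)).symm.relIndex_eq
      rw [relIndex_top_right] at h5
      obtain ⟨x, hx, h6⟩ := cauchy hr ((h5 ▸ h3).trans (relIndex_dvd_card _ _))
      exact ⟨T, zpowers x, hT.isPGroup, isPGroup_of_card_prime_pow (n := 1)
        (by rw [Nat.card_zpowers, h6, pow_one]), hT.ne_bot h4,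
        by rw [ne_eq, zpowers_eq_bot]; rintro rfl; simp at h6; exact hr.ne_one h6.symm,
        zpowers_le.2 hx.2⟩
    by_cases h3 : q ∣ ♯N
    · obtain ⟨r, hr, h4, h5⟩ := exists_prime_not_mem h0
      rw [← N.card_mul_index] at h4
      obtain ⟨T, R, h6, h7, h8, h9, h10⟩ := frat r q hr (((Nat.Prime.dvd_mul hr).1 h4).resolve_left
        ((h1 N h2.2 h3).not_dvd hr h5)) h3
      simp only [Set.mem_insert_iff, Set.mem_singleton_iff, not_or] at h5
      exact h5.2 (h.eq_of_norm hpq hr h5.1 h6 h7 h8 h9 (Or.inl h10))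
    · rw [← N.card_mul_index] at hd
      have h4 := ((Nat.Prime.dvd_mul hq.out).1 hd).resolve_left h3
      have h5 : PiGrp {p} N := fun t ht h5 => by
        have := Fact.mk ht
        obtain ⟨T, R, h6, h7, h8, h9, h10⟩ := frat q t hq.out h4 h5
        exact h.eq_of_norm hpq ht (by rintro rfl; exact h3 h5) h7 h6 h9 h8 (Or.inr h10)
      refine h0 ?_
      rw [← N.card_mul_index]
      refine isPiNum_mul_iff.2 ⟨IsPiNum.mono h5 (by simp), ih _ ?_ (G ⧸ N) rfl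
        (h.quotient N h5.isPGroup) h4⟩
      rw [← hn, ← N.card_mul_index]
      exact (lt_mul_iff_one_lt_left (Nat.pos_of_ne_zero N.index_ne_zero_of_finite)).2
        (one_lt_card h2.1)
  have h3 : ¬ PNil q (⊤ : Subgroup G) := fun e => by
    rcases h2 _ (normalIn_top.1 (Opi_normal ({q} : Set ℕ)ᶜ ⊤)) with h3 | h3
    · have h4 := pnil_iff_relIndex.1 e
      rw [show Op' q (⊤ : Subgroup G) = ⊥ from h3, relIndex_bot_left] at h4
      exact h0' (IsPiNum.mono h4 (by simp))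
    · exact not_dvd_Op' (p := q) (⊤ : Subgroup G)
        (by rwa [show Op' q (⊤ : Subgroup G) = ⊤ from h3, card_top])
  obtain ⟨Q, -, h4, r, hr, h5, Y, -, h6, h7, h8⟩ := exists_of_not_pnil h3
  have hY : Y ≠ ⊥ := fun e => h8 (e ▸ bot_le)
  have hQ : Q ≠ ⊥ := fun e => h8 (le_cent_symm (e ▸ bot_le))
  obtain rfl := h.eq_of_norm hpq hr h5 h4 h6 hQ hY (Or.inl h7)
  have h9 := (trans_of_small h6 h7 h8 (h.small Q h4)).1
  obtain rfl : q = 2 := by
    obtain ⟨k, hk⟩ := IsPGroup.iff_card.1 h4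
    have h10 : 2 ∣ q ^ k := by
      rw [← hk, h9]; exact (hp.out.odd_of_ne_two hp2).add_one.two_dvd
    exact ((Nat.prime_dvd_prime_iff_eq Nat.prime_two hq.out).1
      (Nat.prime_two.dvd_of_dvd_pow h10)).symm
  exact Min.false ⟨h, hp2, h.ab.resolve_left fun e => by have := e Q h4; omega, h2, h0', h1, h3⟩

theorem Hyp.piGrp [Fact q.Prime] (h : Hyp p q G) (hpq : p ≠ q) (hp2 : p ≠ 2)
    (hd : q ∣ Nat.card G) : IsPiNum {q, p} (Nat.card G) :=
  Hyp.piGrp_aux hpq hp2 _ G rfl h hd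

end Cfsg.Agent.Mix
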